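/-
Overgroups of the normaliser of an extension field `K` of odd prime degree in an orthogonal group
over `F`, in the case of a three-dimensional space over `K`: frames, coordinate maps and moves.

Main definitions: `OrThree`, `Frame`, `Frame.u`, `Frame.auto`, `Frame.swap`.
Main results: `OrThree.exists_frame`, `OrThree.exists_move`, `OrThree.exists_scalar_sq`.
-/
import Cfsg.Agent.Lib.FieldExtMax.OrBase
import Cfsg.Agent.Lib.FieldExtMax.Lines
import Mathlib.RingTheory.Trace.Basic
import Mathlib.FieldTheory.Finite.Extension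

set_option autoImplicit false
set_option linter.unusedSectionVars false

namespace Cfsg.Agent.FieldExtMax

open Module

variable {F K V : Type*} [Field F] [Finite F] [Field K] [Finite K] [Algebra F K]
  [AddCommGroup V] [Module F V] [Module K V] [IsScalarTower F K V] [Finite V]

/-- `M` lies in the isometry group of `trace ∘ B`, for a symmetric `B` on a space of dimension
three over `K`, and contains what normalises `K`. -/
structure OrThree (B : V →ₗ[K] V →ₗ[K] K) (M : Subgroup (V ≃ₗ[F] V)) : Prop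
    extends OrCore B (Algebra.trace F K) M where
  dim3 : finrank K V = 3
  three_le : 3 ≤ finrank F K
  semi : ∀ g : V ≃ₗ[F] V, (∃ τ : K ≃ₐ[F] K, ∀ (k : K) x, g (k • x) = τ k • g x) →
    (∀ x y, Algebra.trace F K (B (g x) (g y)) = Algebra.trace F K (B x y)) →
    (∃ m, Odd m ∧ g ^ m = 1) → g ∈ M
  det_one : ∀ g ∈ M, LinearMap.det (g : V →ₗ[F] V) = 1

/-- A singular pair and an orthogonal vector with norm in `F`. -/
structure Frame (B : V →ₗ[K] V →ₗ[K] K) (F : Type*) [Field F] [Algebra F K] where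
  /-- the first singular vector -/
  a : V
  /-- its partner -/
  a' : V
  /-- the orthogonal vector -/
  z : V
  /-- its norm -/
  δ : F
  aa : B a a = 0
  a'a' : B a' a' = 0
  aa' : B a a' = 1
  a'a : B a' a = 1
  az : B a z = 0
  za : B z a = 0
  a'z : B a' z = 0
  za' : B z a' = 0
  zz : B z z = algebraMap F K δ
  δ0 : δ ≠ 0
  two : (2 : K) ≠ 0
  symm : ∀ x y, B x y = B y x
  dec : ∀ x, x = B x a' • a + B x a • a' + (B x z / algebraMap F K δ) • z

variable {B : V →ₗ[K] V →ₗ[K] K} {M : Subgroup (V ≃ₗ[F] V)}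

lemma adjoin_eq_top (hdeg : (finrank F K).Prime) {s : K} (hs : s ∉ Set.range (algebraMap F K))
    (S : Subalgebra F K) (hsS : s ∈ S) : S = ⊤ := by
  haveI := Subalgebra.isSimpleOrder_of_finrank_prime F K hdeg
  refine (eq_bot_or_eq_top S).resolve_left fun h => hs ?_
  rw [h] at hsS
  exact Algebra.mem_bot.1 hsS

lemma natCard_aut : Nat.card (K ≃ₐ[F] K) = finrank F K := by
  haveI : Module.Finite F K := Module.Finite.of_finite
  exact IsGalois.card_aut_eq_finrank F K

lemma trace_aut (τ : K ≃ₐ[F] K) (x : K) : Algebra.trace F K (τ x) = Algebra.trace F K x :=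
  Algebra.trace_eq_of_algEquiv τ x

namespace Frame

variable (fr : Frame B F)

lemma δK : algebraMap F K fr.δ ≠ 0 := by
  simpa using fr.δ0

lemma ne_a : fr.a ≠ 0 := fun h => by
  have := fr.aa'
  rw [h, map_zero, LinearMap.zero_apply] at this
  exact zero_ne_one this

lemma ne_a' : fr.a' ≠ 0 := fun h => by
  have := fr.aa'
  rw [h, map_zero] at this
  exact zero_ne_one this

lemma ext {x y : V} (h1 : B x fr.a' = B y fr.a') (h2 : B x fr.a = B y fr.a)
    (h3 : B x fr.z = B y fr.z) : x = y := by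
  rw [fr.dec x, fr.dec y, h1, h2, h3]

lemma coord_add (p q s : K) :
    B (p • fr.a + q • fr.a' + s • fr.z) fr.a' = p ∧ B (p • fr.a + q • fr.a' + s • fr.z) fr.a = q ∧
      B (p • fr.a + q • fr.a' + s • fr.z) fr.z = s * algebraMap F K fr.δ := by
  simp [fr.aa, fr.a'a', fr.aa', fr.a'a, fr.az, fr.za, fr.a'z, fr.za', fr.zz]

lemma inner_eq (x y : V) : B x y = B x fr.a' * B y fr.a + B x fr.a * B y fr.a'
    + B x fr.z * B y fr.z / algebraMap F K fr.δ := by
  conv_lhs => rw [fr.dec y]
  simp only [map_add, map_smul, smul_eq_mul]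
  field_simp
  ring

/-- The pair interchanged. -/
def swap : Frame B F where
  a := fr.a'
  a' := fr.a
  z := fr.z
  δ := fr.δ
  aa := fr.a'a'
  a'a' := fr.aa
  aa' := fr.a'a
  a'a := fr.aa'
  az := fr.a'z
  za := fr.za'
  a'z := fr.az
  za' := fr.za
  zz := fr.zz
  δ0 := fr.δ0
  two := fr.two
  symm := fr.symm
  dec x := by conv_lhs => rw [fr.dec x, add_comm (B x fr.a' • fr.a)]

/-- The `K`-linear map with given values on the frame. -/
noncomputable def lin (p q s : V) : V →ₗ[K] V :=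
  (B.flip fr.a').smulRight p + (B.flip fr.a).smulRight q
    + ((algebraMap F K fr.δ)⁻¹ • B.flip fr.z).smulRight s

lemma lin_apply (p q s x : V) :
    fr.lin p q s x = B x fr.a' • p + B x fr.a • q + (B x fr.z / algebraMap F K fr.δ) • s := by
  simp [lin, div_eq_inv_mul]

/-- The Siegel map of `a` and `k • z`. -/
noncomputable def uMap (k : K) : V →ₗ[K] V := sieg B fr.a (k • fr.z)

lemma uMap_apply (k : K) (x : V) : fr.uMap k x = x + (k * B x fr.a) • fr.z - (k * B x fr.z) • fr.a
    - ((2 : K)⁻¹ * algebraMap F K fr.δ * (k * k) * B x fr.a) • fr.a := by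
  simp only [uMap, sieg_apply, map_smul, LinearMap.smul_apply, smul_eq_mul, smul_smul, fr.zz]
  ring_nf

lemma uMap_coord (k : K) (x : V) :
    B (fr.uMap k x) fr.a' = B x fr.a' - k * B x fr.z
        - (2 : K)⁻¹ * algebraMap F K fr.δ * (k * k) * B x fr.a ∧
      B (fr.uMap k x) fr.a = B x fr.a ∧
      B (fr.uMap k x) fr.z = B x fr.z + k * B x fr.a * algebraMap F K fr.δ := by
  simp [uMap_apply, fr.aa, fr.aa', fr.az, fr.za, fr.za', fr.zz]

lemma uMap_add (k l : K) (x : V) : fr.uMap k (fr.uMap l x) = fr.uMap (k + l) x := by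
  obtain ⟨h1, h2, h3⟩ := fr.uMap_coord l x
  refine fr.ext ?_ ?_ ?_
  · rw [(fr.uMap_coord k _).1, (fr.uMap_coord (k + l) x).1, h1, h2, h3]
    field_simp [fr.two]
    ring
  · rw [(fr.uMap_coord k _).2.1, (fr.uMap_coord (k + l) x).2.1, h2]
  · rw [(fr.uMap_coord k _).2.2, (fr.uMap_coord (k + l) x).2.2, h2, h3]
    ring

lemma uMap_zero (x : V) : fr.uMap 0 x = x := by simp [uMap_apply]

/-- The Siegel element of `a` and `k • z`. -/
noncomputable def u (k : K) : V ≃ₗ[F] V :=
  LinearEquiv.ofLinear ((fr.uMap k).restrictScalars F) ((fr.uMap (-k)).restrictScalars F)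
    (LinearMap.ext fun x => by simp [fr.uMap_add, fr.uMap_zero])
    (LinearMap.ext fun x => by simp [fr.uMap_add, fr.uMap_zero])

lemma u_eq (k : K) (x : V) : fr.u k x = fr.uMap k x := rfl

lemma u_apply (k : K) (x : V) : fr.u k x = x + (k * B x fr.a) • fr.z - (k * B x fr.z) • fr.a
    - ((2 : K)⁻¹ * algebraMap F K fr.δ * (k * k) * B x fr.a) • fr.a :=
  fr.uMap_apply k x

lemma u_coord (k : K) (x : V) :
    B (fr.u k x) fr.a' = B x fr.a' - k * B x fr.z
        - (2 : K)⁻¹ * algebraMap F K fr.δ * (k * k) * B x fr.a ∧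
      B (fr.u k x) fr.a = B x fr.a ∧
      B (fr.u k x) fr.z = B x fr.z + k * B x fr.a * algebraMap F K fr.δ :=
  fr.uMap_coord k x

lemma u_smul (k l : K) (x : V) : fr.u k (l • x) = l • fr.u k x := (fr.uMap k).map_smul l x

lemma u_add (k l : K) : fr.u k * fr.u l = fr.u (k + l) :=
  LinearEquiv.ext fun x => fr.uMap_add k l x

lemma u_zero : fr.u 0 = 1 := LinearEquiv.ext fun x => fr.uMap_zero x

lemma u_line (k : K) {x : V} (hx : x ∈ line F K fr.a) : fr.u k x = x := by
  obtain ⟨c, rfl⟩ := mem_line.1 hx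
  simp [u_apply, fr.aa, fr.az]

lemma u_a (k : K) : fr.u k fr.a = fr.a := fr.u_line k (mem_line.2 ⟨1, one_smul _ _⟩)

lemma u_isom (k : K) (x y : V) : B (fr.u k x) (fr.u k y) = B x y := by
  rw [fr.inner_eq (fr.u k x), fr.inner_eq x y, (fr.u_coord k x).1, (fr.u_coord k x).2.1,
    (fr.u_coord k x).2.2, (fr.u_coord k y).1, (fr.u_coord k y).2.1, (fr.u_coord k y).2.2]
  field_simp [fr.two, fr.δK]
  ring

/-- Field automorphisms in the coordinates of the frame, as a linear map. -/
noncomputable def autoMap (τ : K ≃ₐ[F] K) : V →ₗ[F] V where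
  toFun x := τ (B x fr.a') • fr.a + τ (B x fr.a) • fr.a'
    + (τ (B x fr.z) / algebraMap F K fr.δ) • fr.z
  map_add' x y := by
    simp only [map_add, LinearMap.add_apply, add_div, add_smul]
    abel
  map_smul' c x := by
    simp only [LinearMap.map_smul_of_tower, LinearMap.smul_apply, map_smul, RingHom.id_apply,
      smul_div_assoc, smul_assoc, smul_add]

lemma autoMap_coord (τ : K ≃ₐ[F] K) (x : V) : B (fr.autoMap τ x) fr.a' = τ (B x fr.a') ∧
    B (fr.autoMap τ x) fr.a = τ (B x fr.a) ∧ B (fr.autoMap τ x) fr.z = τ (B x fr.z) := by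
  obtain ⟨h1, h2, h3⟩ := fr.coord_add (τ (B x fr.a')) (τ (B x fr.a))
    (τ (B x fr.z) / algebraMap F K fr.δ)
  exact ⟨h1, h2, h3.trans (div_mul_cancel₀ _ fr.δK)⟩

lemma autoMap_comp (τ σ : K ≃ₐ[F] K) (x : V) :
    fr.autoMap τ (fr.autoMap σ x) = fr.autoMap (τ * σ) x := by
  obtain ⟨h1, h2, h3⟩ := fr.autoMap_coord σ x
  refine fr.ext ?_ ?_ ?_
  · rw [(fr.autoMap_coord τ _).1, (fr.autoMap_coord (τ * σ) x).1, h1]; rfl
  · rw [(fr.autoMap_coord τ _).2.1, (fr.autoMap_coord (τ * σ) x).2.1, h2]; rfl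
  · rw [(fr.autoMap_coord τ _).2.2, (fr.autoMap_coord (τ * σ) x).2.2, h3]; rfl

lemma autoMap_one (x : V) : fr.autoMap 1 x = x := by
  obtain ⟨h1, h2, h3⟩ := fr.autoMap_coord 1 x
  exact fr.ext (by simpa using h1) (by simpa using h2) (by simpa using h3)

/-- Field automorphisms in the coordinates of the frame. -/
noncomputable def auto : (K ≃ₐ[F] K) →* (V ≃ₗ[F] V) where
  toFun τ := LinearEquiv.ofLinear (fr.autoMap τ) (fr.autoMap τ⁻¹)
    (LinearMap.ext fun x => by simp [fr.autoMap_comp, fr.autoMap_one])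
    (LinearMap.ext fun x => by simp [fr.autoMap_comp, fr.autoMap_one])
  map_one' := LinearEquiv.ext fun x => fr.autoMap_one x
  map_mul' τ σ := LinearEquiv.ext fun x => (fr.autoMap_comp τ σ x).symm

lemma auto_coord (τ : K ≃ₐ[F] K) (x : V) : B (fr.auto τ x) fr.a' = τ (B x fr.a') ∧
    B (fr.auto τ x) fr.a = τ (B x fr.a) ∧ B (fr.auto τ x) fr.z = τ (B x fr.z) :=
  fr.autoMap_coord τ x

lemma auto_inner (τ : K ≃ₐ[F] K) (x y : V) : B (fr.auto τ x) (fr.auto τ y) = τ (B x y) := by
  rw [fr.inner_eq (fr.auto τ x), fr.inner_eq x y, (fr.auto_coord τ x).1, (fr.auto_coord τ x).2.1,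
    (fr.auto_coord τ x).2.2, (fr.auto_coord τ y).1, (fr.auto_coord τ y).2.1,
    (fr.auto_coord τ y).2.2]
  simp

lemma auto_smul (τ : K ≃ₐ[F] K) (k : K) (x : V) : fr.auto τ (k • x) = τ k • fr.auto τ x := by
  refine fr.ext ?_ ?_ ?_
  · simp [(fr.auto_coord τ (k • x)).1, (fr.auto_coord τ x).1]
  · simp [(fr.auto_coord τ (k • x)).2.1, (fr.auto_coord τ x).2.1]
  · simp [(fr.auto_coord τ (k • x)).2.2, (fr.auto_coord τ x).2.2]

lemma auto_a (τ : K ≃ₐ[F] K) : fr.auto τ fr.a = fr.a := by
  refine fr.ext ?_ ?_ ?_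
  · simp [(fr.auto_coord τ _).1, fr.aa']
  · simp [(fr.auto_coord τ _).2.1, fr.aa]
  · simp [(fr.auto_coord τ _).2.2, fr.az]

lemma auto_a' (τ : K ≃ₐ[F] K) : fr.auto τ fr.a' = fr.a' := by
  refine fr.ext ?_ ?_ ?_
  · simp [(fr.auto_coord τ _).1, fr.a'a']
  · simp [(fr.auto_coord τ _).2.1, fr.a'a]
  · simp [(fr.auto_coord τ _).2.2, fr.a'z]

lemma auto_z (τ : K ≃ₐ[F] K) : fr.auto τ fr.z = fr.z := by
  refine fr.ext ?_ ?_ ?_
  · simp [(fr.auto_coord τ _).1, fr.za']
  · simp [(fr.auto_coord τ _).2.1, fr.za]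
  · simp [(fr.auto_coord τ _).2.2, fr.zz]

lemma auto_mul_u (τ : K ≃ₐ[F] K) (k : K) : fr.auto τ * fr.u k = fr.u (τ k) * fr.auto τ := by
  refine LinearEquiv.ext fun x => fr.ext ?_ ?_ ?_ <;>
    simp [(fr.auto_coord τ _).1, (fr.auto_coord τ _).2.1, (fr.auto_coord τ _).2.2,
      (fr.u_coord _ _).1, (fr.u_coord _ _).2.1, (fr.u_coord _ _).2.2, map_ofNat]

lemma auto_pres (τ : K ≃ₐ[F] K) (x y : V) :
    Algebra.trace F K (B (fr.auto τ x) (fr.auto τ y)) = Algebra.trace F K (B x y) := by
  rw [fr.auto_inner, trace_aut]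

end Frame

namespace OrThree

variable (hM : OrThree B M)
include hM

lemma deg_odd : Odd (finrank F K) :=
  hM.deg.odd_of_ne_two (by have := hM.three_le; omega)

lemma trace_smul (c : F) (x : K) :
    Algebra.trace F K (algebraMap F K c * x) = c * Algebra.trace F K x := by
  rw [← Algebra.smul_def, map_smul, smul_eq_mul]

lemma twoF : (2 : F) ≠ 0 := fun h => hM.two (by
  rw [← map_ofNat (algebraMap F K) 2, h, map_zero])

lemma auto_mem (fr : Frame B F) (τ : K ≃ₐ[F] K) : fr.auto τ ∈ M := by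
  haveI : Module.Finite F K := Module.Finite.of_finite
  refine hM.semi _ ⟨τ, fr.auto_smul τ⟩ (fr.auto_pres τ) ⟨finrank F K, hM.deg_odd, ?_⟩
  rw [← map_pow, ← natCard_aut, pow_card_eq_one', map_one]

lemma u_mem (fr : Frame B F) (k : K) : fr.u k ∈ M := by
  obtain ⟨g, hg, hgx⟩ := hM.siegel_mem fr.aa (b := k • fr.z) (by simp [fr.az])
  have : fr.u k = g := LinearEquiv.ext fun x => by
    rw [hgx, fr.u_apply]
    simp [smul_smul, fr.zz, mul_comm, mul_left_comm]
    congr 1
    ring
  rwa [this]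

/-- Square classes of `K` meet `F`. -/
lemma exists_sq_rep {d : K} (hd : d ≠ 0) :
    ∃ (δ : F) (k : K), k ≠ 0 ∧ k * k * d = algebraMap F K δ := by
  classical
  by_cases hsq : IsSquare d
  · obtain ⟨k, rfl⟩ := hsq
    have hk : k ≠ 0 := fun h => hd (by rw [h, mul_zero])
    exact ⟨1, k⁻¹, inv_ne_zero hk, by rw [map_one]; field_simp⟩
  letI := Fintype.ofFinite F
  letI := Fintype.ofFinite K
  have hcF : ringChar F ≠ 2 := fun h => hM.twoF (by
    haveI := ringChar.of_eq h
    exact CharTwo.two_eq_zero)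
  have hcK : ringChar K ≠ 2 := fun h => hM.two (by
    haveI := ringChar.of_eq h
    exact CharTwo.two_eq_zero)
  obtain ⟨ν, hν⟩ := FiniteField.exists_nonsquare hcF
  have hν0 : algebraMap F K ν ≠ 0 := by
    rw [map_ne_zero]
    rintro rfl
    exact hν ⟨0, (mul_zero 0).symm⟩
  have hνK : ¬ IsSquare (algebraMap F K ν) := by
    rintro ⟨k, hk⟩
    by_cases hkF : k ∈ Set.range (algebraMap F K)
    · obtain ⟨c, rfl⟩ := hkF
      exact hν ⟨c, (algebraMap F K).injective (by rw [hk, map_mul])⟩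
    · -- otherwise `1, k` would span `K`
      let S : Subalgebra F K :=
        { carrier := {x | ∃ s t : F, x = algebraMap F K s + algebraMap F K t * k}
          mul_mem' := by
            rintro _ _ ⟨s, t, rfl⟩ ⟨s', t', rfl⟩
            refine ⟨s * s' + t * t' * ν, s * t' + t * s', ?_⟩
            simp only [map_add, map_mul]
            linear_combination -(algebraMap F K t * algebraMap F K t') * hk
          add_mem' := by
            rintro _ _ ⟨s, t, rfl⟩ ⟨s', t', rfl⟩
            exact ⟨s + s', t + t', by simp only [map_add]; ring⟩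
          algebraMap_mem' := fun s => ⟨s, 0, by simp⟩ }
      have htop := adjoin_eq_top hM.deg hkF S ⟨0, 1, by simp⟩
      let f : (Fin 2 → F) →ₗ[F] K := Fintype.linearCombination F ![1, k]
      have hf : Function.Surjective f := fun x => by
        obtain ⟨s, t, rfl⟩ : x ∈ S := htop ▸ Algebra.mem_top
        exact ⟨![s, t], by simp [f, Fintype.linearCombination_apply, Fin.sum_univ_two,
          Algebra.smul_def]⟩
      haveI : Module.Finite F K := Module.Finite.of_finite
      have h1 := LinearMap.finrank_le_finrank_of_surjective (f := f) hf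
      rw [Module.finrank_fintype_fun_eq_card, Fintype.card_fin] at h1
      have := hM.three_le
      omega
  have hdν : IsSquare (d * algebraMap F K ν) := by
    rw [FiniteField.isSquare_iff hcK (mul_ne_zero hd hν0), mul_pow]
    rw [FiniteField.isSquare_iff hcK hd] at hsq
    rw [FiniteField.isSquare_iff hcK hν0] at hνK
    rw [(FiniteField.pow_dichotomy hcK hd).resolve_left hsq,
      (FiniteField.pow_dichotomy hcK hν0).resolve_left hνK, neg_one_mul, neg_neg]
  obtain ⟨c, hc⟩ := hdν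
  have hc0 : c ≠ 0 := fun h => mul_ne_zero hd hν0 (by rw [hc, h, mul_zero])
  refine ⟨ν, algebraMap F K ν / c, div_ne_zero hν0 hc0, ?_⟩
  field_simp
  linear_combination hc

/-- Three vectors with the products of a frame, the last not zero. -/
lemma span_top {a a' z : V} (haa : B a a = 0) (ha'a' : B a' a' = 0) (haa' : B a a' = 1)
    (haz : B a z = 0) (ha'z : B a' z = 0) (hz : z ≠ 0) :
    Submodule.span K (Set.range ![a, a', z]) = ⊤ := by
  haveI : Module.Finite K V := Module.Finite.of_finite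
  refine (Fintype.linearIndependent_iff.2 fun g hg => ?_).span_eq_top_of_card_eq_finrank'
    (by simp [hM.dim3])
  simp only [Fin.sum_univ_three, Matrix.cons_val_zero, Matrix.cons_val_one, Matrix.cons_val] at hg
  have h1 : g 1 = 0 := by
    have := congrArg (B a) hg
    simpa [haa, haa', haz] using this
  have h0 : g 0 = 0 := by
    have := congrArg (B a') hg
    simpa [ha'a', ha'z, hM.symm a' a, haa'] using this
  rw [h0, h1, zero_smul, zero_smul, zero_add, zero_add, smul_eq_zero] at hg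
  intro i
  fin_cases i
  · exact h0
  · exact h1
  · exact hg.resolve_right hz

lemma eq_zero_of_frame {a a' z : V} (htop : Submodule.span K (Set.range ![a, a', z]) = ⊤) {d : V}
    (h1 : B d a = 0) (h2 : B d a' = 0) (h3 : B d z = 0) : d = 0 := by
  refine hM.nondeg d fun y => ?_
  have hle : Submodule.span K (Set.range ![a, a', z]) ≤ LinearMap.ker (B d) := by
    rw [Submodule.span_le]
    rintro _ ⟨i, rfl⟩
    fin_cases i <;> simpa
  rw [htop] at hle
  exact hle Submodule.mem_top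

/-- A frame from three vectors with its products. -/
lemma frame_of {a a' z : V} {δ : F} (haa : B a a = 0) (ha'a' : B a' a' = 0) (haa' : B a a' = 1)
    (haz : B a z = 0) (ha'z : B a' z = 0) (hzz : B z z = algebraMap F K δ) (hδ : δ ≠ 0) :
    ∃ fr : Frame B F, fr.a = a ∧ fr.a' = a' ∧ fr.z = z ∧ fr.δ = δ := by
  have hδK : algebraMap F K δ ≠ 0 := by simpa using hδ
  have hza := (hM.symm z a).trans haz
  have hza' := (hM.symm z a').trans ha'z
  have ha'a := (hM.symm a' a).trans haa'
  have htop := hM.span_top haa ha'a' haa' haz ha'z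
    (fun h => hδK (by rw [← hzz, h, map_zero]))
  exact ⟨{ a := a, a' := a', z := z, δ := δ, aa := haa, a'a' := ha'a', aa' := haa', a'a := ha'a, az := haz, za := hza, a'z := ha'z,
           za' := hza', zz := hzz, δ0 := hδ, two := hM.two, symm := hM.symm,
           dec := fun x => sub_eq_zero.1 (hM.eq_zero_of_frame htop
             (by simp [haa, ha'a, hza]) (by simp [haa', ha'a', hza'])
             (by simp [haz, ha'z, hzz, hδK])) }, rfl, rfl, rfl, rfl⟩

/-- Every singular vector starts a frame. -/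
theorem exists_frame {a : V} (ha : a ≠ 0) (hs : B a a = 0) : ∃ fr : Frame B F, fr.a = a := by
  haveI : Module.Finite K V := Module.Finite.of_finite
  obtain ⟨a', haa', -, hs'⟩ := hM.exists_partner ha hs
  obtain ⟨z₀, hz₀, hz0⟩ : ∃ z₀ ∈ perpK B a a', z₀ ≠ 0 := by
    refine (Submodule.ne_bot_iff _).1 fun h => ?_
    have := finrank_perpK B a a'
    rw [h, finrank_bot, hM.dim3] at this
    omega
  rw [mem_perpK] at hz₀
  have hd : B z₀ z₀ ≠ 0 := fun h => hz0 (hM.eq_zero_of_frame
    (hM.span_top hs hs' haa' hz₀.1 hz₀.2 hz0) (by rw [hM.symm, hz₀.1]) (by rw [hM.symm, hz₀.2]) h)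
  obtain ⟨δ, k, hk, hkd⟩ := hM.exists_sq_rep hd
  obtain ⟨fr, hfr, -⟩ := hM.frame_of (z := k • z₀) (δ := δ) hs hs' haa' (by simp [hz₀.1])
    (by simp [hz₀.2]) (by simp [← hkd, mul_assoc])
    (fun h => mul_ne_zero (mul_ne_zero hk hk) hd (by rw [hkd, h, map_zero]))
  exact ⟨fr, hfr⟩

lemma exists_swap (fr : Frame B F) {l : K} (hl : l ≠ 0) :
    ∃ g ∈ M, (∀ (k : K) x, g (k • x) = k • g x) ∧ (∀ x y, B (g x) (g y) = B x y) ∧
      g fr.a = (-((2 : K)⁻¹ * algebraMap F K fr.δ * (l * l))) • fr.a' := by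
  refine ⟨fr.u (2 / (algebraMap F K fr.δ * l)) * fr.swap.u l,
    mul_mem (hM.u_mem fr _) (hM.u_mem fr.swap l), fun k x => ?_, fun x y => ?_, ?_⟩
  · show fr.u _ (fr.swap.u l (k • x)) = k • fr.u _ (fr.swap.u l x)
    rw [fr.swap.u_smul, fr.u_smul]
  · show B (fr.u _ (fr.swap.u l x)) (fr.u _ (fr.swap.u l y)) = B x y
    rw [fr.u_isom, fr.swap.u_isom]
  · show fr.u _ (fr.swap.u l fr.a) = _
    have hδ := fr.δK
    have h2 := hM.two
    obtain ⟨h1, h2', h3⟩ := fr.swap.u_coord l fr.a
    have e1 : B (fr.swap.u l fr.a) fr.a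
        = -((2 : K)⁻¹ * algebraMap F K fr.δ * (l * l)) := by
      simpa [Frame.swap, fr.aa, fr.az, fr.aa'] using h1
    have e2 : B (fr.swap.u l fr.a) fr.a' = 1 := by
      simpa [Frame.swap, fr.aa'] using h2'
    have e3 : B (fr.swap.u l fr.a) fr.z = l * algebraMap F K fr.δ := by
      simpa [Frame.swap, fr.az, fr.aa'] using h3
    refine fr.ext ?_ ?_ ?_
    · rw [(fr.u_coord _ _).1, e1, e2, e3, map_smul, LinearMap.smul_apply, fr.a'a', smul_zero]
      field_simp
      ring
    · rw [(fr.u_coord _ _).2.1, e1, map_smul, LinearMap.smul_apply, fr.a'a, smul_eq_mul, mul_one]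
    · rw [(fr.u_coord _ _).2.2, e1, e3, map_smul, LinearMap.smul_apply, fr.a'z, smul_zero]
      field_simp
      ring

/-- Isometries in `M` are transitive on singular lines. -/
theorem exists_move (fr : Frame B F) {b : V} (hb : b ≠ 0) (hs : B b b = 0) :
    ∃ g ∈ M, (∀ (k : K) x, g (k • x) = k • g x) ∧ (∀ x y, B (g x) (g y) = B x y) ∧
      ∃ e : K, e ≠ 0 ∧ g fr.a = e • b := by
  have hq := fr.inner_eq b b
  rw [hs] at hq
  by_cases hba : B b fr.a = 0
  · refine ⟨1, one_mem M, fun k x => rfl, fun x y => rfl, ?_⟩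
    have hbz : B b fr.z = 0 := by
      rw [hba, mul_zero, zero_mul, zero_add, zero_add, eq_comm, div_eq_zero_iff, mul_self_eq_zero]
        at hq
      exact hq.resolve_right fr.δK
    have hb' := fr.dec b
    rw [hba, hbz, zero_smul, zero_div, zero_smul, add_zero, add_zero] at hb'
    have hne : B b fr.a' ≠ 0 := fun h => hb (by rw [hb', h, zero_smul])
    exact ⟨(B b fr.a')⁻¹, inv_ne_zero hne, (eq_inv_smul_iff₀ hne).2 hb'.symm⟩
  · have hδ := fr.δK
    have h2 := hM.two
    obtain ⟨g, hg, hgl, hgB, hga⟩ := hM.exists_swap fr (one_ne_zero (α := K))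
    set k := B b fr.z / (B b fr.a * algebraMap F K fr.δ) with hk
    have he : fr.u k fr.a' = (B b fr.a)⁻¹ • b := by
      refine fr.ext ?_ ?_ ?_
      · rw [(fr.u_coord _ _).1, fr.a'a', fr.a'z, fr.a'a, hk, map_smul, LinearMap.smul_apply,
          smul_eq_mul]
        field_simp
        field_simp at hq
        linear_combination hq
      · rw [(fr.u_coord _ _).2.1, fr.a'a, map_smul, LinearMap.smul_apply, smul_eq_mul,
          inv_mul_cancel₀ hba]
      · rw [(fr.u_coord _ _).2.2, fr.a'z, fr.a'a, hk, map_smul, LinearMap.smul_apply, smul_eq_mul]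
        field_simp
        ring
    refine ⟨fr.u k * g, mul_mem (hM.u_mem fr k) hg, fun l x => ?_, fun x y => ?_,
      -((2 : K)⁻¹ * algebraMap F K fr.δ * (1 * 1)) * (B b fr.a)⁻¹, ?_, ?_⟩
    · show fr.u k (g (l • x)) = l • fr.u k (g x)
      rw [hgl, fr.u_smul]
    · show B (fr.u k (g x)) (fr.u k (g y)) = B x y
      rw [fr.u_isom, hgB]
    · exact mul_ne_zero (neg_ne_zero.2 (mul_ne_zero (mul_ne_zero (inv_ne_zero hM.two) hδ)
        (mul_ne_zero one_ne_zero one_ne_zero))) (inv_ne_zero hba)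
    · show fr.u k (g fr.a) = _
      rw [hga, fr.u_smul, he, smul_smul]

/-- Squares are induced on a singular line. -/
theorem exists_scalar_sq (fr : Frame B F) {l : K} (hl : l ≠ 0) :
    ∃ g ∈ M, (∀ (k : K) x, g (k • x) = k • g x) ∧ MapsBy g fr.a (mulL F (l * l)) := by
  obtain ⟨g, hg, hgl, -, hga⟩ := hM.exists_swap fr (one_ne_zero (α := K))
  obtain ⟨h, hh, hhl, -, hha⟩ := hM.exists_swap fr hl
  have hgi : ∀ (k : K) x, g⁻¹ (k • x) = k • g⁻¹ x := fun k x => by
    apply g.injective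
    show g (g.symm _) = g _
    rw [LinearEquiv.apply_symm_apply, hgl]
    show _ = k • g (g.symm x)
    rw [LinearEquiv.apply_symm_apply]
  refine ⟨g⁻¹ * h, mul_mem (inv_mem hg) hh, fun k x => ?_, fun m => ?_⟩
  · show g⁻¹ (h (k • x)) = k • g⁻¹ (h x)
    rw [hhl, hgi]
  · show g⁻¹ (h (m • fr.a)) = _
    apply g.injective
    show g (g.symm _) = _
    rw [LinearEquiv.apply_symm_apply, hhl, hha, hgl, hga, smul_smul, smul_smul,
      LinearMap.mulLeft_apply]
    congr 1
    ring

end OrThree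

end Cfsg.Agent.FieldExtMax
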