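/-
Three-dimensional case with all maps `P` zero: stabilisers of singular lines are semilinear.

Main definitions: `TorZero`.
Main results: `OrThree.eq_u`, `OrThree.exists_semi`, `OrThree.stab_a`, `OrThree.conj_u`,
`OrThree.finrank_fix_le`, `OrThree.img_eq_of_conj`.
-/
import Cfsg.Agent.Lib.FieldExtMax.Three.Base
import Cfsg.Agent.Lib.FieldExtMax.OrRoots
import Mathlib.LinearAlgebra.Transvection.Basic

set_option autoImplicit false
set_option linter.unusedSectionVars false

namespace Cfsg.Agent.FieldExtMax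

open Module

variable {F K V : Type*} [Field F] [Finite F] [Field K] [Finite K] [Algebra F K]
  [AddCommGroup V] [Module F V] [Module K V] [IsScalarTower F K V] [Finite V]
variable {B : V →ₗ[K] V →ₗ[K] K} {M : Subgroup (V ≃ₗ[F] V)}

/-- No non-zero `P` gives an element `x ↦ x + P (B x a) • a` of `M`. -/
def TorZero (B : V →ₗ[K] V →ₗ[K] K) (M : Subgroup (V ≃ₗ[F] V)) : Prop :=
  ∀ a : V, a ≠ 0 → B a a = 0 → ∀ P : Module.End F K,
    (∃ g ∈ M, ∀ x, g x = x + P (B x a) • a) → P = 0

/-- A cubic unipotent has determinant one in positive characteristic. -/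
lemma det_eq_one_of_cube (k : V →ₗ[F] V) (h : (k - 1) ^ 3 = 0) : LinearMap.det k = 1 := by
  haveI : Module.Finite F V := Module.Finite.of_finite
  obtain ⟨p, hp⟩ := CharP.exists F
  have hpp : p.Prime := CharP.char_is_prime F p
  haveI : Fact p.Prime := ⟨hpp⟩
  obtain ⟨n, hn⟩ : ∃ n, 3 ≤ p ^ n := ⟨2, by nlinarith [hpp.two_le]⟩
  have h1 : k ^ (p ^ n) = 1 := by
    have e := congrArg (Polynomial.aeval k)
      (sub_pow_char_pow (R := Polynomial F) (p := p) Polynomial.X 1 (n := n))
    simp only [map_pow, map_sub, Polynomial.aeval_X, map_one, one_pow] at e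
    obtain ⟨m, hm⟩ := Nat.exists_eq_add_of_le hn
    rw [hm, pow_add, h, zero_mul, eq_comm, sub_eq_zero, ← hm] at e
    exact e
  refine frobenius_inj F p |>.iterate n ?_
  rw [← coe_iterateFrobenius, iterateFrobenius_def, iterateFrobenius_def, ← map_pow, h1, map_one,
    one_pow]

namespace OrThree

variable (hM : OrThree B M)
include hM

lemma torZero_tor (hT : TorZero B M) {a : V} (ha : a ≠ 0) (hs : B a a = 0) :
    ∀ P ∈ hM.Tor hs, P = 0 := fun P hP => hT a ha hs P hP

/-- A vector orthogonal to all multiples of a vector, through the trace. -/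
lemma inner_congr {x y w : V} (h : ∀ k : K, Algebra.trace F K (B x (k • w))
    = Algebra.trace F K (B y (k • w))) : B x w = B y w := by
  refine lam_ext hM.lam_ne fun k => ?_
  have := h k
  simpa only [map_smul (B x), map_smul (B y), smul_eq_mul] using this

/-- Only Siegel elements fix a singular line pointwise. -/
theorem eq_u (hT : TorZero B M) (fr : Frame B F) {g : V ≃ₗ[F] V} (hg : g ∈ M)
    (hline : ∀ l : K, g (l • fr.a) = l • fr.a) : ∃ k, g = fr.u k := by
  haveI : Module.Finite F V := Module.Finite.of_finite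
  haveI : Module.Finite F K := Module.Finite.of_finite
  haveI : Module.Finite K V := Module.Finite.of_finite
  have hδ := fr.δK
  have hξ : ∀ x, B (g x) fr.a = B x fr.a := fun x => hM.inner_congr fun k => by
    rw [← hline k, hM.pres g hg, hline]
  have hgi : ∀ x, g (g⁻¹ x) = x := fun x => g.apply_symm_apply x
  have hig : ∀ x, g⁻¹ (g x) = x := fun x => g.symm_apply_apply x
  have hξ' : ∀ x, B (g⁻¹ x) fr.a = B x fr.a := fun x => by
    conv_rhs => rw [← hgi x, hξ]
  have hli : ∀ l : K, g⁻¹ (l • fr.a) = l • fr.a := fun l => by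
    conv_lhs => rw [← hline l]
    exact hig _
  -- the middle layer
  set R : K → K := fun m => B (g (m • fr.z)) fr.z / algebraMap F K fr.δ with hR
  have hga : ∀ m, B (g (m • fr.z)) fr.a = 0 := fun m => by
    rw [hξ, map_smul, LinearMap.smul_apply, fr.za, smul_zero]
  have hgz : ∀ m, g (m • fr.z) = B (g (m • fr.z)) fr.a' • fr.a + R m • fr.z := fun m => by
    conv_lhs => rw [fr.dec (g (m • fr.z)), hga, zero_smul, add_zero]
  -- a conjugate of a Siegel element
  let φ : V →ₗ[F] K := -(((B.flip fr.z).restrictScalars F) ∘ₗ ((g⁻¹ : V ≃ₗ[F] V) : V →ₗ[F] V))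
  have hφ : ∀ x, φ x = -B (g⁻¹ x) fr.z := fun x => rfl
  have hv : g * fr.u 1 * g⁻¹ ∈ M := mul_mem (mul_mem hg (hM.u_mem fr 1)) (inv_mem hg)
  have hvl : ∀ l : K, (g * fr.u 1 * g⁻¹) (l • fr.a) = l • fr.a := fun l => by
    show g (fr.u 1 (g⁻¹ (l • fr.a))) = _
    rw [hli, fr.u_line 1 (mem_line.2 ⟨l, rfl⟩), hline]
  have hvφ : ∀ x, B x fr.a = 0 → (g * fr.u 1 * g⁻¹) x = x + φ x • fr.a := fun x hx => by
    show g (fr.u 1 (g⁻¹ x)) = _
    rw [fr.u_apply, hξ', hx, hφ]
    simp [hgi, hline, sub_eq_add_neg]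
  have hlin := fun {x : V} (hx : B x fr.a = 0) (l : K) =>
    hM.comm_linear fr.ne_a fr.aa (hM.torZero_tor hT fr.ne_a fr.aa) hv hvl φ hvφ hx l
  have hRm : ∀ m, R m * φ fr.z = -(m * algebraMap F K fr.δ) := fun m => by
    rw [← hlin fr.za]
    have h1 : φ (g (m • fr.z)) = -(m * algebraMap F K fr.δ) := by
      rw [hφ, hig, map_smul, LinearMap.smul_apply, fr.zz, smul_eq_mul]
    have h2 : φ (B (g (m • fr.z)) fr.a' • fr.a) = 0 := by
      rw [hφ, hli, map_smul, LinearMap.smul_apply, fr.az, smul_zero, neg_zero]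
    rw [← h1]
    conv_rhs => rw [hgz m, map_add, h2, zero_add]
  have hφz : φ fr.z ≠ 0 := fun h => by
    have := hRm 1
    rw [h, mul_zero, one_mul, eq_comm, neg_eq_zero] at this
    exact hδ this
  set ρ := R 1
  have hRρ : ∀ m, R m = ρ * m := fun m => mul_right_cancel₀ hφz (by
    rw [hRm, mul_right_comm, hRm, one_mul, neg_mul, mul_comm])
  have hρ2 : ρ * ρ = 1 := by
    have h : ρ * ρ * algebraMap F K fr.δ = algebraMap F K fr.δ := lam_ext hM.lam_ne fun k => by
      have h1 := hM.pres g hg ((1 : K) • fr.z) (k • fr.z)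
      rw [hgz 1, hgz k, hRρ k] at h1
      simp only [map_add, map_smul, LinearMap.add_apply, LinearMap.smul_apply, smul_eq_mul,
        fr.aa, fr.az, fr.za, fr.zz, mul_zero, zero_add, add_zero, one_mul, mul_one] at h1
      convert h1 using 2
      ring
    exact mul_right_cancel₀ hδ (by rw [h, one_mul])
  rcases mul_self_eq_one_iff.1 hρ2 with hρ | hρ
  swap
  · -- the determinant excludes a sign
    exfalso
    let r₀ : V →ₗ[K] V := LinearMap.transvection ((-2 / algebraMap F K fr.δ) • B.flip fr.z) fr.z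
    have hr₀ : ∀ x, r₀ x = x + (-2 / algebraMap F K fr.δ * B x fr.z) • fr.z := fun x => rfl
    have hdet : LinearMap.det r₀ = -1 := by
      rw [LinearMap.transvection.det]
      simp only [LinearMap.smul_apply, LinearMap.flip_apply, fr.zz, smul_eq_mul,
        div_mul_cancel₀ _ hδ]
      norm_num
    have hdetF : LinearMap.det (r₀.restrictScalars F) = -1 := by
      rw [LinearMap.det_restrictScalars, hdet,
        show (-1 : K) = algebraMap F K (-1) by rw [map_neg, map_one],
        Algebra.norm_algebraMap, hM.deg_odd.neg_one_pow]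
    let k : V →ₗ[F] V := (g : V →ₗ[F] V) ∘ₗ r₀.restrictScalars F
    have hk : ∀ x, k x = g (r₀ x) := fun x => rfl
    have hkl : ∀ x ∈ line F K fr.a, k x = x := fun x hx => by
      obtain ⟨l, rfl⟩ := mem_line.1 hx
      rw [hk, hr₀, map_smul, LinearMap.smul_apply, fr.az, smul_zero, mul_zero, zero_smul, add_zero,
        hline]
    have hkξ : ∀ x, B (k x) fr.a = B x fr.a := fun x => by
      rw [hk, hξ, hr₀, map_add, LinearMap.add_apply, map_smul, LinearMap.smul_apply, fr.za,
        smul_zero, add_zero]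
    have hkperp : ∀ x, B x fr.a = 0 → k x - x ∈ line F K fr.a := fun x hx => by
      have hrx : r₀ x = B x fr.a' • fr.a + (-(B x fr.z / algebraMap F K fr.δ)) • fr.z := by
        rw [hr₀]
        conv_lhs => enter [1]; rw [fr.dec x, hx, zero_smul, add_zero]
        rw [add_assoc, ← add_smul]
        congr 2
        ring
      rw [hk, hrx, map_add, hline, hgz, hRρ, hρ]
      refine mem_line.2 ⟨B (g ((-(B x fr.z / algebraMap F K fr.δ)) • fr.z)) fr.a', ?_⟩
      conv_rhs => enter [2]; rw [fr.dec x, hx, zero_smul, add_zero]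
      rw [neg_one_mul, neg_neg]
      abel
    have hcube : (k - 1) ^ 3 = 0 := LinearMap.ext fun x => by
      show (k - 1) ((k - 1) ((k - 1) x)) = 0
      simp only [LinearMap.sub_apply, Module.End.one_apply]
      have h1 : B (k x - x) fr.a = 0 := by rw [map_sub, LinearMap.sub_apply, hkξ, sub_self]
      have h2 := hkperp _ h1
      rw [hkl _ h2, sub_self]
    have h := det_eq_one_of_cube k hcube
    rw [LinearMap.det_comp, hM.det_one g hg, one_mul, hdetF] at h
    exact hM.twoF (by linear_combination -h)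
  -- the unipotent case
  let ξ : V →ₗ[F] K := ((B.flip fr.a').restrictScalars F) ∘ₗ ((g : V →ₗ[F] V) - LinearMap.id)
  have hgφ : ∀ x, B x fr.a = 0 → g x = x + ξ x • fr.a := fun x hx => by
    have h1 : B (g x - x) fr.a = 0 := by rw [map_sub, LinearMap.sub_apply, hξ, sub_self]
    have h2 : B (g x - x) fr.z = 0 := by
      have hx' := fr.dec x
      rw [hx, zero_smul, add_zero] at hx'
      rw [map_sub, LinearMap.sub_apply, sub_eq_zero]
      conv_lhs => rw [hx', map_add, hline, hgz, hRρ, hρ, one_mul]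
      simp [fr.az, fr.zz, hδ]
    rw [add_comm, ← sub_eq_iff_eq_add, fr.dec (g x - x), h1, h2, zero_smul, zero_div, zero_smul,
      add_zero, add_zero]
    rfl
  have hξlin := fun {x : V} (hx : B x fr.a = 0) (l : K) =>
    hM.comm_linear fr.ne_a fr.aa (hM.torZero_tor hT fr.ne_a fr.aa) hg hline ξ hgφ hx l
  set k₀ := -ξ fr.z / algebraMap F K fr.δ with hk₀
  have hξa : ∀ l : K, ξ (l • fr.a) = 0 := fun l => by simp [ξ, hline]
  refine ⟨k₀, ?_⟩
  set g' := fr.u (-k₀) * g with hg'
  have hg'M : g' ∈ M := mul_mem (hM.u_mem fr _) hg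
  have hperp : ∀ x, B x fr.a = 0 → g' x = x := fun x hx => by
    show fr.u (-k₀) (g x) = x
    have hx' := fr.dec x
    rw [hx, zero_smul, add_zero] at hx'
    have hξx : ξ x = B x fr.z / algebraMap F K fr.δ * ξ fr.z := by
      conv_lhs => rw [hx', map_add, hξa, zero_add, hξlin fr.za]
    rw [hgφ x hx, fr.u_apply]
    simp only [map_add, LinearMap.add_apply, map_smul, LinearMap.smul_apply, hx, fr.aa, fr.az,
      smul_eq_mul, mul_zero, add_zero, zero_smul, sub_zero, hξx, hk₀]
    rw [add_sub_assoc, ← sub_smul, add_eq_left, smul_eq_zero]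
    exact Or.inl (by field_simp; ring)
  have hξg' : ∀ x, B (g' x) fr.a = B x fr.a := fun x => by
    show B (fr.u (-k₀) (g x)) fr.a = _
    rw [(fr.u_coord _ _).2.1, hξ]
  let P : Module.End F K := ((B.flip fr.a').restrictScalars F) ∘ₗ ((g' : V →ₗ[F] V) - LinearMap.id)
    ∘ₗ (LinearMap.toSpanSingleton K V fr.a').restrictScalars F
  have hP : ∀ c, P c = B (g' (c • fr.a') - c • fr.a') fr.a' := fun c => rfl
  have hline' : ∀ x, g' x - x ∈ line F K fr.a := fun x => by
    have h1 : B (g' x - x) fr.a = 0 := by rw [map_sub, LinearMap.sub_apply, hξg', sub_self]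
    have h2 : B (g' x - x) fr.z = 0 := by
      rw [map_sub, LinearMap.sub_apply, sub_eq_zero]
      refine hM.inner_congr fun k => ?_
      conv_lhs => rw [← hperp (k • fr.z) (by simp [fr.za]), hM.pres g' hg'M]
    rw [fr.dec (g' x - x), h1, h2, zero_smul, zero_div, zero_smul, add_zero, add_zero]
    exact mem_line.2 ⟨_, rfl⟩
  have hgP : ∀ x, g' x = x + P (B x fr.a) • fr.a := fun x => by
    set y := x - B x fr.a • fr.a' with hy
    have hya : B y fr.a = 0 := by simp [hy, fr.a'a]
    have hx : x = y + B x fr.a • fr.a' := by simp [hy]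
    obtain ⟨c, hc⟩ := mem_line.1 (hline' (B x fr.a • fr.a'))
    have hPc : P (B x fr.a) = c := by rw [hP, ← hc, map_smul, LinearMap.smul_apply, fr.aa',
      smul_eq_mul, mul_one]
    rw [hPc]
    conv_lhs => rw [hx, map_add, hperp y hya, ← sub_add_cancel (g' _) (B x fr.a • fr.a'), ← hc]
    rw [add_left_comm, ← hx, add_comm]
  have h0 := hT fr.a fr.ne_a fr.aa P ⟨g', hg'M, hgP⟩
  have h1 : g' = 1 := LinearEquiv.ext fun x => by simp [hgP, h0]
  rw [hg'] at h1
  rw [← one_mul g, ← fr.u_zero, ← add_neg_cancel k₀, ← fr.u_add, mul_assoc, h1, mul_one]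

/-- Elements fixing a singular line are semilinear on it. -/
theorem exists_semi (hT : TorZero B M) (fr : Frame B F) {g : V ≃ₗ[F] V} (hg : g ∈ M)
    (hline : ∀ l : K, g (l • fr.a) ∈ K ∙ fr.a) :
    ∃ (τ : K ≃ₐ[F] K) (c : K), c ≠ 0 ∧ ∀ l, g (l • fr.a) = (c * τ l) • fr.a := by
  obtain ⟨Q, hQ⟩ := exists_mapsBy fr.ne_a hline
  have hsemi := hM.semi_of_tor_zero fr.ne_a fr.aa (hM.torZero_tor hT fr.ne_a fr.aa) fr.za
    (by rw [fr.zz]; exact fr.δK) hg hQ
  have hinj : Function.Injective Q := fun k l h =>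
    smul_inj fr.ne_a (g.injective (by rw [hQ, hQ, h]))
  have hQ1 : Q 1 ≠ 0 := fun h => one_ne_zero (hinj (h.trans (map_zero Q).symm))
  have hmul : ∀ k l, Q (k * l) = Q k / Q 1 * Q l := fun k l => by
    obtain ⟨k', hk'⟩ := hsemi k
    have := hk' 1
    rw [mul_one] at this
    rw [hk', this, mul_div_cancel_right₀ _ hQ1]
  let τ₀ : K →ₐ[F] K :=
    { toFun := fun k => Q k / Q 1
      map_one' := div_self hQ1
      map_mul' := fun k l => by rw [hmul, mul_div_assoc]
      map_zero' := by rw [map_zero, zero_div]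
      map_add' := fun k l => by rw [map_add, add_div]
      commutes' := fun c => by
        rw [Algebra.algebraMap_eq_smul_one, map_smul, smul_div_assoc, div_self hQ1] }
  have hbij : Function.Bijective τ₀ :=
    ⟨τ₀.toRingHom.injective, Finite.surjective_of_injective τ₀.toRingHom.injective⟩
  refine ⟨AlgEquiv.ofBijective τ₀ hbij, Q 1, hQ1, fun l => ?_⟩
  show _ = (Q 1 * (Q l / Q 1)) • fr.a
  rw [hQ, mul_div_cancel₀ _ hQ1]

/-- The stabiliser of the line and of `a`. -/
theorem stab_a (hT : TorZero B M) (fr : Frame B F) {g : V ≃ₗ[F] V} (hg : g ∈ M)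
    (hline : ∀ l : K, g (l • fr.a) ∈ K ∙ fr.a) (hga : g fr.a = fr.a) :
    ∃ (k : K) (τ : K ≃ₐ[F] K), g = fr.u k * fr.auto τ := by
  obtain ⟨τ, c, -, hc⟩ := hM.exists_semi hT fr hg hline
  have hc1 : c = 1 := by
    have := hc 1
    rw [one_smul, hga, map_one, mul_one] at this
    exact (smul_inj fr.ne_a (this.symm.trans (one_smul K fr.a).symm))
  obtain ⟨k, hk⟩ := hM.eq_u hT fr (g := g * (fr.auto τ)⁻¹)
    (mul_mem hg (inv_mem (hM.auto_mem fr τ))) fun l => by
      rw [← map_inv]
      show g (fr.auto τ⁻¹ (l • fr.a)) = _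
      rw [fr.auto_smul, fr.auto_a, hc, hc1, one_mul]
      congr 1
      exact τ.apply_symm_apply l
  exact ⟨k, τ, by rw [← hk, inv_mul_cancel_right]⟩

/-- Elements fixing the line normalise its Siegel elements. -/
theorem conj_u (hT : TorZero B M) (fr : Frame B F) {g : V ≃ₗ[F] V} (hg : g ∈ M)
    (hline : ∀ l : K, g (l • fr.a) ∈ K ∙ fr.a) (k : K) : ∃ k', g * fr.u k * g⁻¹ = fr.u k' := by
  refine hM.eq_u hT fr (mul_mem (mul_mem hg (hM.u_mem fr k)) (inv_mem hg)) fun l => ?_
  obtain ⟨τ, c, hc0, hc⟩ := hM.exists_semi hT fr hg hline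
  have h1 : g ((τ.symm (l / c)) • fr.a) = l • fr.a := by
    rw [hc, τ.apply_symm_apply, mul_div_cancel₀ _ hc0]
  show g (fr.u k (g⁻¹ (l • fr.a))) = _
  rw [show g⁻¹ (l • fr.a) = τ.symm (l / c) • fr.a by
      rw [← h1]; exact g.symm_apply_apply _,
    fr.u_line k (mem_line.2 ⟨_, rfl⟩), h1]

lemma fixed_iff {τ : K ≃ₐ[F] K} (hτ : τ ≠ 1) {x : K} (hx : τ x = x) :
    x ∈ Set.range (algebraMap F K) := by
  by_contra h
  let S : Subalgebra F K :=
    { carrier := {k | τ k = k}
      mul_mem' := fun {a b} ha hb => by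
        show τ (a * b) = a * b
        rw [map_mul, show τ a = a from ha, show τ b = b from hb]
      add_mem' := fun {a b} ha hb => by
        show τ (a + b) = a + b
        rw [map_add, show τ a = a from ha, show τ b = b from hb]
      algebraMap_mem' := fun c => τ.commutes c }
  have htop := adjoin_eq_top hM.deg h S hx
  exact hτ (AlgEquiv.ext fun k => (htop ▸ Algebra.mem_top : k ∈ S))

/-- Semilinear stabiliser elements fix little. -/
theorem finrank_fix_le (fr : Frame B F) (k : K) {τ : K ≃ₐ[F] K} (hτ : τ ≠ 1)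
    (W : Submodule F V) (hW : ∀ x ∈ W, (fr.u k * fr.auto τ) x = x) : finrank F W ≤ 3 := by
  haveI : Module.Finite F V := Module.Finite.of_finite
  haveI : Module.Finite F K := Module.Finite.of_finite
  have hbot : ∀ (S : Submodule F K), (∀ x ∈ S, x ∈ Set.range (algebraMap F K)) →
      finrank F S ≤ 1 := fun S hS => by
    refine (Submodule.finrank_mono (t := F ∙ (1 : K)) fun x hx => ?_).trans
      (finrank_span_singleton (one_ne_zero (α := K))).le
    obtain ⟨c, hc⟩ := hS x hx
    exact Submodule.mem_span_singleton.2 ⟨c, by rw [← Algebra.algebraMap_eq_smul_one, hc]⟩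
  have h0 : ∀ x : W, τ (B x.1 fr.a) = B x.1 fr.a ∧
      τ (B x.1 fr.z) + k * τ (B x.1 fr.a) * algebraMap F K fr.δ = B x.1 fr.z ∧
      τ (B x.1 fr.a') - k * τ (B x.1 fr.z)
        - (2 : K)⁻¹ * algebraMap F K fr.δ * (k * k) * τ (B x.1 fr.a) = B x.1 fr.a' := by
    intro x
    have e : fr.u k (fr.auto τ x.1) = x.1 := hW x.1 x.2
    obtain ⟨h1, h2, h3⟩ := fr.u_coord k (fr.auto τ x.1)
    rw [e, (fr.auto_coord τ x.1).1, (fr.auto_coord τ x.1).2.1, (fr.auto_coord τ x.1).2.2] at h1
    rw [e, (fr.auto_coord τ x.1).2.1] at h2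
    rw [e, (fr.auto_coord τ x.1).2.1, (fr.auto_coord τ x.1).2.2] at h3
    exact ⟨h2.symm, h3.symm, h1.symm⟩
  let fa : V →ₗ[F] K := (B.flip fr.a).restrictScalars F
  let fz : V →ₗ[F] K := (B.flip fr.z).restrictScalars F
  let fp : V →ₗ[F] K := (B.flip fr.a').restrictScalars F
  have key : ∀ (U : Submodule F V) (f : V →ₗ[F] K), U ≤ W →
      (∀ x ∈ U, τ (f x) = f x) → finrank F U ≤ finrank F (U ⊓ LinearMap.ker f : Submodule F V) + 1 := by
    intro U f hU hf
    have h1 := LinearMap.finrank_range_add_finrank_ker (f.domRestrict U)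
    have h2 := hbot (LinearMap.range (f.domRestrict U)) fun x ⟨w, hw⟩ => hM.fixed_iff hτ (by
      rw [← hw]; exact hf _ w.2)
    have h3 : finrank F (LinearMap.ker (f.domRestrict U))
        ≤ finrank F (U ⊓ LinearMap.ker f : Submodule F V) := by
      refine LinearMap.finrank_le_finrank_of_injective (f := (U.subtype.comp
        (LinearMap.ker (f.domRestrict U)).subtype).codRestrict _ fun v => ⟨v.1.2, v.2⟩) ?_
      intro v v' h
      exact Subtype.ext (Subtype.ext
        (congrArg (Subtype.val : (U ⊓ LinearMap.ker f : Submodule F V) → V) h))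
    omega
  have e1 := key W fa le_rfl fun x hx => (h0 ⟨x, hx⟩).1
  have e2 := key (W ⊓ LinearMap.ker fa) fz inf_le_left fun x hx => by
    have hxa : B x fr.a = 0 := hx.2
    have := (h0 ⟨x, hx.1⟩).2.1
    rw [hxa, map_zero, mul_zero, zero_mul, add_zero] at this
    exact this
  have e3 := key (W ⊓ LinearMap.ker fa ⊓ LinearMap.ker fz) fp (inf_le_left.trans inf_le_left)
    fun x hx => by
    have hxa : B x fr.a = 0 := hx.1.2
    have hxz : B x fr.z = 0 := hx.2
    have := (h0 ⟨x, hx.1.1⟩).2.2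
    rw [hxa, hxz, map_zero, mul_zero, mul_zero, sub_zero, sub_zero] at this
    exact this
  have h4 : W ⊓ LinearMap.ker fa ⊓ LinearMap.ker fz ⊓ LinearMap.ker fp = ⊥ := by
    rw [Submodule.eq_bot_iff]
    intro x hx
    exact fr.ext (by simpa [fp] using hx.2) (by simpa [fa] using hx.1.1.2)
      (by simpa [fz] using hx.1.2)
  rw [h4, finrank_bot] at e3
  omega

lemma u_fix (fr : Frame B F) {k : K} (hk : k ≠ 0) {x : V} (hx : fr.u k x = x) :
    x ∈ line F K fr.a := by
  obtain ⟨h1, -, h3⟩ := fr.u_coord k x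
  rw [hx, left_eq_add, mul_eq_zero, mul_eq_zero] at h3
  have ha : B x fr.a = 0 := (h3.resolve_right fr.δK).resolve_left hk
  rw [hx, ha, mul_zero, sub_zero, eq_comm, sub_eq_self, mul_eq_zero] at h1
  rw [fr.dec x, ha, h1.resolve_left hk, zero_smul, zero_div, zero_smul, add_zero, add_zero]
  exact mem_line.2 ⟨_, rfl⟩

lemma u_inj (fr : Frame B F) {k k' : K} (h : fr.u k = fr.u k') : k = k' := by
  have := congrArg (fun f : V ≃ₗ[F] V => B (f fr.a') fr.z) h
  change B (fr.u k fr.a') fr.z = B (fr.u k' fr.a') fr.z at this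
  rw [(fr.u_coord k _).2.2, (fr.u_coord k' _).2.2, fr.a'a, mul_one, mul_one] at this
  exact mul_right_cancel₀ fr.δK (add_left_cancel this)

lemma mul_form (fr : Frame B F) (k k' : K) (τ : K ≃ₐ[F] K) :
    fr.u k * fr.auto τ * fr.u k' = fr.u (k + τ k') * fr.auto τ := by
  rw [mul_assoc, fr.auto_mul_u, ← mul_assoc, fr.u_add]

/-- Semilinear elements of the order of a Siegel element occur only in the degree. -/
lemma degree_zero (fr : Frame B F) {g : V ≃ₗ[F] V} {k k' : K} {τ : K ≃ₐ[F] K} (hτ : τ ≠ 1)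
    (he : g * fr.u k * g⁻¹ = fr.u k' * fr.auto τ) : (finrank F K : F) = 0 := by
  haveI : Module.Finite F K := Module.Finite.of_finite
  obtain ⟨p, hp⟩ := CharP.exists F
  haveI : Fact p.Prime := ⟨CharP.char_is_prime F p⟩
  haveI : CharP K p := charP_of_injective_algebraMap (algebraMap F K).injective p
  have hup : fr.u k ^ p = 1 := by
    have h : ∀ j : ℕ, fr.u k ^ j = fr.u ((j : K) * k) := by
      intro j
      induction j with
      | zero => rw [pow_zero, Nat.cast_zero, zero_mul, fr.u_zero]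
      | succ j ih => rw [pow_succ, ih, fr.u_add, Nat.cast_succ, add_mul, one_mul]
    rw [h, CharP.cast_eq_zero, zero_mul, fr.u_zero]
  have hpow : ∀ j : ℕ, ∃ e, (fr.u k' * fr.auto τ) ^ j = fr.u e * fr.auto (τ ^ j) := by
    intro j
    induction j with
    | zero => exact ⟨0, by rw [pow_zero, pow_zero, map_one, fr.u_zero, mul_one]⟩
    | succ j ih =>
      obtain ⟨e, h⟩ := ih
      exact ⟨_, by rw [pow_succ, h, ← mul_assoc, hM.mul_form fr, mul_assoc, ← map_mul, pow_succ]⟩
  obtain ⟨e, h⟩ := hpow p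
  rw [← he, conj_pow, hup, mul_one, mul_inv_cancel] at h
  have hτp : τ ^ p = 1 := AlgEquiv.ext fun l => smul_inj fr.ne_a (by
    have := LinearEquiv.congr_fun h (l • fr.a)
    change l • fr.a = fr.u e (fr.auto (τ ^ p) (l • fr.a)) at this
    rw [fr.auto_smul, fr.auto_a, fr.u_line e (mem_line.2 ⟨_, rfl⟩)] at this
    exact this.symm)
  have hdvd : orderOf τ ∣ p := orderOf_dvd_of_pow_eq_one hτp
  have hdr : orderOf τ ∣ finrank F K := by rw [← natCard_aut (F := F)]; exact orderOf_dvd_natCard τ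
  have hne : orderOf τ ≠ 1 := fun h => hτ (orderOf_eq_one_iff.1 h)
  have h1 := ((Nat.dvd_prime Fact.out).1 hdvd).resolve_left hne
  have h2 := ((Nat.dvd_prime hM.deg).1 hdr).resolve_left hne
  rw [← h2, h1, CharP.cast_eq_zero]

/-- In the characteristic of the degree the base field lies in the image of `1 - τ`. -/
lemma exists_sub_auto (hr : (finrank F K : F) = 0) {τ : K ≃ₐ[F] K} (hτ : τ ≠ 1) (c : F) :
    ∃ l : K, l - τ l = algebraMap F K c := by
  haveI : Module.Finite F K := Module.Finite.of_finite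
  let S : K →ₗ[F] K := LinearMap.id - τ.toLinearMap
  have h1 := LinearMap.finrank_range_add_finrank_ker S
  have h3 : finrank F (LinearMap.ker S) ≤ 1 := by
    refine (Submodule.finrank_mono (t := F ∙ (1 : K)) fun x hx => ?_).trans
      (finrank_span_singleton (one_ne_zero (α := K))).le
    obtain ⟨d, hd⟩ := hM.fixed_iff hτ (x := x) (sub_eq_zero.1 hx).symm
    exact Submodule.mem_span_singleton.2 ⟨d, by rw [← Algebra.algebraMap_eq_smul_one, hd]⟩
  have hle : LinearMap.range S ≤ LinearMap.ker (Algebra.trace F K) := by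
    rintro _ ⟨x, rfl⟩
    show Algebra.trace F K (x - τ x) = 0
    rw [map_sub, Algebra.trace_eq_of_algEquiv, sub_self]
  have h4 := LinearMap.finrank_range_add_finrank_ker (Algebra.trace F K)
  rw [LinearMap.range_eq_top.2 (LinearMap.surjective hM.lam_ne), finrank_top,
    Module.finrank_self] at h4
  have heq := Submodule.eq_of_le_of_finrank_le hle (by omega)
  have hc : algebraMap F K c ∈ LinearMap.range S := by
    rw [heq, LinearMap.mem_ker, Algebra.trace_algebraMap, nsmul_eq_mul, hr, zero_mul]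
  obtain ⟨l, hl⟩ := hc
  exact ⟨l, hl⟩

/-- A conjugate of a Siegel element in the stabiliser belongs to the same line. -/
theorem img_eq_of_conj (hT : TorZero B M) (fr : Frame B F) {g : V ≃ₗ[F] V} (hg : g ∈ M)
    {k : K} (hk : k ≠ 0) (hline : ∀ l : K, (g * fr.u k * g⁻¹) (l • fr.a) ∈ K ∙ fr.a)
    (hga : (g * fr.u k * g⁻¹) fr.a = fr.a) : img K fr.a g = line F K fr.a := by
  haveI : Module.Finite F V := Module.Finite.of_finite
  have hv : g * fr.u k * g⁻¹ ∈ M := mul_mem (mul_mem hg (hM.u_mem fr k)) (inv_mem hg)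
  have hfix : ∀ x ∈ img K fr.a g, (g * fr.u k * g⁻¹) x = x := by
    rintro _ ⟨y, hy, rfl⟩
    show g (fr.u k (g⁻¹ (g y))) = g y
    rw [show g⁻¹ (g y) = y from g.symm_apply_apply y, fr.u_line k hy]
  obtain ⟨k', τ, he⟩ := hM.stab_a hT fr hv hline hga
  by_cases hτ : τ = 1
  · rw [hτ, map_one, mul_one] at he
    have hk' : k' ≠ 0 := fun h => by
      rw [h, fr.u_zero, mul_inv_eq_one, mul_eq_left] at he
      have := congrArg (fun f : V ≃ₗ[F] V => B (f fr.a') fr.z) he
      simp [(fr.u_coord k fr.a').2.2, fr.a'z, fr.a'a, hk, fr.δ0] at this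
    refine Submodule.eq_of_le_of_finrank_eq (fun x hx => ?_)
      (by rw [finrank_img fr.ne_a, finrank_line fr.ne_a])
    exact hM.u_fix fr hk' (he ▸ hfix x hx)
  · exfalso
    haveI : Module.Finite F K := Module.Finite.of_finite
    set W := img K fr.a g with hW
    set v := g * fr.u k * g⁻¹ with hv'
    have hr0 := hM.degree_zero fr hτ he
    have hr3 := hM.three_le
    -- `a` is in the image
    have haW : fr.a ∈ W := by
      have h1 := hM.finrank_fix_le fr k' hτ (W ⊔ F ∙ fr.a) (fun x hx => by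
        obtain ⟨x₁, hx₁, x₂, hx₂, rfl⟩ := Submodule.mem_sup.1 hx
        obtain ⟨c, rfl⟩ := Submodule.mem_span_singleton.1 hx₂
        rw [← he, map_add, map_smul, hfix _ hx₁, hga])
      have hWd : finrank F W = finrank F K := finrank_img fr.ne_a g
      have h2 : W ⊔ F ∙ fr.a = W := (Submodule.eq_of_le_of_finrank_le le_sup_left (by
        omega)).symm
      exact h2 ▸ Submodule.mem_sup_right (Submodule.mem_span_singleton_self _)
    obtain ⟨w₀, hw₀, hgw₀⟩ := haW
    obtain ⟨l₀, rfl⟩ := mem_line.1 hw₀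
    change g (l₀ • fr.a) = fr.a at hgw₀
    have hl₀ : l₀ ≠ 0 := fun h => fr.ne_a (by rw [← hgw₀, h, zero_smul, map_zero])
    obtain ⟨fr', hfr'⟩ := hM.exists_frame (a := l₀ • fr.a) (smul_ne_zero hl₀ fr.ne_a)
      (by simp [fr.aa])
    have hln : line F K fr'.a = line F K fr.a := by
      rw [hfr']
      ext y
      constructor
      · intro hy
        obtain ⟨c, rfl⟩ := mem_line.1 hy
        exact mem_line.2 ⟨c * l₀, mul_smul c l₀ fr.a⟩
      · intro hy
        obtain ⟨c, rfl⟩ := mem_line.1 hy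
        exact mem_line.2 ⟨c * l₀⁻¹, by rw [smul_smul, inv_mul_cancel_right₀ hl₀]⟩
    obtain ⟨κ, hκ⟩ := hM.eq_u hT fr' (hM.u_mem fr k) fun l =>
      fr.u_line k (hln ▸ mem_line.2 ⟨l, rfl⟩)
    have hκ0 : κ ≠ 0 := fun h => hk (hM.u_inj fr (by rw [hκ, h, fr'.u_zero, fr.u_zero]))
    have hlinefix : ∀ y, fr.u k y = y → y ∈ K ∙ fr'.a := fun y hy => by
      have := hM.u_fix fr hk hy
      rw [← hln] at this
      exact mem_line_iff_span.1 this
    -- the two elements commute
    have hcomm : fr.u 1 * v = v * fr.u 1 := by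
      rw [he, hM.mul_form fr, ← mul_assoc, fr.u_add, map_one, add_comm]
    set x := g⁻¹ * fr.u 1 * g with hx
    have hxM : x ∈ M := mul_mem (mul_mem (inv_mem hg) (hM.u_mem fr 1)) hg
    have hxc : x * fr.u k = fr.u k * x := by
      have := congrArg (fun e => g⁻¹ * e * g) hcomm
      simpa [hx, hv', mul_assoc] using this
    have hxa : x fr'.a = fr'.a := by
      rw [hfr']
      show g⁻¹ (fr.u 1 (g (l₀ • fr.a))) = _
      rw [hgw₀, fr.u_a]
      exact g.symm_apply_eq.2 hgw₀.symm
    obtain ⟨a₁, τ', hxform⟩ := hM.stab_a hT fr' hxM (fun l => hlinefix _ (by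
      have := LinearEquiv.congr_fun hxc (l • fr'.a)
      change x (fr.u k (l • fr'.a)) = fr.u k (x (l • fr'.a)) at this
      rw [fr.u_line k (hln ▸ mem_line.2 ⟨l, rfl⟩)] at this
      exact this.symm)) hxa
    have hu1 : fr.u 1 = g * x * g⁻¹ := by rw [hx]; group
    by_cases hτ' : τ' = 1
    · -- then the image is the line, and `v` would be a Siegel element
      rw [hτ', map_one, mul_one] at hxform
      have hsub : ∀ y ∈ W, y ∈ line F K fr.a := by
        intro y hy
        refine hM.u_fix fr one_ne_zero ?_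
        obtain ⟨y', hy', rfl⟩ := hy
        rw [hu1, hxform]
        show g (fr'.u a₁ (g⁻¹ (g y'))) = g y'
        rw [show g⁻¹ (g y') = y' from g.symm_apply_apply y', fr'.u_line a₁ (hln ▸ hy')]
      have hWl : W = line F K fr.a := Submodule.eq_of_le_of_finrank_eq hsub
        (by rw [hW, finrank_img fr.ne_a, finrank_line fr.ne_a])
      refine hτ (AlgEquiv.ext fun l => smul_inj fr.ne_a ?_)
      have h1 := hfix (l • fr.a) (by rw [hWl]; exact mem_line.2 ⟨l, rfl⟩)
      rw [he] at h1
      change fr.u k' (fr.auto τ (l • fr.a)) = _ at h1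
      rwa [fr.auto_smul, fr.auto_a, fr.u_line k' (mem_line.2 ⟨_, rfl⟩)] at h1
    have hκfix : τ' κ = κ := by
      have h1 := hxc
      rw [hκ, hxform, hM.mul_form fr', ← mul_assoc, fr'.u_add] at h1
      have h2 := hM.u_inj fr' (mul_right_cancel h1)
      linear_combination h2
    obtain ⟨κ₀, hκ₀⟩ := hM.fixed_iff hτ' hκfix
    obtain ⟨l, hl⟩ := hM.exists_sub_auto hr0 hτ' κ₀
    rw [hκ₀] at hl
    obtain ⟨m, hm⟩ := hM.exists_sub_auto hr0 hτ (-1)
    rw [map_neg, map_one] at hm
    set A := fr.u m with hA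
    set Bm := g * fr'.u l * g⁻¹ with hBm
    have hAP : A * fr.u 1 * A⁻¹ = fr.u 1 := by
      rw [mul_inv_eq_iff_eq_mul, hA, fr.u_add, fr.u_add, add_comm]
    have hAV : A * v * A⁻¹ = v * (fr.u 1)⁻¹ := by
      rw [mul_inv_eq_iff_eq_mul, show (fr.u 1)⁻¹ = fr.u (-1) from inv_eq_of_mul_eq_one_right
        (by rw [fr.u_add, add_neg_cancel, fr.u_zero]), mul_assoc, hA, fr.u_add, he,
        hM.mul_form fr, ← mul_assoc, fr.u_add]
      congr 2
      rw [map_add, map_neg, map_one]
      linear_combination hm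
    have hBP : Bm * fr.u 1 * Bm⁻¹ = v * fr.u 1 := by
      have h1 : fr'.u l * x = fr.u k * x * fr'.u l := by
        rw [hκ, hxform, ← mul_assoc, fr'.u_add, ← mul_assoc, fr'.u_add, hM.mul_form fr']
        congr 2
        linear_combination hl
      rw [mul_inv_eq_iff_eq_mul, hu1, hBm, hv']
      calc g * fr'.u l * g⁻¹ * (g * x * g⁻¹) = g * (fr'.u l * x) * g⁻¹ := by group
        _ = g * (fr.u k * x * fr'.u l) * g⁻¹ := by rw [h1]
        _ = _ := by group
    have hBV : Bm * v * Bm⁻¹ = v := by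
      rw [mul_inv_eq_iff_eq_mul, hBm, hv', hκ]
      calc g * fr'.u l * g⁻¹ * (g * fr'.u κ * g⁻¹) = g * (fr'.u l * fr'.u κ) * g⁻¹ := by group
        _ = g * (fr'.u κ * fr'.u l) * g⁻¹ := by rw [fr'.u_add, fr'.u_add, add_comm]
        _ = _ := by group
    set w := A * Bm * A with hw
    set s := w * w with hs
    have hc : ∀ a b y : V ≃ₗ[F] V, MulAut.conj (a * b) y = MulAut.conj a (MulAut.conj b y) :=
      fun a b y => by rw [map_mul]; rfl
    have cA1 : MulAut.conj A (fr.u 1) = fr.u 1 := hAP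
    have cAv : MulAut.conj A v = v * (fr.u 1)⁻¹ := hAV
    have cB1 : MulAut.conj Bm (fr.u 1) = v * fr.u 1 := hBP
    have cBv : MulAut.conj Bm v = v := hBV
    have hwP : MulAut.conj w (fr.u 1) = v := by
      rw [hw, hc, hc, cA1, cB1, map_mul, cA1, cAv, inv_mul_cancel_right]
    have hwV : MulAut.conj w v = (fr.u 1)⁻¹ := by
      have hvP : v * ((fr.u 1)⁻¹ * v⁻¹) = (fr.u 1)⁻¹ := by
        rw [← mul_inv_rev, ← eq_inv_mul_iff_mul_eq, ← mul_inv_rev, hcomm]
      rw [hw, hc, hc, cAv, map_mul, map_inv, cB1, cBv, mul_inv_rev, hvP, map_inv, cA1]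
    have hsP : s * fr.u 1 * s⁻¹ = (fr.u 1)⁻¹ := by
      show MulAut.conj s (fr.u 1) = _
      rw [hs, hc, hwP, hwV]
    have hinv : (fr.u 1)⁻¹ = fr.u (-1) := inv_eq_of_mul_eq_one_right
      (by rw [fr.u_add, add_neg_cancel, fr.u_zero])
    rw [hinv, mul_inv_eq_iff_eq_mul] at hsP
    have hBM : Bm ∈ M := mul_mem (mul_mem hg (hM.u_mem fr' l)) (inv_mem hg)
    have hsM : s ∈ M := mul_mem (mul_mem (mul_mem (hM.u_mem fr m) hBM) (hM.u_mem fr m))
      (mul_mem (mul_mem (hM.u_mem fr m) hBM) (hM.u_mem fr m))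
    have hBa : Bm fr.a = fr.a := by
      show g (fr'.u l (g⁻¹ fr.a)) = fr.a
      rw [show g⁻¹ fr.a = fr'.a from g.symm_apply_eq.2 (by rw [hfr', hgw₀]), fr'.u_a, hfr', hgw₀]
    have hwa : w fr.a = fr.a := by
      show A (Bm (A fr.a)) = fr.a
      rw [hA, fr.u_a, hBa, fr.u_a]
    have hsa : s fr.a = fr.a := by
      show w (w fr.a) = fr.a
      rw [hwa, hwa]
    obtain ⟨e, σ, hsform⟩ := hM.stab_a hT fr hsM (fun l => mem_line_iff_span.1 (hM.u_fix fr
        (neg_ne_zero.2 one_ne_zero) (by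
      have := LinearEquiv.congr_fun hsP (l • fr.a)
      change s (fr.u 1 (l • fr.a)) = fr.u (-1) (s (l • fr.a)) at this
      rw [fr.u_line 1 (mem_line.2 ⟨l, rfl⟩)] at this
      exact this.symm))) hsa
    rw [hsform, hM.mul_form fr, ← mul_assoc, fr.u_add, map_one] at hsP
    exact hM.two (by linear_combination hM.u_inj fr (mul_right_cancel hsP))

end OrThree

end Cfsg.Agent.FieldExtMax
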