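/-
A prime divisor of `a ^ r - 1` not dividing `a ^ 2 - 1`, for odd `a` and an odd prime `r ≥ 5`.

Main results: `exists_ell`.
-/
import Mathlib.Algebra.Order.BigOperators.Group.Finset
import Mathlib.Algebra.Ring.GeomSum
import Mathlib.Data.Nat.Prime.Basic
import Mathlib.RingTheory.Int.Basic
import Mathlib.Tactic.LinearCombination
import Mathlib.Tactic.Ring
import Mathlib.Tactic.Positivity
import Mathlib.FieldTheory.Finite.Basic

set_option autoImplicit false

namespace Cfsg.Agent.FieldExtMax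

open Finset

/-- The geometric sum is `r` modulo `r ^ 2` when `r ∣ a - 1`. -/
lemma geom_mod_sq {a : ℤ} {r : ℕ} (hr : Odd r) (h : (r : ℤ) ∣ a - 1) :
    (r : ℤ) * r ∣ ∑ i ∈ range r, a ^ i - r := by
  obtain ⟨x, hx⟩ := h
  have hn : ∀ n : ℕ, (r : ℤ) * r ∣ 2 * (∑ i ∈ range n, a ^ i - n) - n * (n - 1) * (r * x) := by
    intro n
    induction n with
    | zero => simp
    | succ n ih =>
      have hp : ∀ k : ℕ, (r : ℤ) * r ∣ a ^ k - 1 - k * (r * x) := by
        intro k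
        induction k with
        | zero => simp
        | succ k ihk =>
          have e : a ^ (k + 1) - 1 - ((k + 1 : ℕ) : ℤ) * (r * x)
              = a * (a ^ k - 1 - k * (r * x)) + (r * r) * (k * x * x) := by
            push_cast
            linear_combination (1 + (k : ℤ) * (r * x)) * hx
          rw [e]
          exact dvd_add (dvd_mul_of_dvd_right ihk _) (dvd_mul_right _ _)
      have e : 2 * (∑ i ∈ range (n + 1), a ^ i - ((n + 1 : ℕ) : ℤ))
          - ((n + 1 : ℕ) : ℤ) * (((n + 1 : ℕ) : ℤ) - 1) * (r * x)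
          = (2 * (∑ i ∈ range n, a ^ i - n) - n * (n - 1) * (r * x))
            + 2 * (a ^ n - 1 - n * (r * x)) := by
        rw [Finset.sum_range_succ]; push_cast; ring
      rw [e]
      exact dvd_add ih (dvd_mul_of_dvd_right (hp n) _)
  have h2 : (r : ℤ) * r ∣ 2 * (∑ i ∈ range r, a ^ i - r) := by
    have h' : (r : ℤ) * r ∣ (r : ℤ) * ((r : ℤ) - 1) * (r * x) := ⟨((r : ℤ) - 1) * x, by ring⟩
    have := dvd_add (hn r) h'
    rwa [sub_add_cancel] at this
  refine Int.dvd_of_dvd_mul_right_of_gcd_one h2 ?_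
  rw [Int.gcd_eq_natAbs]
  simp only [Int.natAbs_mul, Int.natAbs_natCast, Int.reduceAbs]
  exact Nat.Coprime.mul_left (Nat.coprime_two_right.2 hr) (Nat.coprime_two_right.2 hr)

lemma odd_geom {a : ℤ} (ha : Odd a) : ∀ n : ℕ, Odd (∑ i ∈ range n, a ^ i) ↔ Odd n := by
  intro n
  induction n with
  | zero => simp
  | succ n ih =>
    rw [Finset.sum_range_succ, Int.odd_add, ih, Nat.odd_add_one]
    have he : ¬ Even (a ^ n) := Int.not_even_iff_odd.2 ha.pow
    simp [he]

/-- A prime divisor of `a ^ r - 1` not dividing `a ^ 2 - 1`. -/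
theorem exists_ell {a : ℤ} (ha : Odd a) (ha3 : 3 ≤ |a|) {r : ℕ} (hr : r.Prime) (hr3 : 3 ≤ r) :
    ∃ ℓ : ℕ, ℓ.Prime ∧ ℓ ≠ 2 ∧ (ℓ : ℤ) ∣ a ^ r - 1 ∧ ¬ (ℓ : ℤ) ∣ a ^ 2 - 1 := by
  have hrodd : Odd r := hr.odd_of_ne_two (by omega)
  set S := ∑ i ∈ range r, a ^ i with hS
  have hSmul : S * (a - 1) = a ^ r - 1 := geom_sum_mul a r
  have hSodd : Odd S := (odd_geom ha r).2 hrodd
  by_contra hcon
  push Not at hcon
  have hprimes : ∀ ℓ : ℕ, ℓ.Prime → (ℓ : ℤ) ∣ S → ℓ = r ∧ (r : ℤ) ∣ a - 1 := by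
    intro ℓ hℓ hdvd
    have hne : ℓ ≠ 2 := fun h => by
      subst h
      exact (Int.not_even_iff_odd.2 hSodd) (even_iff_two_dvd.2 (by exact_mod_cast hdvd))
    have h1 := hcon ℓ hℓ hne (hSmul ▸ dvd_mul_of_dvd_left hdvd _)
    have hℓ' : Prime (ℓ : ℤ) := Nat.prime_iff_prime_int.1 hℓ
    rw [show a ^ 2 - 1 = (a - 1) * (a + 1) by ring] at h1
    rcases hℓ'.dvd_or_dvd h1 with h | h
    · have h2 : (ℓ : ℤ) ∣ S - r := by
        have e : S - (r : ℤ) = ∑ i ∈ range r, (a ^ i - 1) := by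
          rw [Finset.sum_sub_distrib]; simp [hS]
        rw [e]
        exact Finset.dvd_sum fun i _ => h.trans (sub_one_dvd_pow_sub_one a i)
      have h3 : (ℓ : ℤ) ∣ (r : ℤ) := by simpa using dvd_sub hdvd h2
      have h4 : ℓ = r := (Nat.prime_dvd_prime_iff_eq hℓ hr).1 (by exact_mod_cast h3)
      exact ⟨h4, h4 ▸ h⟩
    · exfalso
      have hdd : ∀ n : ℕ, (ℓ : ℤ) ∣ 2 * (∑ i ∈ range n, a ^ i) - (1 - (-1) ^ n) := by
        intro n
        induction n with
        | zero => simp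
        | succ n ih =>
          have h5 : (ℓ : ℤ) ∣ a ^ n - (-1) ^ n :=
            (show (ℓ : ℤ) ∣ a - (-1) by simpa using h).trans (sub_dvd_pow_sub_pow a (-1) n)
          have e : 2 * (∑ i ∈ range (n + 1), a ^ i) - (1 - (-1 : ℤ) ^ (n + 1))
              = (2 * (∑ i ∈ range n, a ^ i) - (1 - (-1) ^ n)) + 2 * (a ^ n - (-1) ^ n) := by
            rw [Finset.sum_range_succ, pow_succ]; ring
          rw [e]
          exact dvd_add ih (dvd_mul_of_dvd_right h5 _)
      have h6 := hdd r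
      rw [hrodd.neg_one_pow] at h6
      have h7 : (ℓ : ℤ) ∣ 2 := by
        have := dvd_sub (dvd_mul_of_dvd_right hdvd 2) h6
        simpa [hS] using this
      exact hne ((Nat.prime_dvd_prime_iff_eq hℓ Nat.prime_two).1 (by exact_mod_cast h7))
  -- so the sum is no larger than `r`
  have hSsmall : S.natAbs ∣ r := by
    by_cases hex : ∃ ℓ : ℕ, ℓ.Prime ∧ (ℓ : ℤ) ∣ S
    · obtain ⟨ℓ, hℓ, hd⟩ := hex
      obtain ⟨rfl, hra⟩ := hprimes ℓ hℓ hd
      have hnd : ¬ (ℓ : ℤ) * ℓ ∣ S := fun hh => by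
        have := dvd_sub hh (geom_mod_sq hrodd hra)
        rw [← hS, sub_sub_cancel] at this
        have h8 : ℓ * ℓ ∣ ℓ := by exact_mod_cast this
        have := Nat.le_of_dvd hℓ.pos h8
        nlinarith [hℓ.two_le]
      obtain ⟨T, hT⟩ := hd
      by_cases hT1 : T.natAbs = 1
      · rw [hT, Int.natAbs_mul, hT1, mul_one, Int.natAbs_natCast]
      · obtain ⟨m, hm, hmT⟩ := Nat.exists_prime_and_dvd hT1
        obtain ⟨rfl, -⟩ := hprimes m hm (hT ▸ dvd_mul_of_dvd_right (Int.natCast_dvd.2 hmT) _)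
        exact absurd (hT ▸ mul_dvd_mul_left _ (Int.natCast_dvd.2 hmT)) hnd
    · push Not at hex
      by_cases h1 : S.natAbs = 1
      · rw [h1]; exact one_dvd _
      · obtain ⟨m, hm, hmS⟩ := Nat.exists_prime_and_dvd h1
        exact absurd (Int.natCast_dvd.2 hmS) (hex m hm)
  have hle : S.natAbs ≤ r := Nat.le_of_dvd hr.pos hSsmall
  have h1 : (a ^ r - 1).natAbs ≤ r * (a - 1).natAbs := by
    rw [← hSmul, Int.natAbs_mul]; exact Nat.mul_le_mul_right _ hle
  have hA : 3 ≤ a.natAbs := by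
    have : (3 : ℤ) ≤ (a.natAbs : ℤ) := by rw [Int.natCast_natAbs]; exact ha3
    exact_mod_cast this
  have h2 : a.natAbs ^ r ≤ r * (a.natAbs + 1) + 1 := by
    have h3 : (a ^ r).natAbs ≤ (a ^ r - 1).natAbs + 1 := by
      have := Int.natAbs_add_le (a ^ r - 1) 1
      simpa using this
    have h4 : (a - 1).natAbs ≤ a.natAbs + 1 := by
      have := Int.natAbs_sub_le a 1
      simpa using this
    rw [← Int.natAbs_pow]
    calc (a ^ r).natAbs ≤ (a ^ r - 1).natAbs + 1 := h3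
      _ ≤ r * (a.natAbs + 1) + 1 := by
          have := h1.trans (Nat.mul_le_mul_left r h4); omega
  have h5 : ∀ n, 5 ≤ n → 4 * n + 1 < 3 ^ (n - 1) := by
    intro n hn
    induction n, hn using Nat.le_induction with
    | base => norm_num
    | succ n hn ih =>
      rw [Nat.add_sub_cancel, show n = n - 1 + 1 by omega, pow_succ]
      omega
  have h6 : 3 ^ (r - 1) * a.natAbs ≤ a.natAbs ^ r := by
    conv_rhs => rw [show r = r - 1 + 1 by omega, pow_succ]
    exact Nat.mul_le_mul_right _ (Nat.pow_le_pow_left hA _)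
  rcases (show r = 3 ∨ r = 4 ∨ 5 ≤ r by omega) with rfl | rfl | hr5
  · nlinarith [Nat.mul_le_mul (Nat.mul_le_mul hA hA) (le_refl a.natAbs)]
  · exact absurd hr (by decide)
  · have h7 := h5 r hr5
    nlinarith

end Cfsg.Agent.FieldExtMax
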