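/-
Orthogonal triples of a three-dimensional space over `K` and rotations around the first vector.

Main definitions: `Tri`, `Tri.J`, `Tri.IsRot`, `IsTorus`.
Main results: `OrThree.exists_tri`, `OrThree.exists_torus`.
-/
import Cfsg.Agent.Lib.FieldExtMax.Three.Base
import Cfsg.Agent.Lib.FieldExtMax.Three.Prime
import Mathlib.FieldTheory.IsAlgClosed.AlgebraicClosure
import Mathlib.RingTheory.RootsOfUnity.AlgebraicallyClosed

set_option autoImplicit false
set_option linter.unusedSectionVars false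

namespace Cfsg.Agent.FieldExtMax

open Module Polynomial

variable {F K V : Type*} [Field F] [Finite F] [Field K] [Finite K] [Algebra F K]
  [AddCommGroup V] [Module F V] [Module K V] [IsScalarTower F K V] [Finite V]

lemma half_sum_aux {L : Type*} [Field L] {w ι : L} (hw : w ≠ 0) (h2 : (2 : L) ≠ 0) (hι : ι ≠ 0) :
    (w + w⁻¹) / 2 + (w - w⁻¹) / (2 * ι) * ι = w ∧ 2 * ((w + w⁻¹) / 2) = w + w⁻¹ ∧
      (w + w⁻¹) / 2 * ((w + w⁻¹) / 2)
        + -(ι * ι) * ((w - w⁻¹) / (2 * ι) * ((w - w⁻¹) / (2 * ι))) = 1 := by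
  refine ⟨?_, ?_, ?_⟩
  · field_simp; ring
  · field_simp
  · field_simp; ring

lemma root_mul_aux {L : Type*} [Field L] {a : L} (ha : a ≠ 0) (y : L) :
    (y - a) * (y - a⁻¹) = y ^ 2 - (a + a⁻¹) * y + 1 := by
  field_simp; ring

/-- An orthogonal triple of anisotropic vectors. -/
structure Tri (B : V →ₗ[K] V →ₗ[K] K) where
  /-- the axis -/
  x : V
  /-- the first vector of the plane -/
  u : V
  /-- the second vector of the plane -/
  v : V
  /-- the norm of `x` -/
  cx : K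
  /-- the norm of `u` -/
  cu : K
  /-- the norm of `v` -/
  cv : K
  xu : B x u = 0
  ux : B u x = 0
  xv : B x v = 0
  vx : B v x = 0
  uv : B u v = 0
  vu : B v u = 0
  xx : B x x = cx
  uu : B u u = cu
  vv : B v v = cv
  cx0 : cx ≠ 0
  cu0 : cu ≠ 0
  cv0 : cv ≠ 0
  two : (2 : K) ≠ 0
  symm : ∀ y y', B y y' = B y' y
  dec : ∀ y, y = (B y x / cx) • x + (B y u / cu) • u + (B y v / cv) • v

variable {B : V →ₗ[K] V →ₗ[K] K} {M : Subgroup (V ≃ₗ[F] V)}

namespace Tri

variable (T : Tri B)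

lemma ext {y y' : V} (h1 : B y T.x = B y' T.x) (h2 : B y T.u = B y' T.u)
    (h3 : B y T.v = B y' T.v) : y = y' := by
  rw [T.dec y, T.dec y', h1, h2, h3]

lemma inner_eq (y y' : V) : B y y'
    = B y T.x * B y' T.x / T.cx + B y T.u * B y' T.u / T.cu + B y T.v * B y' T.v / T.cv := by
  conv_lhs => rw [T.dec y']
  simp only [map_add, map_smul, smul_eq_mul]
  ring

/-- The part in the plane. -/
noncomputable def pl : V →ₗ[K] V := LinearMap.id - (T.cx⁻¹ • B.flip T.x).smulRight T.x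

lemma pl_coord (y : V) : B (T.pl y) T.x = 0 ∧ B (T.pl y) T.u = B y T.u ∧ B (T.pl y) T.v = B y T.v := by
  have h : T.pl y = y - (T.cx⁻¹ * B y T.x) • T.x := rfl
  simp [h, T.xx, T.xu, T.xv, mul_assoc, mul_comm, mul_left_comm, T.cx0]

/-- The quarter turn of the plane, scaled. -/
noncomputable def J : V →ₗ[K] V := (B.flip T.u).smulRight T.v - (B.flip T.v).smulRight T.u

lemma J_apply (y : V) : T.J y = B y T.u • T.v - B y T.v • T.u := rfl

lemma J_coord (y : V) : B (T.J y) T.x = 0 ∧ B (T.J y) T.u = -(B y T.v * T.cu) ∧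
    B (T.J y) T.v = B y T.u * T.cv := by
  simp [J_apply, T.ux, T.vx, T.uu, T.vv, T.uv, T.vu]

/-- The linear map with a rotation on the plane. -/
noncomputable def rotMap (s μ : K) : V →ₗ[K] V := LinearMap.id + (s - 1) • T.pl + μ • T.J

lemma rotMap_coord (s μ : K) (y : V) : B (T.rotMap s μ y) T.x = B y T.x ∧
    B (T.rotMap s μ y) T.u = s * B y T.u - μ * T.cu * B y T.v ∧
    B (T.rotMap s μ y) T.v = s * B y T.v + μ * T.cv * B y T.u := by
  obtain ⟨p1, p2, p3⟩ := T.pl_coord y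
  obtain ⟨j1, j2, j3⟩ := T.J_coord y
  have h : T.rotMap s μ y = y + (s - 1) • T.pl y + μ • T.J y := rfl
  simp only [h, map_add, map_smul, LinearMap.add_apply, LinearMap.smul_apply, smul_eq_mul, p1, p2,
    p3, j1, j2, j3]
  exact ⟨by ring, by ring, by ring⟩

/-- The product of the norms of the plane. -/
def c : K := T.cu * T.cv

/-- A pair giving an isometry. -/
def NormOne (s μ : K) : Prop := s * s + T.c * (μ * μ) = 1

/-- `g` is the rotation of `s` and `μ`. -/
def IsRot (g : V ≃ₗ[F] V) (s μ : K) : Prop := ∀ y, g y = T.rotMap s μ y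

lemma rotMap_mul (s μ s' μ' : K) (y : V) : T.rotMap s μ (T.rotMap s' μ' y)
    = T.rotMap (s * s' - T.c * (μ * μ')) (s * μ' + μ * s') y := by
  obtain ⟨a1, a2, a3⟩ := T.rotMap_coord s' μ' y
  obtain ⟨b1, b2, b3⟩ := T.rotMap_coord s μ (T.rotMap s' μ' y)
  obtain ⟨c1, c2, c3⟩ := T.rotMap_coord (s * s' - T.c * (μ * μ')) (s * μ' + μ * s') y
  refine T.ext ?_ ?_ ?_
  · rw [b1, a1, c1]
  · rw [b2, a2, a3, c2, c]; ring
  · rw [b3, a2, a3, c3, c]; ring

lemma rotMap_one (y : V) : T.rotMap 1 0 y = y := by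
  obtain ⟨h1, h2, h3⟩ := T.rotMap_coord 1 0 y
  exact T.ext h1 (by rw [h2]; ring) (by rw [h3]; ring)

lemma rotMap_isom {s μ : K} (h : T.NormOne s μ) (y y' : V) :
    B (T.rotMap s μ y) (T.rotMap s μ y') = B y y' := by
  obtain ⟨a1, a2, a3⟩ := T.rotMap_coord s μ y
  obtain ⟨b1, b2, b3⟩ := T.rotMap_coord s μ y'
  rw [T.inner_eq (T.rotMap s μ y), T.inner_eq y, a1, a2, a3, b1, b2, b3]
  have h' := h
  unfold NormOne c at h'
  field_simp [T.cx0, T.cu0, T.cv0]
  linear_combination (T.cx * T.cv * B y T.u * B y' T.u + T.cx * T.cu * B y T.v * B y' T.v) * h'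

lemma exists_isRot {s μ : K} (h : T.NormOne s μ) : ∃ g : V ≃ₗ[F] V, T.IsRot g s μ := by
  refine ⟨LinearEquiv.ofLinear ((T.rotMap s μ).restrictScalars F)
    ((T.rotMap s (-μ)).restrictScalars F) ?_ ?_, fun y => rfl⟩
  all_goals
    refine LinearMap.ext fun y => ?_
    simp only [LinearMap.comp_apply, LinearMap.restrictScalars_apply, rotMap_mul, LinearMap.id_apply]
    conv_rhs => rw [← T.rotMap_one y]
    congr 2
    · unfold NormOne at h; linear_combination h
    · ring

variable {T}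

lemma IsRot.mul {g g' : V ≃ₗ[F] V} {s μ s' μ' : K} (hg : T.IsRot g s μ) (hg' : T.IsRot g' s' μ') :
    T.IsRot (g * g') (s * s' - T.c * (μ * μ')) (s * μ' + μ * s') := fun y => by
  show g (g' y) = _
  rw [hg, hg', rotMap_mul]

lemma IsRot.inv {g : V ≃ₗ[F] V} {s μ : K} (h : T.NormOne s μ) (hg : T.IsRot g s μ) :
    T.IsRot g⁻¹ s (-μ) := fun y => by
  apply g.injective
  show g (g.symm y) = g _
  rw [LinearEquiv.apply_symm_apply, hg, rotMap_mul]
  conv_lhs => rw [← T.rotMap_one y]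
  congr 2
  · unfold NormOne at h; linear_combination -h
  · ring

lemma IsRot.smul {g : V ≃ₗ[F] V} {s μ : K} (hg : T.IsRot g s μ) (k : K) (y : V) :
    g (k • y) = k • g y := by rw [hg, hg, map_smul]

lemma IsRot.apply_x {g : V ≃ₗ[F] V} {s μ : K} (hg : T.IsRot g s μ) (k : K) :
    g (k • T.x) = k • T.x := by
  obtain ⟨h1, h2, h3⟩ := T.rotMap_coord s μ (k • T.x)
  rw [hg]
  exact T.ext h1 (by rw [h2]; simp [T.xu, T.xv]) (by rw [h3]; simp [T.xu, T.xv])

lemma NormOne.mul {s μ s' μ' : K} (h : T.NormOne s μ) (h' : T.NormOne s' μ') :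
    T.NormOne (s * s' - T.c * (μ * μ')) (s * μ' + μ * s') := by
  unfold NormOne at *
  linear_combination (s' * s' + T.c * (μ' * μ')) * h + h'

end Tri

/-- A rotation of prime order generating all rotations of that order. -/
structure IsTorus (T : Tri B) (M : Subgroup (V ≃ₗ[F] V)) (ℓ : ℕ) (t : V ≃ₗ[F] V) (s μ : K) :
    Prop where
  prime : ℓ.Prime
  cast_ne : (ℓ : F) ≠ 0
  not_fermat : ∀ m, ℓ ≠ 2 ^ m + 1
  mem : t ∈ M
  rot : T.IsRot t s μ
  norm_one : T.NormOne s μ
  not_base : s ∉ Set.range (algebraMap F K)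
  mu_ne : μ ≠ 0
  pow_eq : t ^ ℓ = 1
  ne_one : t ≠ 1
  unique : ∀ (g : V ≃ₗ[F] V) (s' μ' : K), T.IsRot g s' μ' → T.NormOne s' μ' → g ^ ℓ = 1 →
    ∃ j : ℕ, g = t ^ j

namespace OrThree

variable (hM : OrThree B M)
include hM

/-- Squares of rotations lie in `M`. -/
theorem rot_sq_mem (T : Tri B) {g : V ≃ₗ[F] V} {s μ : K} (h : T.NormOne s μ)
    (hg : T.IsRot g s μ) : g * g ∈ M := by
  let f : V →ₗ[K] V := LinearMap.id - ((2 * T.cv⁻¹) • B.flip T.v).smulRight T.v
  have hf : ∀ y, B (f y) T.x = B y T.x ∧ B (f y) T.u = B y T.u ∧ B (f y) T.v = -B y T.v := by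
    intro y
    have e : f y = y - (2 * T.cv⁻¹ * B y T.v) • T.v := rfl
    simp only [e, map_sub, map_smul, LinearMap.sub_apply, LinearMap.smul_apply, smul_eq_mul, T.vx,
      T.vu, T.vv]
    refine ⟨by ring, by ring, ?_⟩
    field_simp [T.cv0]
    ring
  obtain ⟨r, hr, hrl, hrB⟩ := hM.exists_equiv f fun y y' => by
    rw [T.inner_eq (f y), T.inner_eq y, (hf y).1, (hf y).2.1, (hf y).2.2, (hf y').1, (hf y').2.1,
      (hf y').2.2]
    ring
  have hg' : T.IsRot g⁻¹ s (-μ) := hg.inv h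
  have hgl : ∀ (k : K) y, g⁻¹ (k • y) = k • g⁻¹ y := hg'.smul
  have hgB : ∀ y y', B (g⁻¹ y) (g⁻¹ y') = B y y' := fun y y' => by
    rw [hg', hg', T.rotMap_isom]
    unfold Tri.NormOne at *
    linear_combination h
  have hm := hM.comm r g⁻¹ hrl hrB hgl hgB
  have hconj : r * g⁻¹ * r⁻¹ = g := by
    rw [mul_inv_eq_iff_eq_mul]
    refine LinearEquiv.ext fun y => ?_
    show r (g⁻¹ y) = g (r y)
    rw [hr, hg', hg, hr]
    obtain ⟨a1, a2, a3⟩ := T.rotMap_coord s (-μ) y
    obtain ⟨b1, b2, b3⟩ := T.rotMap_coord s μ (f y)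
    refine T.ext ?_ ?_ ?_
    · rw [(hf _).1, a1, b1, (hf _).1]
    · rw [(hf _).2.1, a2, b2, (hf _).2.1, (hf _).2.2]; ring
    · rw [(hf _).2.2, a3, b3, (hf _).2.1, (hf _).2.2]; ring
  rwa [hconj, inv_inv] at hm

lemma eq_zero_of_tri {x u v : V} {cx cu cv : K} (hxx : B x x = cx) (huu : B u u = cu)
    (hvv : B v v = cv) (hcx : cx ≠ 0) (hcu : cu ≠ 0) (hcv : cv ≠ 0) (hxu : B x u = 0)
    (hxv : B x v = 0) (huv : B u v = 0) {d : V} (h1 : B d x = 0) (h2 : B d u = 0)
    (h3 : B d v = 0) : d = 0 := by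
  haveI : Module.Finite K V := Module.Finite.of_finite
  have htop : Submodule.span K (Set.range ![x, u, v]) = ⊤ := by
    refine (Fintype.linearIndependent_iff.2 fun g hg => ?_).span_eq_top_of_card_eq_finrank'
      (by simp [hM.dim3])
    simp only [Fin.sum_univ_three, Matrix.cons_val_zero, Matrix.cons_val_one, Matrix.cons_val] at hg
    intro i
    fin_cases i
    · have := congrArg (B x) hg
      simpa [hxx, hxu, hxv, hcx] using this
    · have := congrArg (B u) hg
      simpa [huu, hM.symm u x, hxu, huv, hcu] using this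
    · have := congrArg (B v) hg
      simpa [hvv, hM.symm v x, hM.symm v u, hxv, huv, hcv] using this
  exact hM.eq_zero_of_frame htop h1 h2 h3

lemma tri_of {x u v : V} (hxu : B x u = 0) (hxv : B x v = 0) (huv : B u v = 0)
    (hx : B x x ≠ 0) (hu : B u u ≠ 0) (hv : B v v ≠ 0) :
    ∃ T : Tri B, T.x = x ∧ T.u = u ∧ T.v = v := by
  have hux := (hM.symm u x).trans hxu
  have hvx := (hM.symm v x).trans hxv
  have hvu := (hM.symm v u).trans huv
  exact ⟨{ x := x, u := u, v := v, cx := B x x, cu := B u u, cv := B v v, xu := hxu, ux := hux,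
           xv := hxv, vx := hvx, uv := huv, vu := hvu, xx := rfl, uu := rfl, vv := rfl, cx0 := hx,
           cu0 := hu, cv0 := hv, two := hM.two, symm := hM.symm,
           dec := fun y => sub_eq_zero.1 (hM.eq_zero_of_tri rfl rfl rfl hx hu hv hxu hxv huv
             (by simp [hux, hvx, hx]) (by simp [hxu, hvu, hu]) (by simp [hxv, huv, hv])) },
    rfl, rfl, rfl⟩

/-- Every anisotropic vector is the axis of a triple. -/
theorem exists_tri {x : V} (hx : B x x ≠ 0) : ∃ T : Tri B, T.x = x := by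
  haveI : Module.Finite K V := Module.Finite.of_finite
  set P := LinearMap.ker (B x) with hP
  have hsplit : ∀ y, y - (B x y / B x x) • x ∈ P := fun y => by
    show B x _ = 0
    rw [map_sub, map_smul, smul_eq_mul, div_mul_cancel₀ _ hx, sub_self]
  have hnd : ∀ z ∈ P, (∀ y ∈ P, B z y = 0) → z = 0 := fun z hz h => hM.nondeg z fun y => by
    have h1 := h _ (hsplit y)
    have h2 : B z x = 0 := by rw [hM.symm]; exact hz
    rwa [map_sub, map_smul, h2, smul_zero, sub_zero] at h1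
  have hdim : 2 ≤ finrank K P := by
    have h1 := LinearMap.finrank_range_add_finrank_ker (B x)
    have h2 := Submodule.finrank_le (LinearMap.range (B x))
    rw [Module.finrank_self] at h2
    rw [hM.dim3, ← hP] at h1
    omega
  obtain ⟨u, hu, hu1⟩ := hM.exists_norm P hdim hnd 1
  obtain ⟨v, hv, hv0⟩ : ∃ v ∈ perpK B x u, v ≠ 0 := by
    refine (Submodule.ne_bot_iff _).1 fun h => ?_
    have := finrank_perpK B x u
    rw [h, finrank_bot, hM.dim3] at this
    omega
  rw [mem_perpK] at hv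
  have hvv : B v v ≠ 0 := fun h => hv0 (hM.nondeg v fun y => by
    have hxu : B x u = 0 := hu
    set d := y - (B x y / B x x) • x - (B u y) • u with hd
    have hdx : B x d = 0 := by simp [hd, hxu, hx]
    have hdu : B u d = 0 := by simp [hd, hM.symm u x, hxu, hu1]
    -- `d` and `v` lie on the line orthogonal to `x` and `u`
    have hle : finrank K (perpK B x u) ≤ 1 := by
      have h1 := LinearMap.finrank_range_add_finrank_ker ((B x).prod (B u))
      rw [hM.dim3] at h1
      have h2 : LinearMap.range ((B x).prod (B u)) = ⊤ := LinearMap.range_eq_top.2 fun p =>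
        ⟨(p.1 / B x x) • x + p.2 • u, by simp [hxu, hu1, hM.symm u x, hx]⟩
      rw [h2, finrank_top, Module.finrank_prod, Module.finrank_self] at h1
      unfold perpK
      omega
    have hspan : perpK B x u = K ∙ v := (Submodule.eq_of_le_of_finrank_le
      ((Submodule.span_singleton_le_iff_mem v _).2 (mem_perpK.2 hv))
      (by rw [finrank_span_singleton hv0]; exact hle)).symm
    obtain ⟨k, hk⟩ := Submodule.mem_span_singleton.1
      (hspan ▸ (mem_perpK.2 ⟨hdx, hdu⟩ : d ∈ perpK B x u))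
    have hy : y = d + (B x y / B x x) • x + B u y • u := by rw [hd]; abel
    rw [hy, map_add, map_add, ← hk, map_smul, map_smul, map_smul, h, hM.symm v x, hv.1,
      hM.symm v u, hv.2]
    simp)
  obtain ⟨T, hT, -⟩ := hM.tri_of (u := u) (v := v) hu hv.1 hv.2 hx
    (by rw [hu1]; exact one_ne_zero) hvv
  exact ⟨T, hT⟩

/-- A torus of prime order around every axis. -/
theorem exists_torus (T : Tri B) : ∃ ℓ t s μ, IsTorus T M ℓ t s μ := by
  classical
  letI := Fintype.ofFinite K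
  letI := Fintype.ofFinite F
  haveI : Module.Finite F K := Module.Finite.of_finite
  set q := Fintype.card F with hq
  set r := finrank F K with hr
  set Q := Fintype.card K with hQ
  have hQq : Q = q ^ r := Module.card_eq_pow_finrank
  obtain ⟨p, hp⟩ := CharP.exists F
  haveI : Fact p.Prime := ⟨CharP.char_is_prime F p⟩
  obtain ⟨n, -, hqp⟩ := FiniteField.card F p
  let L := AlgebraicClosure K
  let f : K →+* L := algebraMap K L
  haveI : CharP K p := charP_of_injective_algebraMap (algebraMap F K).injective p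
  haveI : CharP L p := charP_of_injective_algebraMap f.injective p
  haveI : ExpChar L p := ExpChar.prime (Fact.out)
  have hcK : ringChar K ≠ 2 := fun h => hM.two (by
    haveI := ringChar.of_eq h
    exact CharTwo.two_eq_zero)
  have hcF : ringChar F ≠ 2 := fun h => hM.twoF (by
    haveI := ringChar.of_eq h
    exact CharTwo.two_eq_zero)
  have hqodd : Odd q := Nat.odd_iff.2 (FiniteField.odd_card_of_char_ne_two hcF)
  have hq3 : 3 ≤ q := by
    have : 2 ≤ q := Fintype.one_lt_card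
    rcases hqodd with ⟨w, hw⟩
    omega
  obtain ⟨ι, hι⟩ := IsAlgClosed.exists_eq_mul_self (f (-T.c))
  have hc0 : -T.c ≠ 0 := neg_ne_zero.2 (mul_ne_zero T.cu0 T.cv0)
  have hι0 : ι ≠ 0 := fun h => hc0 (f.injective (by rw [hι, h, mul_zero, map_zero]))
  have hrange : ∀ y : L, y ^ Q = y → ∃ k, f k = y := by
    intro y hy
    by_contra hne
    push Not at hne
    let S : Finset L := insert y (Finset.univ.image f)
    have hS : S.card = Q + 1 := by
      rw [Finset.card_insert_of_notMem (by simpa [eq_comm] using hne),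
        Finset.card_image_of_injective _ f.injective, Finset.card_univ]
    have hne0 : (X ^ Q - X : L[X]) ≠ 0 := FiniteField.X_pow_card_sub_X_ne_zero L Fintype.one_lt_card
    have hsub : S.val ⊆ (X ^ Q - X : L[X]).roots := by
      intro z hz
      rw [Polynomial.mem_roots hne0, IsRoot.def, eval_sub, eval_pow, eval_X, sub_eq_zero]
      rcases Finset.mem_insert.1 hz with rfl | hz
      · exact hy
      · obtain ⟨k, -, rfl⟩ := Finset.mem_image.1 hz
        rw [← map_pow, FiniteField.pow_card]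
    have := Polynomial.card_le_degree_of_subset_roots hsub
    rw [hS, FiniteField.X_pow_card_sub_X_natDegree_eq L Fintype.one_lt_card] at this
    omega
  -- the sign
  obtain ⟨ε, hε, hιQ⟩ : ∃ ε : ℤ, (ε = 1 ∨ ε = -1) ∧ ι ^ Q = (ε : L) * ι := by
    have hQ2 : Q = 2 * (Q / 2) + 1 := by
      have := FiniteField.odd_card_of_char_ne_two hcK
      omega
    have e : ι ^ Q = f ((-T.c) ^ (Q / 2)) * ι := by
      rw [map_pow, hι, ← pow_two, ← pow_mul, ← pow_succ, ← hQ2]
    rcases FiniteField.pow_dichotomy hcK hc0 with h | h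
    · exact ⟨1, Or.inl rfl, by rw [e, h, map_one, Int.cast_one]⟩
    · exact ⟨-1, Or.inr rfl, by rw [e, h, map_neg, map_one, Int.cast_neg, Int.cast_one]⟩
  have hεodd : Odd ε := by rcases hε with rfl | rfl <;> decide
  obtain ⟨ℓ, hℓ, hℓ2, hℓr, hℓn⟩ := exists_ell (a := ε * q)
    (hεodd.mul (by exact_mod_cast hqodd))
    (by rw [abs_mul, show |ε| = 1 by rcases hε with rfl | rfl <;> rfl, one_mul,
        Nat.abs_cast]; exact_mod_cast hq3)
    hM.deg hM.three_le
  haveI : Fact ℓ.Prime := ⟨hℓ⟩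
  have hεε : ε * ε = 1 := by rcases hε with rfl | rfl <;> norm_num
  have hεr : ε ^ r = ε := by
    rcases hε with rfl | rfl
    · exact one_pow _
    · exact hM.deg_odd.neg_one_pow
  have hℓQ : (ℓ : ℤ) ∣ (Q : ℤ) - ε := by
    rw [mul_pow, hεr] at hℓr
    have := dvd_mul_of_dvd_right hℓr ε
    rw [mul_sub, ← mul_assoc, hεε, one_mul, mul_one] at this
    rw [hQq]; exact_mod_cast this
  have hℓn' : ¬ (ℓ : ℤ) ∣ (q : ℤ) * q - 1 := fun h => hℓn (by
    rw [mul_pow, pow_two, hεε, one_mul, pow_two]; exact h)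
  have hℓF : (ℓ : F) ≠ 0 := fun h => by
    have hpℓ : p = ℓ := (Nat.prime_dvd_prime_iff_eq Fact.out hℓ).1 ((CharP.cast_eq_zero_iff F p ℓ).1 h)
    have h1 : (ℓ : ℤ) ∣ (Q : ℤ) := by
      rw [hQq, hq, hqp, hpℓ]
      exact_mod_cast dvd_pow (dvd_pow_self ℓ n.pos.ne') (by have := hM.three_le; omega)
    have h2 := dvd_sub h1 hℓQ
    rw [sub_sub_cancel] at h2
    have h3 : (ℓ : ℤ) ∣ 1 := by rcases hε with rfl | rfl <;> simpa using h2
    exact hℓ.ne_one (Nat.dvd_one.1 (by exact_mod_cast h3))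
  haveI : NeZero (ℓ : L) := ⟨fun h => hℓF ((algebraMap F K).injective (f.injective (by
    rw [map_natCast, map_natCast, h, map_zero, map_zero])))⟩
  obtain ⟨lam₀, hlam₀⟩ := HasEnoughRootsOfUnity.exists_primitiveRoot L ℓ
  have hl0 : lam₀ ≠ 0 := hlam₀.ne_zero hℓ.ne_zero
  -- coordinates of the roots of unity
  have hpair : ∀ w : L, w ^ ℓ = 1 → ∃ s μ : K, T.NormOne s μ ∧ f s + f μ * ι = w ∧
      2 * f s = w + w⁻¹ := by
    intro w hw
    have hw0 : w ≠ 0 := fun h => by rw [h, zero_pow hℓ.ne_zero] at hw; exact zero_ne_one hw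
    have hwQ : w ^ Q = w ^ ε := by
      rw [← zpow_natCast]
      obtain ⟨d, hd⟩ := hℓQ
      rw [show (Q : ℤ) = ε + ℓ * d by linarith, zpow_add₀ hw0, zpow_mul, zpow_natCast, hw, one_zpow,
        mul_one]
    have h2L : (2 : L) ≠ 0 := fun h => hM.two (f.injective (by rw [map_ofNat, h, map_zero]))
    have h2Q : (2 : L) ^ Q = 2 := by rw [← map_ofNat f 2, ← map_pow, FiniteField.pow_card]
    have hQodd : Odd Q := Nat.odd_iff.2 (FiniteField.odd_card_of_char_ne_two hcK)
    have hadd : ∀ a b : L, (a + b) ^ Q = a ^ Q + b ^ Q := fun a b => by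
      rw [hQq, hq, hqp, ← pow_mul]
      exact add_pow_char_pow a b p _
    have hsub : ∀ a b : L, (a - b) ^ Q = a ^ Q - b ^ Q := fun a b => by
      rw [sub_eq_add_neg, hadd, hQodd.neg_pow, ← sub_eq_add_neg]
    obtain ⟨s, hs⟩ := hrange ((w + w⁻¹) / 2) (by
      rw [div_pow, hadd, inv_pow, hwQ, h2Q]
      rcases hε with rfl | rfl
      · rw [zpow_one]
      · rw [zpow_neg_one, inv_inv, add_comm])
    obtain ⟨μ, hμ⟩ := hrange ((w - w⁻¹) / (2 * ι)) (by
      rw [div_pow, hsub, inv_pow, hwQ, mul_pow, h2Q, hιQ]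
      rcases hε with rfl | rfl
      · rw [zpow_one, Int.cast_one, one_mul]
      · rw [zpow_neg_one, inv_inv, Int.cast_neg, Int.cast_one, neg_one_mul, mul_neg,
          ← neg_sub w w⁻¹, neg_div_neg_eq])
    obtain ⟨hsum', hdbl, hnorm⟩ := half_sum_aux hw0 h2L hι0
    refine ⟨s, μ, f.injective ?_, by rw [hs, hμ]; exact hsum', by rw [hs]; exact hdbl⟩
    rw [map_add, map_mul, map_mul, map_mul, map_one, hs, hμ,
      show f T.c = -(ι * ι) by rw [← hι, map_neg, neg_neg]]
    linear_combination hnorm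
  have hinj : ∀ {s μ s' μ' : K}, T.NormOne s μ → T.NormOne s' μ' →
      f s + f μ * ι = f s' + f μ' * ι → s = s' ∧ μ = μ' := by
    intro s μ s' μ' h h' heq
    have e : ∀ {s μ : K}, T.NormOne s μ → (f s + f μ * ι) * (f s - f μ * ι) = 1 := by
      intro s μ h
      have h1 := congrArg f h
      rw [map_add, map_mul, map_mul, map_mul, map_one,
        show f T.c = -(ι * ι) by rw [← hι, map_neg, neg_neg]] at h1
      linear_combination h1
    have hne : f s + f μ * ι ≠ 0 := left_ne_zero_of_mul_eq_one (e h)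
    have heq2 : f s - f μ * ι = f s' - f μ' * ι := mul_left_cancel₀ hne (by rw [e h, heq, e h'])
    have h2L : (2 : L) ≠ 0 := fun h => hM.two (f.injective (by rw [map_ofNat, h, map_zero]))
    have hs : f s = f s' := mul_left_cancel₀ h2L (by linear_combination heq + heq2)
    exact ⟨f.injective hs, f.injective (mul_right_cancel₀ hι0 (by linear_combination heq - hs))⟩
  have hone : T.NormOne 1 0 := by unfold Tri.NormOne; ring
  have hpow : ∀ (g : V ≃ₗ[F] V) (s μ : K), T.IsRot g s μ → T.NormOne s μ → ∀ j : ℕ,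
      ∃ s' μ', T.IsRot (g ^ j) s' μ' ∧ T.NormOne s' μ' ∧ f s' + f μ' * ι = (f s + f μ * ι) ^ j := by
    intro g s μ hg hn j
    induction j with
    | zero => exact ⟨1, 0, fun y => by rw [pow_zero, T.rotMap_one]; rfl, hone, by simp⟩
    | succ j ih =>
      obtain ⟨s', μ', h1, h2, h3⟩ := ih
      refine ⟨_, _, by rw [pow_succ]; exact h1.mul hg, h2.mul hn, ?_⟩
      rw [pow_succ, ← h3, map_sub, map_mul, map_mul, map_mul, map_add, map_mul, map_mul,
        show f T.c = -(ι * ι) by rw [← hι, map_neg, neg_neg]]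
      ring
  obtain ⟨k, hk⟩ : ∃ k, ℓ + 1 = 2 * k := by
    rcases hℓ.odd_of_ne_two hℓ2 with ⟨w, hw⟩; exact ⟨w + 1, by omega⟩
  obtain ⟨s₁, μ₁, hn₁, hw₁, -⟩ := hpair (lam₀ ^ k)
    (by rw [← pow_mul, mul_comm, pow_mul, hlam₀.pow_eq_one, one_pow])
  obtain ⟨g₁, hg₁⟩ := T.exists_isRot (F := F) hn₁
  obtain ⟨s, μ, hrot, hn, hval⟩ := hpow g₁ s₁ μ₁ hg₁ hn₁ 2
  have hlam : f s + f μ * ι = lam₀ := by
    rw [hval, hw₁, ← pow_mul, mul_comm, ← hk, pow_succ, hlam₀.pow_eq_one, one_mul]
  obtain ⟨s', μ', -, hsum, hs2⟩ := hpair lam₀ hlam₀.pow_eq_one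
  have hss : s' = s := by
    obtain ⟨s'', μ'', hn'', hw'', hs''⟩ := hpair lam₀ hlam₀.pow_eq_one
    have e := (hinj hn hn'' (hlam.trans hw''.symm)).1
    have h2L : (2 : L) ≠ 0 := fun h => hM.two (f.injective (by rw [map_ofNat, h, map_zero]))
    rw [e]
    exact f.injective (mul_left_cancel₀ h2L (hs2.trans hs''.symm))
  rw [hss] at hs2
  have hnotbase : s ∉ Set.range (algebraMap F K) := by
    rintro ⟨c₀, rfl⟩
    have hroot : lam₀ ^ 2 - 2 * f (algebraMap F K c₀) * lam₀ + 1 = 0 := by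
      rw [hs2, ← root_mul_aux hl0, sub_self, zero_mul]
    let Fr := iterateFrobenius L p n
    have hFr : ∀ x, Fr x = x ^ q := fun x => by rw [iterateFrobenius_def, hq, hqp]
    have h1 := congrArg Fr hroot
    rw [map_zero, map_add, map_sub, map_mul, map_mul, map_pow, map_one, map_ofNat,
      hFr (f (algebraMap F K c₀)), ← map_pow f, ← map_pow (algebraMap F K), FiniteField.pow_card, hFr] at h1
    have h2 : (lam₀ ^ q - lam₀) * (lam₀ ^ q - lam₀⁻¹) = 0 := by
      have e : (lam₀ ^ q - lam₀) * (lam₀ ^ q - lam₀⁻¹)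
          = (lam₀ ^ q) ^ 2 - 2 * f (algebraMap F K c₀) * lam₀ ^ q + 1 := by
        rw [hs2]; exact root_mul_aux hl0 _
      rw [e, h1]
    have h3 : lam₀ ^ (q * q) = lam₀ := by
      rcases mul_eq_zero.1 h2 with h | h <;> rw [sub_eq_zero] at h <;> rw [pow_mul, h]
      · exact h
      · rw [inv_pow, h, inv_inv]
    have h4 : lam₀ ^ (q * q - 1) = 1 := mul_right_cancel₀ hl0 (by
      rw [← pow_succ, Nat.sub_add_cancel (Nat.one_le_iff_ne_zero.2 (by positivity)), h3, one_mul])
    have h5 := Int.natCast_dvd_natCast.2 ((hlam₀.pow_eq_one_iff_dvd _).1 h4)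
    rw [Nat.cast_sub (Nat.one_le_iff_ne_zero.2 (by positivity)), Nat.cast_mul, Nat.cast_one] at h5
    exact hℓn' h5
  have hFermat : ∀ m, ℓ ≠ 2 ^ m + 1 := by
    intro m hm
    have e1 : ((q : ℤ) * q) ^ r ≡ 1 [ZMOD ℓ] := by
      rw [Int.modEq_iff_dvd]
      rw [mul_pow, ← Nat.cast_pow, ← hQq]
      have e : (1 : ℤ) - (Q : ℤ) * Q = -(((Q : ℤ) - ε) * ((Q : ℤ) + ε)) := by
        linear_combination -hεε
      rw [e]
      exact (dvd_mul_of_dvd_left hℓQ _).neg_right
    have e2 : (((q : ℤ) * q : ℤ) : ZMod ℓ) ^ r = 1 := by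
      rw [← Int.cast_pow, ← Int.cast_one, ZMod.intCast_eq_intCast_iff]; exact e1
    have e3 : (((q : ℤ) * q : ℤ) : ZMod ℓ) ≠ 1 := fun h => hℓn' (by
      rw [← Int.cast_one, ZMod.intCast_eq_intCast_iff, Int.modEq_iff_dvd] at h
      simpa using h.neg_right)
    have hu0 : (((q : ℤ) * q : ℤ) : ZMod ℓ) ≠ 0 := fun h => by
      rw [h, zero_pow (by have := hM.three_le; omega)] at e2
      exact zero_ne_one e2
    haveI : Fact r.Prime := ⟨hM.deg⟩
    have ho := orderOf_eq_prime e2 e3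
    have hd := orderOf_dvd_of_pow_eq_one (ZMod.pow_card_sub_one_eq_one hu0)
    rw [ho, hm, Nat.add_sub_cancel] at hd
    have := (Nat.prime_dvd_prime_iff_eq hM.deg Nat.prime_two).1 (hM.deg.dvd_of_dvd_pow hd)
    have := hM.three_le
    omega
  refine ⟨ℓ, g₁ ^ 2, s, μ, ⟨hℓ, hℓF, hFermat, ?_, hrot, hn, hnotbase, ?_, ?_, ?_, ?_⟩⟩
  · rw [pow_two]; exact hM.rot_sq_mem T hn₁ hg₁
  · rintro rfl
    unfold Tri.NormOne at hn
    rw [mul_zero, mul_zero, add_zero] at hn
    rcases mul_self_eq_one_iff.1 hn with rfl | rfl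
    · exact hnotbase ⟨1, map_one _⟩
    · exact hnotbase ⟨-1, by rw [map_neg, map_one]⟩
  · obtain ⟨a, b, hab, habn, habv⟩ := hpow _ s μ hrot hn ℓ
    rw [hlam, hlam₀.pow_eq_one] at habv
    obtain ⟨rfl, rfl⟩ := hinj habn hone (by rw [habv, map_one, map_zero, zero_mul, add_zero])
    exact LinearEquiv.ext fun y => by rw [hab, T.rotMap_one]; rfl
  · intro h
    obtain ⟨b1, b2, b3⟩ := T.rotMap_coord s μ T.u
    have hu := hrot T.u
    rw [h] at hu
    rw [← hu] at b2
    change B T.u T.u = _ at b2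
    rw [T.uu, T.uv, mul_zero, sub_zero] at b2
    exact hnotbase ⟨1, by rw [map_one]; exact mul_right_cancel₀ T.cu0 ((one_mul _).trans b2)⟩
  · intro g s' μ' hg hn' hgℓ
    obtain ⟨a, b, hab, habn, habv⟩ := hpow g s' μ' hg hn' ℓ
    have ha1 : a = 1 ∧ b = 0 := by
      obtain ⟨-, c2, c3⟩ := T.rotMap_coord a b T.u
      have hu := hab T.u
      rw [hgℓ] at hu
      rw [← hu] at c2 c3
      change B T.u T.u = _ at c2
      change B T.u T.v = _ at c3
      rw [T.uu, T.uv, mul_zero, sub_zero] at c2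
      rw [T.uv, T.uu, mul_zero, zero_add, eq_comm, mul_eq_zero, mul_eq_zero] at c3
      exact ⟨mul_right_cancel₀ T.cu0 (c2.symm.trans (one_mul _).symm),
        (c3.resolve_right T.cu0).resolve_right T.cv0⟩
    rw [ha1.1, ha1.2, map_one, map_zero, zero_mul, add_zero] at habv
    obtain ⟨j, -, hj⟩ := hlam₀.eq_pow_of_pow_eq_one habv.symm
    obtain ⟨a', b', hab', habn', habv'⟩ := hpow _ s μ hrot hn j
    rw [hlam, hj] at habv'
    obtain ⟨rfl, rfl⟩ := hinj habn' hn' habv'
    exact ⟨j, LinearEquiv.ext fun y => by rw [hg, hab']⟩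

end OrThree

end Cfsg.Agent.FieldExtMax
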