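/-
The two triples of a frame, maps of their planes, and half turns.

Main definitions: `Frame.e`, `Frame.f`, `Frame.triE`, `Frame.triZ`, `Tri.Adapted`, `PlaneFix`,
`axisFix`.
Main results: `Tri.det_rotMap`, `Tri.semi_of_smul`, `OrThree.plane_iso`, `OrThree.rot_of_linear`,
`OrThree.planeFix_triZ`, `OrThree.exists_rotate`.
-/
import Cfsg.Agent.Lib.FieldExtMax.Three.Stab
import Cfsg.Agent.Lib.FieldExtMax.Three.Tri

set_option autoImplicit false
set_option linter.unusedSectionVars false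

namespace Cfsg.Agent.FieldExtMax

open Module

variable {F K V : Type*} [Field F] [Finite F] [Field K] [Finite K] [Algebra F K]
  [AddCommGroup V] [Module F V] [Module K V] [IsScalarTower F K V] [Finite V]
variable {B : V →ₗ[K] V →ₗ[K] K} {M : Subgroup (V ≃ₗ[F] V)}

/-- Only the identity of `M` fixes the plane of `T` pointwise. -/
def PlaneFix (T : Tri B) (M : Subgroup (V ≃ₗ[F] V)) : Prop :=
  ∀ g ∈ M, (∀ k : K, g (k • T.u) = k • T.u) → (∀ k : K, g (k • T.v) = k • T.v) → g = 1

/-- The elements of `M` fixing the multiples of a vector. -/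
def axisFix (M : Subgroup (V ≃ₗ[F] V)) (x : V) (K : Type*) [Field K] [Module K V] :
    Subgroup (V ≃ₗ[F] V) where
  carrier := {g | g ∈ M ∧ ∀ k : K, g (k • x) = k • x}
  one_mem' := ⟨one_mem M, fun _ => rfl⟩
  mul_mem' := fun {g h} hg hh => ⟨mul_mem hg.1 hh.1, fun k => by
    show g (h (k • x)) = _
    rw [hh.2, hg.2]⟩
  inv_mem' := fun {g} hg => ⟨inv_mem hg.1, fun k => by
    apply g.injective
    rw [hg.2]
    exact g.apply_symm_apply _⟩

lemma mem_axisFix {g : V ≃ₗ[F] V} {x : V} :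
    g ∈ axisFix M x K ↔ g ∈ M ∧ ∀ k : K, g (k • x) = k • x := Iff.rfl

namespace Tri

variable (T : Tri B)

/-- The frame's automorphisms fix the three vectors. -/
structure Adapted (fr : Frame B F) (T : Tri B) : Prop where
  fx : ∀ τ, fr.auto τ T.x = T.x
  fu : ∀ τ, fr.auto τ T.u = T.u
  fv : ∀ τ, fr.auto τ T.v = T.v

lemma pl_eq (y : V) : T.pl y = y - (T.cx⁻¹ * B y T.x) • T.x := rfl

lemma pl_perp (y : V) : B (T.pl y) T.x = 0 := (T.pl_coord y).1

lemma split (y : V) : y = (T.cx⁻¹ * B y T.x) • T.x + T.pl y := by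
  rw [pl_eq, add_sub_cancel]

lemma plane_dec {p : V} (hp : B p T.x = 0) :
    p = (B p T.u / T.cu) • T.u + (B p T.v / T.cv) • T.v := by
  conv_lhs => rw [T.dec p, hp, zero_div, zero_smul, zero_add]

lemma ne_u : T.u ≠ 0 := fun h => T.cu0 (by rw [← T.uu, h, map_zero])

lemma ne_v : T.v ≠ 0 := fun h => T.cv0 (by rw [← T.vv, h, map_zero])

lemma ne_x : T.x ≠ 0 := fun h => T.cx0 (by rw [← T.xx, h, map_zero])

/-- The coordinates. -/
noncomputable def coords : V ≃ₗ[K] (Fin 3 → K) where
  toFun y := ![B y T.x / T.cx, B y T.u / T.cu, B y T.v / T.cv]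
  invFun w := w 0 • T.x + w 1 • T.u + w 2 • T.v
  map_add' y y' := by
    ext i; fin_cases i <;> simp [add_div]
  map_smul' k y := by
    ext i; fin_cases i <;> simp [mul_div_assoc]
  left_inv y := by simpa using (T.dec y).symm
  right_inv w := by
    ext i
    fin_cases i <;>
      simp [T.xx, T.uu, T.vv, T.xu, T.ux, T.xv, T.vx, T.uv, T.vu, T.cx0, T.cu0, T.cv0]

lemma det_rotMap (s μ : K) : LinearMap.det (T.rotMap s μ) = s * s + T.c * (μ * μ) := by
  classical
  have key : ∀ w : V, (Basis.ofEquivFun T.coords).repr w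
      = ![B w T.x / T.cx, B w T.u / T.cu, B w T.v / T.cv] := fun w => by
    ext i; rw [Basis.ofEquivFun_repr_apply]; rfl
  have hb : (⇑(Basis.ofEquivFun T.coords) : Fin 3 → V) = ![T.x, T.u, T.v] := by
    ext i
    rw [Basis.coe_ofEquivFun]
    show (Pi.single i (1 : K) : Fin 3 → K) 0 • T.x + (Pi.single i (1 : K) : Fin 3 → K) 1 • T.u
      + (Pi.single i (1 : K) : Fin 3 → K) 2 • T.v = _
    fin_cases i <;> simp
  rw [← LinearMap.det_toMatrix (Basis.ofEquivFun T.coords), Matrix.det_fin_three]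
  simp only [LinearMap.toMatrix_apply, key, hb, Matrix.cons_val_zero, Matrix.cons_val_one,
    Matrix.cons_val, (T.rotMap_coord s μ _).1, (T.rotMap_coord s μ _).2.1,
    (T.rotMap_coord s μ _).2.2, T.xx, T.uu, T.vv, T.xu, T.ux, T.xv, T.vx, T.uv, T.vu, c]
  field_simp [T.cx0, T.cu0, T.cv0]
  ring

variable {T}

lemma IsRot.pow {g : V ≃ₗ[F] V} {s μ : K} (hg : T.IsRot g s μ) (h : T.NormOne s μ) (j : ℕ) :
    ∃ s' μ', T.IsRot (g ^ j) s' μ' ∧ T.NormOne s' μ' := by
  induction j with
  | zero =>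
    exact ⟨1, 0, fun y => by rw [pow_zero, T.rotMap_one]; rfl, by unfold NormOne; ring⟩
  | succ j ih =>
    obtain ⟨s', μ', h1, h2⟩ := ih
    exact ⟨_, _, by rw [pow_succ]; exact h1.mul hg, h2.mul h⟩

lemma IsRot.commute {g g' : V ≃ₗ[F] V} {s μ s' μ' : K} (hg : T.IsRot g s μ)
    (hg' : T.IsRot g' s' μ') : Commute g g' := LinearEquiv.ext fun y => by
  rw [hg.mul hg', hg'.mul hg]
  congr 2 <;> ring

lemma IsRot.mem_plane {g : V ≃ₗ[F] V} {s μ : K} (hg : T.IsRot g s μ) {p : V} (hp : B p T.x = 0) :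
    B (g p) T.x = 0 := by rw [hg, (T.rotMap_coord s μ p).1, hp]

lemma IsRot.add_inv {g : V ≃ₗ[F] V} {s μ : K} (hg : T.IsRot g s μ) (h : T.NormOne s μ) {p : V}
    (hp : B p T.x = 0) : g p + g⁻¹ p = (2 * s) • p := by
  rw [hg, hg.inv h]
  obtain ⟨a1, a2, a3⟩ := T.rotMap_coord s μ p
  obtain ⟨b1, b2, b3⟩ := T.rotMap_coord s (-μ) p
  refine T.ext ?_ ?_ ?_
  · simp [a1, b1, hp]
  · simp [a2, b2]; ring
  · simp [a3, b3]; ring

variable (T)

/-- A map of the plane intertwining one irrational scalar is semilinear there. -/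
theorem semi_of_smul (hdeg : (finrank F K).Prime) (g : V →ₗ[F] V) (hinj : Function.Injective g)
    {s s' : K} (hs : s ∉ Set.range (algebraMap F K))
    (h : ∀ p, B p T.x = 0 → g (s • p) = s' • g p) :
    ∃ τ : K ≃ₐ[F] K, ∀ (k : K) p, B p T.x = 0 → g (k • p) = τ k • g p := by
  have hgu : g T.u ≠ 0 := fun h0 => T.ne_u (hinj (by rw [h0, map_zero]))
  let S : Subalgebra F K :=
    { carrier := {k | ∃ k', ∀ p, B p T.x = 0 → g (k • p) = k' • g p}
      mul_mem' := by
        rintro k l ⟨k', hk⟩ ⟨l', hl⟩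
        refine ⟨k' * l', fun p hp => ?_⟩
        rw [mul_smul, hk _ (by simp [hp]), hl p hp, smul_smul]
      add_mem' := by
        rintro k l ⟨k', hk⟩ ⟨l', hl⟩
        exact ⟨k' + l', fun p hp => by rw [add_smul, map_add, hk p hp, hl p hp, add_smul]⟩
      algebraMap_mem' := fun c => ⟨algebraMap F K c, fun p _ => by
        rw [algebraMap_smul, algebraMap_smul, map_smul]⟩ }
  have htop := adjoin_eq_top hdeg hs S ⟨s', h⟩
  have hall : ∀ k, ∃ k', ∀ p, B p T.x = 0 → g (k • p) = k' • g p := fun k =>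
    (htop ▸ Algebra.mem_top : k ∈ S)
  choose f hf using hall
  have huniq : ∀ k a : K, g (k • T.u) = a • g T.u → f k = a := fun k a ha =>
    smul_inj hgu ((hf k T.u T.ux).symm.trans ha)
  let τ₀ : K →ₐ[F] K :=
    { toFun := f
      map_one' := huniq _ _ (by rw [one_smul, one_smul])
      map_mul' := fun k l => huniq _ _ (by
        rw [mul_smul, hf k _ (by simp [T.ux]), hf l _ T.ux, smul_smul])
      map_zero' := huniq _ _ (by rw [zero_smul, zero_smul, map_zero])
      map_add' := fun k l => huniq _ _ (by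
        rw [add_smul, map_add, hf k _ T.ux, hf l _ T.ux, add_smul])
      commutes' := fun c => huniq _ _ (by rw [algebraMap_smul, algebraMap_smul, map_smul]) }
  exact ⟨AlgEquiv.ofBijective τ₀
    ⟨τ₀.toRingHom.injective, Finite.surjective_of_injective τ₀.toRingHom.injective⟩, hf⟩

end Tri

namespace Frame

variable (fr : Frame B F)

lemma auto_smul_base (τ : K ≃ₐ[F] K) (c : F) {y : V} (hy : fr.auto τ y = y) :
    fr.auto τ (algebraMap F K c • y) = algebraMap F K c • y := by
  rw [fr.auto_smul, hy, τ.commutes]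

/-- A semilinear map fixing the frame is the automorphism. -/
lemma auto_eq (τ : K ≃ₐ[F] K) (A : V ≃ₗ[F] V) (hA : ∀ (k : K) x, A (k • x) = τ k • A x)
    (ha : A fr.a = fr.a) (ha' : A fr.a' = fr.a') (hz : A fr.z = fr.z) : A = fr.auto τ := by
  refine LinearEquiv.ext fun x => ?_
  rw [fr.dec x]
  simp only [map_add, hA, fr.auto_smul, ha, ha', hz, fr.auto_a, fr.auto_a', fr.auto_z]

/-- The first vector of norm `-δ`. -/
noncomputable def e : V :=
  algebraMap F K (2 : F)⁻¹ • fr.a - algebraMap F K fr.δ • fr.a'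

/-- The vector of norm `δ` orthogonal to `e` and `z`. -/
noncomputable def f : V :=
  algebraMap F K (2 : F)⁻¹ • fr.a + algebraMap F K fr.δ • fr.a'

lemma map_half : algebraMap F K (2 : F)⁻¹ = (2 : K)⁻¹ := by rw [map_inv₀, map_ofNat]

lemma ef_prod : B fr.e fr.e = -algebraMap F K fr.δ ∧ B fr.f fr.f = algebraMap F K fr.δ ∧
    B fr.e fr.f = 0 ∧ B fr.f fr.e = 0 ∧ B fr.e fr.z = 0 ∧ B fr.z fr.e = 0 ∧ B fr.f fr.z = 0 ∧
    B fr.z fr.f = 0 := by
  have h2 := fr.two
  simp only [e, f, map_half, map_add, map_sub, map_smul, LinearMap.add_apply, LinearMap.sub_apply,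
    LinearMap.smul_apply, smul_eq_mul, fr.aa, fr.a'a', fr.aa', fr.a'a, fr.az, fr.za, fr.a'z,
    fr.za']
  refine ⟨?_, ?_, ?_, ?_, ?_, ?_, ?_, ?_⟩ <;> first | (field_simp; ring) | ring

lemma a_eq : fr.a = fr.e + fr.f := by
  have h : (2 : K)⁻¹ + (2 : K)⁻¹ = 1 := by
    rw [← two_mul, mul_inv_cancel₀ fr.two]
  rw [e, f, map_half, sub_add_add_cancel, ← add_smul, h, one_smul]

lemma a'_eq : fr.a' = (2 * algebraMap F K fr.δ)⁻¹ • (fr.f - fr.e) := by
  rw [e, f, add_sub_sub_cancel, ← add_smul, ← two_mul, inv_smul_smul₀]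
  exact mul_ne_zero fr.two fr.δK

lemma auto_e (τ : K ≃ₐ[F] K) : fr.auto τ fr.e = fr.e := by
  rw [e, map_sub, fr.auto_smul_base τ _ (fr.auto_a τ), fr.auto_smul_base τ _ (fr.auto_a' τ)]

lemma auto_f (τ : K ≃ₐ[F] K) : fr.auto τ fr.f = fr.f := by
  rw [f, map_add, fr.auto_smul_base τ _ (fr.auto_a τ), fr.auto_smul_base τ _ (fr.auto_a' τ)]

lemma map_e (g : V ≃ₗ[F] V) (ha : g fr.a = fr.a) (ha' : g fr.a' = fr.a') : g fr.e = fr.e := by
  rw [e, algebraMap_smul, algebraMap_smul, map_sub, map_smul, map_smul, ha, ha']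

lemma map_f (g : V ≃ₗ[F] V) (ha : g fr.a = fr.a) (ha' : g fr.a' = fr.a') : g fr.f = fr.f := by
  rw [f, algebraMap_smul, algebraMap_smul, map_add, map_smul, map_smul, ha, ha']

/-- The triple with axis `e`. -/
noncomputable def triE : Tri B where
  x := fr.e
  u := fr.z
  v := fr.f
  cx := -algebraMap F K fr.δ
  cu := algebraMap F K fr.δ
  cv := algebraMap F K fr.δ
  xu := fr.ef_prod.2.2.2.2.1
  ux := fr.ef_prod.2.2.2.2.2.1
  xv := fr.ef_prod.2.2.1
  vx := fr.ef_prod.2.2.2.1
  uv := fr.ef_prod.2.2.2.2.2.2.2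
  vu := fr.ef_prod.2.2.2.2.2.2.1
  xx := fr.ef_prod.1
  uu := fr.zz
  vv := fr.ef_prod.2.1
  cx0 := neg_ne_zero.2 fr.δK
  cu0 := fr.δK
  cv0 := fr.δK
  two := fr.two
  symm := fr.symm
  dec y := by
    have h2 := fr.two
    have hδ := fr.δK
    refine fr.ext ?_ ?_ ?_ <;>
      (simp [e, f, map_ofNat, Algebra.smul_def, fr.aa, fr.a'a', fr.aa', fr.a'a, fr.az, fr.za, fr.a'z, fr.za', fr.zz]
       try field_simp
       try ring)

/-- The triple with axis `z`. -/
noncomputable def triZ : Tri B where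
  x := fr.z
  u := fr.e
  v := fr.f
  cx := algebraMap F K fr.δ
  cu := -algebraMap F K fr.δ
  cv := algebraMap F K fr.δ
  xu := fr.ef_prod.2.2.2.2.2.1
  ux := fr.ef_prod.2.2.2.2.1
  xv := fr.ef_prod.2.2.2.2.2.2.2
  vx := fr.ef_prod.2.2.2.2.2.2.1
  uv := fr.ef_prod.2.2.1
  vu := fr.ef_prod.2.2.2.1
  xx := fr.zz
  uu := fr.ef_prod.1
  vv := fr.ef_prod.2.1
  cx0 := fr.δK
  cu0 := neg_ne_zero.2 fr.δK
  cv0 := fr.δK
  two := fr.two
  symm := fr.symm
  dec y := by
    conv_lhs => rw [fr.triE.dec y]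
    show _ + (B y fr.z / _) • fr.z + _ = _
    rw [add_comm (_ • fr.triE.x)]
    rfl

lemma adapted_triE : Tri.Adapted fr fr.triE := ⟨fr.auto_e, fr.auto_z, fr.auto_f⟩

lemma adapted_triZ : Tri.Adapted fr fr.triZ := ⟨fr.auto_z, fr.auto_e, fr.auto_f⟩

end Frame

namespace OrThree

variable (hM : OrThree B M)
include hM

/-- Preservation of one line keeps the product with it. -/
lemma inner_fix {g : V ≃ₗ[F] V} (hg : g ∈ M) {x : V} (hx : ∀ k : K, g (k • x) = k • x) (y : V) :
    B (g y) x = B y x := hM.inner_congr fun k => by rw [← hx k, hM.pres g hg, hx k]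

/-- `K`-linear on a subspace: the form is kept there. -/
lemma inner_plane (T : Tri B) {g : V ≃ₗ[F] V} (hg : g ∈ M)
    (hlin : ∀ (k : K) p, B p T.x = 0 → g (k • p) = k • g p) {p q : V} (hq : B q T.x = 0) :
    B (g p) (g q) = B p q := by
  refine lam_ext hM.lam_ne fun k => ?_
  have h := hM.pres g hg p (k • q)
  rw [hlin k q hq] at h
  simpa only [map_smul, smul_eq_mul] using h

/-- A linear isometry of the plane is a rotation or has its square trivial. -/
theorem plane_iso (T : Tri B) {g : V ≃ₗ[F] V} (hg : g ∈ M)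
    (hlin : ∀ (k : K) p, B p T.x = 0 → g (k • p) = k • g p)
    (hpl : ∀ p, B p T.x = 0 → B (g p) T.x = 0) :
    ∃ s μ, T.NormOne s μ ∧ ((∀ p, B p T.x = 0 → g p = T.rotMap s μ p) ∨
      (∀ p, B p T.x = 0 → g p = T.rotMap s μ (p - (2 * (B p T.v / T.cv)) • T.v))) := by
  have hgu := hpl _ T.ux
  have hgv := hpl _ T.vx
  have hcu := T.cu0
  have hcv := T.cv0
  set p := B (g T.u) T.u / T.cu with hp
  set q := B (g T.u) T.v / T.cv with hq
  set p' := B (g T.v) T.u / T.cu with hp'
  set q' := B (g T.v) T.v / T.cv with hq'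
  have hu : g T.u = p • T.u + q • T.v := T.plane_dec hgu
  have hv : g T.v = p' • T.u + q' • T.v := T.plane_dec hgv
  have hi : ∀ {a b : V}, B a T.x = 0 → B b T.x = 0 → B (g a) (g b) = B a b := fun _ hb =>
    hM.inner_plane T hg hlin hb
  have e1 : p * p * T.cu + q * q * T.cv = T.cu := by
    have := hi T.ux T.ux
    simp only [hu, map_add, map_smul, LinearMap.add_apply, LinearMap.smul_apply, smul_eq_mul,
      T.uu, T.uv, T.vu, T.vv] at this
    linear_combination this
  have e2 : p * p' * T.cu + q * q' * T.cv = 0 := by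
    have := hi T.ux T.vx
    simp only [hu, hv, map_add, map_smul, LinearMap.add_apply, LinearMap.smul_apply, smul_eq_mul,
      T.uu, T.uv, T.vu, T.vv] at this
    linear_combination this
  have e3 : p' * p' * T.cu + q' * q' * T.cv = T.cv := by
    have := hi T.vx T.vx
    simp only [hv, map_add, map_smul, LinearMap.add_apply, LinearMap.smul_apply, smul_eq_mul,
      T.uu, T.uv, T.vu, T.vv] at this
    linear_combination this
  set ε := p * q' - q * p' with hε
  have hεε : ε * ε = 1 := by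
    refine mul_right_cancel₀ (mul_ne_zero hcu hcv) ?_
    rw [hε]
    linear_combination (p' * p' * T.cu + q' * q' * T.cv) * e1
      - (p * p' * T.cu + q * q' * T.cv) * e2 + T.cu * e3
  have ep' : p' * T.cu = -(ε * q * T.cv) := by
    rw [hε]; linear_combination -p' * e1 + p * e2
  have eq' : q' = ε * p := mul_right_cancel₀ hcu (by
    rw [hε]; linear_combination -q' * e1 + q * e2)
  set μ := q / T.cu with hμ
  clear_value ε μ p q p' q'
  refine ⟨p, μ, ?_, ?_⟩
  · unfold Tri.NormOne Tri.c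
    rw [hμ]
    field_simp
    linear_combination e1
  have hgen : ∀ y, B y T.x = 0 → g y
      = (B y T.u / T.cu) • g T.u + (B y T.v / T.cv) • g T.v := fun y hy => by
    conv_lhs => rw [T.plane_dec hy, map_add, hlin _ _ T.ux, hlin _ _ T.vx]
  have hmap : ∀ y, B y T.x = 0 → T.rotMap p μ y
      = (B y T.u / T.cu) • g T.u + (B y T.v / T.cv) • (ε • g T.v) := fun y hy => by
    obtain ⟨r1, r2, r3⟩ := T.rotMap_coord p μ y
    refine T.ext ?_ ?_ ?_
    · simp [r1, hy, hgu, hgv]
    · rw [r2]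
      simp only [hu, hv, map_add, map_smul, LinearMap.add_apply, LinearMap.smul_apply, smul_eq_mul,
        T.uu, T.vu, hμ]
      field_simp
      linear_combination T.cu * (-ε * B y T.v * ep' + q * T.cv * B y T.v * hεε)
    · rw [r3]
      simp only [hu, hv, map_add, map_smul, LinearMap.add_apply, LinearMap.smul_apply, smul_eq_mul,
        T.uv, T.vv, hμ, eq']
      field_simp
      linear_combination T.cu * T.cv * (-p * B y T.v * hεε)
  rcases mul_self_eq_one_iff.1 hεε with h1 | h1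
  · left
    intro y hy
    rw [hmap y hy, h1, one_smul]
    exact hgen y hy
  · right
    intro y hy
    have hy' : B (y - (2 * (B y T.v / T.cv)) • T.v) T.x = 0 := by simp [hy, T.vx]
    rw [hmap _ hy', hgen y hy, h1]
    simp only [map_sub, map_smul, LinearMap.sub_apply, LinearMap.smul_apply, smul_eq_mul, T.vu,
      T.vv, mul_zero, sub_zero, neg_smul, one_smul, smul_neg]
    rw [← neg_smul]
    congr 2
    field_simp
    ring

/-- Elements of `M` that are `K`-linear and fix the axis are rotations. -/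
theorem rot_of_linear (T : Tri B) {g : V ≃ₗ[F] V} (hg : g ∈ M)
    (hlin : ∀ (k : K) y, g (k • y) = k • g y) (hx : g T.x = T.x) :
    ∃ s μ, T.NormOne s μ ∧ T.IsRot g s μ := by
  haveI : Module.Finite F K := Module.Finite.of_finite
  haveI : Module.Finite K V := Module.Finite.of_finite
  have hfix : ∀ k : K, g (k • T.x) = k • T.x := fun k => by rw [hlin, hx]
  have hpl : ∀ p, B p T.x = 0 → B (g p) T.x = 0 := fun p hp => by rw [hM.inner_fix hg hfix, hp]
  obtain ⟨s, μ, hn, h | h⟩ := hM.plane_iso T hg (fun k p _ => hlin k p) hpl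
  · refine ⟨s, μ, hn, fun y => ?_⟩
    have hr : T.rotMap s μ ((T.cx⁻¹ * B y T.x) • T.x) = (T.cx⁻¹ * B y T.x) • T.x := by
      obtain ⟨r1, r2, r3⟩ := T.rotMap_coord s μ T.x
      rw [map_smul]
      congr 1
      exact T.ext r1 (by simp [r2, T.xu, T.xv]) (by simp [r3, T.xu, T.xv])
    conv_lhs => rw [T.split y, map_add, hfix, h _ (T.pl_perp y)]
    conv_rhs => rw [T.split y, map_add, hr]
  · exfalso
    let r₀ : V →ₗ[K] V := LinearMap.transvection ((-2 / T.cv) • B.flip T.v) T.v
    have hr₀ : ∀ y, r₀ y = y + (-2 / T.cv * B y T.v) • T.v := fun y => rfl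
    have hr₀det : LinearMap.det r₀ = -1 := by
      rw [LinearMap.transvection.det]
      simp only [LinearMap.smul_apply, LinearMap.flip_apply, T.vv, smul_eq_mul,
        div_mul_cancel₀ _ T.cv0]
      norm_num
    have he : (g : V →ₗ[F] V) = ((T.rotMap s μ) ∘ₗ r₀).restrictScalars F := by
      refine LinearMap.ext fun y => ?_
      show g y = T.rotMap s μ (r₀ y)
      have e : r₀ y = (T.cx⁻¹ * B y T.x) • T.x
          + (T.pl y - (2 * (B (T.pl y) T.v / T.cv)) • T.v) := by
        rw [(T.pl_coord y).2.2, hr₀, Tri.pl_eq]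
        match_scalars <;> ring
      obtain ⟨r1, r2, r3⟩ := T.rotMap_coord s μ T.x
      have hr : T.rotMap s μ T.x = T.x :=
        T.ext r1 (by simp [r2, T.xu, T.xv]) (by simp [r3, T.xu, T.xv])
      conv_lhs => rw [T.split y, map_add, hfix, h _ (T.pl_perp y)]
      rw [e, map_add, map_smul, hr]
    have hdet := hM.det_one g hg
    rw [he, LinearMap.det_restrictScalars, LinearMap.det_comp, T.det_rotMap, hr₀det,
      show s * s + T.c * (μ * μ) = 1 from hn, one_mul,
      show (-1 : K) = algebraMap F K (-1) by rw [map_neg, map_one],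
      Algebra.norm_algebraMap, hM.deg_odd.neg_one_pow] at hdet
    exact hM.twoF (by linear_combination -hdet)

/-- The plane of `triZ` contains singular lines. -/
theorem planeFix_triZ (hT : TorZero B M) (fr : Frame B F) : PlaneFix fr.triZ M := by
  intro g hg he hf
  have hline : ∀ l : K, g (l • fr.a) = l • fr.a := fun l => by
    rw [fr.a_eq, smul_add, map_add]
    exact congrArg₂ _ (he l) (hf l)
  obtain ⟨k, rfl⟩ := hM.eq_u hT fr hg hline
  have ha' : fr.u k fr.a' = fr.a' := by
    rw [fr.a'_eq, smul_sub, map_sub]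
    exact congrArg₂ _ (hf _) (he _)
  have h := (fr.u_coord k fr.a').2.2
  rw [ha', fr.a'a, mul_one, left_eq_add] at h
  rw [(mul_eq_zero.1 h).resolve_right fr.δK, fr.u_zero]

/-- The half turn around `e` lies in `M`. -/
theorem halfTurn_mem (fr : Frame B F) :
    ∃ i ∈ M, ∀ y, i y = (2 * (B y fr.e / (-algebraMap F K fr.δ))) • fr.e - y := by
  have hδ := fr.δK
  have hn : fr.triE.NormOne 0 (algebraMap F K fr.δ)⁻¹ := by
    show (0 : K) * 0 + algebraMap F K fr.δ * algebraMap F K fr.δ * _ = 1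
    field_simp
    ring
  obtain ⟨g, hg⟩ := fr.triE.exists_isRot (F := F) hn
  refine ⟨g * g, hM.rot_sq_mem _ hn hg, fun y => ?_⟩
  obtain ⟨r1, r2, r3⟩ := fr.triE.rotMap_coord
    (0 * 0 - fr.triE.c * ((algebraMap F K fr.δ)⁻¹ * (algebraMap F K fr.δ)⁻¹))
    (0 * (algebraMap F K fr.δ)⁻¹ + (algebraMap F K fr.δ)⁻¹ * 0) y
  obtain ⟨h1, -, h3, -, h5, -, -, -⟩ := fr.ef_prod
  rw [hg.mul hg]
  refine fr.triE.ext ?_ ?_ ?_
  · rw [r1]
    simp only [Frame.triE, map_sub, map_smul, LinearMap.sub_apply, LinearMap.smul_apply,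
      smul_eq_mul, h1]
    field_simp
    ring
  · rw [r2]
    simp only [Frame.triE, Tri.c, map_sub, map_smul, LinearMap.sub_apply, LinearMap.smul_apply,
      smul_eq_mul, h5]
    field_simp
    ring
  · rw [r3]
    simp only [Frame.triE, Tri.c, map_sub, map_smul, LinearMap.sub_apply, LinearMap.smul_apply,
      smul_eq_mul, h3]
    field_simp
    ring

/-- A frame with `e` moved in the plane of the other two. -/
theorem exists_rotate (fr : Frame B F) {s t : F} (hst : s * s + t * t = -1) :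
    ∃ fr' : Frame B F, fr'.δ = fr.δ ∧
      fr'.e = algebraMap F K s • fr.z + algebraMap F K t • fr.f ∧
      (∀ τ, fr'.auto τ = fr.auto τ) ∧
      ∀ g : V ≃ₗ[F] V, g fr.a = fr.a → g fr.a' = fr.a' → g fr.z = fr.z →
        g fr'.a = fr'.a ∧ g fr'.a' = fr'.a' ∧ g fr'.z = fr'.z := by
  have hδ := fr.δK
  have h2 := hM.two
  have hst' : algebraMap F K s * algebraMap F K s + algebraMap F K t * algebraMap F K t = -1 := by
    rw [← map_mul, ← map_mul, ← map_add, hst, map_neg, map_one]
  obtain ⟨h1, h2', h3, h4, h5, h6, h7, h8⟩ := fr.ef_prod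
  set S := algebraMap F K s
  set T := algebraMap F K t
  set u := S • fr.z + T • fr.f with hu
  set v := (-T) • fr.z + S • fr.f with hv
  set z' := S • fr.e + T • v with hz'
  set f' := (-T) • fr.e + S • v with hf'
  set d := algebraMap F K ((2 * fr.δ)⁻¹) with hd
  have hd' : d = (2 * algebraMap F K fr.δ)⁻¹ := by rw [hd, map_inv₀, map_mul, map_ofNat]
  have huu : B u u = -algebraMap F K fr.δ := by
    simp only [hu, map_add, map_smul, LinearMap.add_apply, LinearMap.smul_apply, smul_eq_mul,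
      fr.zz, h2', h7, h8]
    linear_combination algebraMap F K fr.δ * hst'
  have hvv : B v v = -algebraMap F K fr.δ := by
    simp only [hv, map_add, map_smul, LinearMap.add_apply, LinearMap.smul_apply, smul_eq_mul,
      fr.zz, h2', h7, h8]
    linear_combination algebraMap F K fr.δ * hst'
  have huv : B u v = 0 := by
    simp only [hu, hv, map_add, map_smul, LinearMap.add_apply, LinearMap.smul_apply, smul_eq_mul,
      fr.zz, h2', h7, h8]
    ring
  have heu : B fr.e u = 0 ∧ B fr.e v = 0 := by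
    simp [hu, hv, h3, h5]
  have hue : B u fr.e = 0 ∧ B v fr.e = 0 := by
    rw [hM.symm u, hM.symm v]; exact heu
  have hvu : B v u = 0 := by rw [hM.symm]; exact huv
  have hff : B f' f' = algebraMap F K fr.δ := by
    simp only [hf', map_add, map_smul, LinearMap.add_apply, LinearMap.smul_apply, smul_eq_mul,
      h1, hvv, heu.2, hue.2]
    linear_combination -algebraMap F K fr.δ * hst'
  have hzz : B z' z' = algebraMap F K fr.δ := by
    simp only [hz', map_add, map_smul, LinearMap.add_apply, LinearMap.smul_apply, smul_eq_mul,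
      h1, hvv, heu.2, hue.2]
    linear_combination -algebraMap F K fr.δ * hst'
  have hfz : B f' z' = 0 := by
    simp only [hf', hz', map_add, map_smul, LinearMap.add_apply, LinearMap.smul_apply, smul_eq_mul,
      h1, hvv, heu.2, hue.2]
    ring
  have huf : B u f' = 0 ∧ B f' u = 0 ∧ B u z' = 0 := by
    simp [hf', hz', hue.1, heu.1, huv, hvu]
  obtain ⟨huf1, huf2, huz⟩ := huf
  obtain ⟨fr', ha, ha', hz, hδ'⟩ := hM.frame_of (a := u + f') (a' := d • (f' - u)) (z := z')
    (δ := fr.δ)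
    (by simp [huu, hff, huf1, huf2])
    (by simp [huu, hff, huf1, huf2])
    (by simp [huu, hff, huf1, huf2, hd']; field_simp; ring)
    (by simp [huz, hfz])
    (by simp [huz, hfz])
    hzz fr.δ0
  have hfix : ∀ τ, fr.auto τ fr'.a = fr'.a ∧ fr.auto τ fr'.a' = fr'.a' ∧
      fr.auto τ fr'.z = fr'.z := fun τ => by
    have e1 : fr.auto τ u = u := by
      rw [hu, map_add, fr.auto_smul_base τ s (fr.auto_z τ), fr.auto_smul_base τ t (fr.auto_f τ)]
    have e2 : fr.auto τ v = v := by
      rw [hv, map_add, neg_smul, map_neg, fr.auto_smul_base τ t (fr.auto_z τ),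
        fr.auto_smul_base τ s (fr.auto_f τ)]
    have e3 : fr.auto τ z' = z' := by
      rw [hz', map_add, fr.auto_smul_base τ s (fr.auto_e τ), fr.auto_smul_base τ t e2]
    have e4 : fr.auto τ f' = f' := by
      rw [hf', map_add, neg_smul, map_neg, fr.auto_smul_base τ t (fr.auto_e τ),
        fr.auto_smul_base τ s e2]
    rw [ha, ha', hz]
    exact ⟨by rw [map_add, e1, e4], by rw [fr.auto_smul, map_sub, e1, e4, hd, τ.commutes], e3⟩
  refine ⟨fr', hδ', ?_, fun τ => (fr'.auto_eq τ _ (fr.auto_smul τ) (hfix τ).1 (hfix τ).2.1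
    (hfix τ).2.2).symm, fun g ga ga' gz => ?_⟩
  · rw [Frame.e, ha, ha', hδ', Frame.map_half, hd', smul_smul]
    match_scalars <;> field_simp <;> ring
  · have ge := fr.map_e g ga ga'
    have gf := fr.map_f g ga ga'
    have gv : g v = v := by
      simp only [hv, S, T, neg_smul, algebraMap_smul, map_add, map_neg, map_smul, gz, gf]
    rw [ha, ha', hz]
    refine ⟨?_, ?_, ?_⟩
    · simp only [hu, hf', S, T, neg_smul, algebraMap_smul, map_add, map_neg, map_smul, gz, gf, ge,
        gv]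
    · simp only [hd, hu, hf', S, T, neg_smul, algebraMap_smul, map_add, map_sub, map_neg, map_smul,
        gz, gf, ge, gv]
    · simp only [hz', S, T, algebraMap_smul, map_add, map_smul, ge, gv]

end OrThree

end Cfsg.Agent.FieldExtMax
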