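/-
The pointwise stabilisers of anisotropic lines consist of rotations, away from the degree.

Main definitions: `Frame.uHom`.
Main results: `OrThree.not_dvd_axisFix`, `OrThree.semi_of_conj`, `OrThree.axis_rot`.
-/
import Cfsg.Agent.Lib.FieldExtMax.Three.Plane
import Cfsg.Agent.Lib.Coprime.Generation
import Cfsg.Agent.Lib.HallHigman.PrimeOrder
import Cfsg.Agent.Lib.FieldExtMax.OrLines

set_option autoImplicit false
set_option linter.unusedSectionVars false

namespace Cfsg.Agent.FieldExtMax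

open Module
open scoped Pointwise

variable {F K V : Type*} [Field F] [Finite F] [Field K] [Finite K] [Algebra F K]
  [AddCommGroup V] [Module F V] [Module K V] [IsScalarTower F K V] [Finite V]
variable {B : V →ₗ[K] V →ₗ[K] K} {M : Subgroup (V ≃ₗ[F] V)}

namespace Frame

variable (fr : Frame B F)

/-- The Siegel elements as a homomorphism. -/
noncomputable def uHom : Multiplicative K →* (V ≃ₗ[F] V) where
  toFun k := fr.u k.toAdd
  map_one' := fr.u_zero
  map_mul' k l := (fr.u_add k.toAdd l.toAdd).symm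

lemma u_pow (k : K) (j : ℕ) : fr.u k ^ j = fr.u (j • k) := (map_pow fr.uHom _ j).symm

lemma mem_uHom {g : V ≃ₗ[F] V} : g ∈ fr.uHom.range ↔ ∃ k, g = fr.u k :=
  ⟨fun ⟨k, hk⟩ => ⟨k.toAdd, hk.symm⟩, fun ⟨k, hk⟩ => ⟨Multiplicative.ofAdd k, hk.symm⟩⟩

lemma isPGroup_uHom (p : ℕ) [CharP K p] : IsPGroup p fr.uHom.range := by
  rintro ⟨g, hg⟩
  obtain ⟨k, rfl⟩ := fr.mem_uHom.1 hg
  refine ⟨1, Subtype.ext ?_⟩
  show fr.u k ^ p ^ 1 = 1
  rw [pow_one, fr.u_pow, nsmul_eq_mul, CharP.cast_eq_zero, zero_mul, fr.u_zero]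

end Frame

lemma autPow_eq_one (τ : K ≃ₐ[F] K) {m : ℕ} (hm : τ ^ m = 1) (hco : m.Coprime (finrank F K)) :
    τ = 1 := by
  haveI : Module.Finite F K := Module.Finite.of_finite
  rw [← orderOf_eq_one_iff]
  refine Nat.eq_one_of_dvd_coprimes hco (orderOf_dvd_of_pow_eq_one hm) ?_
  rw [← natCard_aut]
  exact orderOf_dvd_natCard τ

namespace OrThree

variable (hM : OrThree B M)
include hM

lemma deg_coprime_two : (2 : ℕ).Coprime (finrank F K) :=
  (Nat.coprime_primes Nat.prime_two hM.deg).2 (by have := hM.three_le; omega)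

lemma line_of_commute (fr : Frame B F) {g : V ≃ₗ[F] V}
    (h : ∃ k : K, k ≠ 0 ∧ g⁻¹ * fr.u k * g ∈ fr.uHom.range) (l : K) : g (l • fr.a) ∈ K ∙ fr.a := by
  obtain ⟨k, hk, h'⟩ := h
  obtain ⟨k', hk'⟩ := fr.mem_uHom.1 h'
  have hfix : fr.u k (g (l • fr.a)) = g (l • fr.a) := by
    have e := LinearEquiv.congr_fun hk' (l • fr.a)
    change g.symm (fr.u k (g (l • fr.a))) = _ at e
    rw [fr.u_line k' (mem_line.2 ⟨l, rfl⟩), LinearEquiv.symm_apply_eq] at e
    exact e
  obtain ⟨c, hc⟩ := mem_line.1 (hM.u_fix fr hk hfix)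
  exact Submodule.mem_span_singleton.2 ⟨c, hc⟩

/-- Away from the degree no element of the order of the characteristic fixes an anisotropic line
pointwise. -/
theorem not_dvd_axisFix (hT : TorZero B M) (fr : Frame B F) {p : ℕ} [Fact p.Prime] [CharP F p]
    (hpr : p ≠ finrank F K) {x : V} (hx : B x x ≠ 0) : ¬ p ∣ Nat.card (axisFix M x K) := by
  classical
  haveI : Finite (V ≃ₗ[F] V) := DFunLike.finite _
  haveI : CharP K p := charP_of_injective_algebraMap (algebraMap F K).injective p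
  intro hdvd
  obtain ⟨⟨g, hgD⟩, hgo⟩ := exists_prime_orderOf_dvd_card' p hdvd
  rw [Subgroup.orderOf_mk] at hgo
  obtain ⟨hgM, hgx⟩ := mem_axisFix.1 hgD
  have hg1 : g ≠ 1 := fun h => by
    rw [h, orderOf_one] at hgo
    exact (Fact.out : p.Prime).one_lt.ne' hgo.symm
  set U := fr.uHom.range.subgroupOf M with hU
  have hUp : IsPGroup p U := (fr.isPGroup_uHom p).comap_of_injective _ M.subtype_injective
  obtain ⟨P, hUP⟩ := hUp.exists_le_sylow
  have hPU : (P : Subgroup M) ≤ U := by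
    by_contra hne
    haveI := (P.2).isNilpotent
    have hlt : U.subgroupOf P < ⊤ := lt_of_le_of_ne le_top fun h => hne fun y hy =>
      Subgroup.mem_subgroupOf.1 (h ▸ Subgroup.mem_top (⟨y, hy⟩ : (P : Subgroup M)))
    obtain ⟨y, hy, hyn⟩ := SetLike.exists_of_lt (Group.normalizerCondition_of_isNilpotent _ hlt)
    have hy1 : (y.1.1 : V ≃ₗ[F] V) ∈ M := y.1.2
    refine hyn ?_
    show (y.1.1 : V ≃ₗ[F] V) ∈ fr.uHom.range
    have hline : ∀ l : K, y.1.1 (l • fr.a) ∈ K ∙ fr.a := hM.line_of_commute fr ⟨1, one_ne_zero, by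
      have hmem : (⟨⟨fr.u 1, hM.u_mem fr 1⟩, hUP (fr.mem_uHom.2 ⟨1, rfl⟩)⟩ : (P : Subgroup M))
          ∈ U.subgroupOf P := fr.mem_uHom.2 ⟨1, rfl⟩
      have h1 := (Subgroup.mem_normalizer_iff''.1 hy _).1 hmem
      exact h1⟩
    obtain ⟨τ, c, hc0, hc⟩ := hM.exists_semi hT fr hy1 hline
    obtain ⟨n, hn⟩ := P.2 y
    have hn' : (y.1.1 : V ≃ₗ[F] V) ^ p ^ n = 1 := by
      have := congrArg (fun z : (P : Subgroup M) => (z.1.1 : V ≃ₗ[F] V)) hn
      simpa using this
    have hiter : ∀ j : ℕ, ∃ d : K, (τ = 1 → d = c ^ j) ∧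
        ∀ l, ((y.1.1 : V ≃ₗ[F] V) ^ j) (l • fr.a) = (d * (τ ^ j) l) • fr.a := by
      intro j
      induction j with
      | zero => exact ⟨1, fun _ => (pow_zero c).symm, fun l => by rw [one_mul]; rfl⟩
      | succ j ih =>
        obtain ⟨d, hd, hj⟩ := ih
        refine ⟨c * τ d, fun h => by rw [hd h, h, pow_succ']; rfl, fun l => ?_⟩
        rw [pow_succ']
        show y.1.1 (((y.1.1 : V ≃ₗ[F] V) ^ j) (l • fr.a)) = _
        rw [hj, hc, map_mul, mul_assoc, pow_succ']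
        rfl
    obtain ⟨d, hd, hj⟩ := hiter (p ^ n)
    rw [hn'] at hj
    have hd1 : d = 1 := by
      have := smul_inj fr.ne_a (hj 1)
      rwa [map_one, mul_one, eq_comm] at this
    have hτ : τ = 1 := autPow_eq_one τ (AlgEquiv.ext fun l => by
        have := smul_inj fr.ne_a (hj l)
        rw [hd1, one_mul] at this
        exact this.symm)
      (Nat.Coprime.pow_left n ((Nat.coprime_primes Fact.out hM.deg).2 hpr))
    have hc1 : c = 1 := by
      have h1 : (c - 1) ^ p ^ n = 0 := by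
        rw [sub_pow_char_pow, one_pow, ← hd hτ, hd1, sub_self]
      exact sub_eq_zero.1 ((pow_eq_zero_iff'.1 h1).1)
    exact fr.mem_uHom.2 (hM.eq_u hT fr hy1 fun l => by rw [hc, hτ, hc1, one_mul]; rfl)
  have hQ : IsPGroup p (Subgroup.zpowers (⟨g, hgM⟩ : M)) := IsPGroup.of_card (n := 1) (by
    rw [Nat.card_zpowers, Subgroup.orderOf_mk, hgo, pow_one])
  obtain ⟨Q, hgQ⟩ := hQ.exists_le_sylow
  obtain ⟨c, hc⟩ := MulAction.exists_smul_eq M P Q
  have hmem : (⟨g, hgM⟩ : M) ∈ (Q : Subgroup M) := hgQ (Subgroup.mem_zpowers _)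
  rw [← hc] at hmem
  change _ ∈ MulAut.conj c • (P : Subgroup M) at hmem
  rw [Subgroup.mem_pointwise_smul_iff_inv_smul_mem] at hmem
  obtain ⟨k, hk⟩ := fr.mem_uHom.1 (hPU hmem)
  change (c.1⁻¹ * g * (c.1⁻¹)⁻¹ : V ≃ₗ[F] V) = fr.u k at hk
  rw [inv_inv] at hk
  have hk0 : k ≠ 0 := fun h => hg1 (by
    rw [h, fr.u_zero, mul_eq_one_iff_eq_inv, inv_mul_eq_iff_eq_mul, mul_inv_cancel] at hk
    exact hk)
  have himg : ∀ l : K, l • x ∈ img K fr.a c.1 := fun l => by
    have hfix : fr.u k (c.1⁻¹ (l • x)) = c.1⁻¹ (l • x) := by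
      rw [← hk]
      show c.1⁻¹ (g (c.1 (c.1.symm (l • x)))) = _
      rw [LinearEquiv.apply_symm_apply, hgx]
    exact ⟨_, hM.u_fix fr hk0 hfix, c.1.apply_symm_apply _⟩
  refine hx (lam_ext hM.lam_ne fun l => ?_)
  have h := hM.toOrCore.lam_img fr.aa c.2 (himg l) (himg 1)
  rw [one_smul, map_smul, LinearMap.smul_apply, smul_eq_mul] at h
  rw [h, mul_zero, map_zero]

/-- A map of the plane conjugating one rotation to another is semilinear there. -/
theorem semi_of_conj {T : Tri B} {ℓ : ℕ} {t : V ≃ₗ[F] V} {s μ : K} (ht : IsTorus T M ℓ t s μ)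
    {g t' : V ≃ₗ[F] V} {s' μ' : K} (ht' : T.IsRot t' s' μ') (hn' : T.NormOne s' μ')
    (hpl : ∀ p, B p T.x = 0 → B (g p) T.x = 0) (hconj : g * t = t' * g) :
    ∃ τ : K ≃ₐ[F] K, τ (2 * s) = 2 * s' ∧ ∀ (k : K) p, B p T.x = 0 → g (k • p) = τ k • g p := by
  have h2s : 2 * s ∉ Set.range (algebraMap F K) := by
    rintro ⟨c, hc⟩
    exact ht.not_base ⟨c / 2, by rw [map_div₀, map_ofNat, hc, mul_div_cancel_left₀ _ hM.two]⟩
  have hconj' : g * t⁻¹ = t'⁻¹ * g := by
    rw [eq_inv_mul_iff_mul_eq, ← mul_assoc, ← hconj, mul_inv_cancel_right]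
  have h : ∀ p, B p T.x = 0 → g ((2 * s) • p) = (2 * s') • g p := fun p hp => by
    rw [← ht.rot.add_inv ht.norm_one hp, map_add, ← ht'.add_inv hn' (hpl p hp)]
    exact congrArg₂ _ (LinearEquiv.congr_fun hconj p) (LinearEquiv.congr_fun hconj' p)
  obtain ⟨τ, hτ⟩ := T.semi_of_smul hM.deg (g : V →ₗ[F] V) g.injective h2s h
  refine ⟨τ, ?_, hτ⟩
  exact smul_inj (fun h0 => T.ne_u (g.injective (h0.trans (map_zero g).symm)))
    ((hτ (2 * s) T.u T.ux).symm.trans (h T.u T.ux))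

lemma rot_of_commute {T : Tri B} {ℓ : ℕ} {t : V ≃ₗ[F] V} {s μ : K} (ht : IsTorus T M ℓ t s μ)
    {g : V ≃ₗ[F] V} (hg : g ∈ axisFix M T.x K) (hc : g * t = t * g) :
    ∃ s' μ', T.NormOne s' μ' ∧ T.IsRot g s' μ' := by
  obtain ⟨hgM, hgx⟩ := mem_axisFix.1 hg
  have hpl : ∀ p, B p T.x = 0 → B (g p) T.x = 0 := fun p hp => by rw [hM.inner_fix hgM hgx, hp]
  obtain ⟨τ, hτs, hτ⟩ := hM.semi_of_conj ht ht.rot ht.norm_one hpl hc
  have hτ1 : τ = 1 := by
    by_contra h
    obtain ⟨c, hc'⟩ := hM.fixed_iff h hτs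
    exact ht.not_base ⟨c / 2, by rw [map_div₀, map_ofNat, hc', mul_div_cancel_left₀ _ hM.two]⟩
  refine hM.rot_of_linear T hgM (fun k y => ?_) (by simpa using hgx 1)
  rw [T.split y, smul_add, map_add, map_add, smul_smul, hgx, hgx, hτ k _ (T.pl_perp y), hτ1,
    smul_add, smul_smul]
  rfl

lemma rot_of_normalise {T : Tri B} {fr : Frame B F} (ha : Tri.Adapted fr T) (hpl : PlaneFix T M)
    {ℓ : ℕ} {t : V ≃ₗ[F] V} {s μ : K} (ht : IsTorus T M ℓ t s μ) {y : V ≃ₗ[F] V}
    (hy : y ∈ axisFix M T.x K) {j : ℕ} (hc : y * t = t ^ j * y) :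
    ∃ s' μ', T.NormOne s' μ' ∧ T.IsRot y s' μ' := by
  obtain ⟨hyM, hyx⟩ := mem_axisFix.1 hy
  have hypl : ∀ p, B p T.x = 0 → B (y p) T.x = 0 := fun p hp => by rw [hM.inner_fix hyM hyx, hp]
  obtain ⟨s', μ', hr', hn'⟩ := ht.rot.pow ht.norm_one j
  obtain ⟨τ, -, hτ⟩ := hM.semi_of_conj ht hr' hn' hypl hc
  have hapl : ∀ p, B p T.x = 0 → B (fr.auto τ⁻¹ p) T.x = 0 := fun p hp => by
    conv_lhs => rw [← ha.fx τ⁻¹, fr.auto_inner, hp, map_zero]
  set y' := y * fr.auto τ⁻¹ with hy'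
  have hy'M : y' ∈ M := mul_mem hyM (hM.auto_mem fr _)
  have hlin : ∀ (k : K) p, B p T.x = 0 → y' (k • p) = k • y' p := fun k p hp => by
    show y (fr.auto τ⁻¹ (k • p)) = k • y (fr.auto τ⁻¹ p)
    rw [fr.auto_smul, hτ _ _ (hapl p hp), ← AlgEquiv.mul_apply, mul_inv_cancel, AlgEquiv.one_apply]
  have hy'pl : ∀ p, B p T.x = 0 → B (y' p) T.x = 0 := fun p hp => hypl _ (hapl p hp)
  have hy'x : ∀ k : K, y' (k • T.x) = τ⁻¹ k • T.x := fun k => by
    show y (fr.auto τ⁻¹ (k • T.x)) = _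
    rw [fr.auto_smul, ha.fx, hyx]
  have hu : ∀ k : K, B (k • T.u) T.x = 0 := fun k => by simp [T.ux]
  have hv : ∀ k : K, B (k • T.v) T.x = 0 := fun k => by simp [T.vx]
  have hτ1 : τ = 1 := by
    suffices h : ∀ k : K, τ⁻¹ (τ⁻¹ k) = k by
      refine inv_eq_one.1 (autPow_eq_one τ⁻¹ (m := 2) (AlgEquiv.ext fun k => ?_) hM.deg_coprime_two)
      rw [pow_two]
      exact h k
    obtain ⟨p, m, hn, h | h⟩ := hM.plane_iso T hy'M hlin hy'pl
    · obtain ⟨r₁, hr₁⟩ := T.exists_isRot (F := F) hn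
      have hg := hpl ((r₁ * r₁)⁻¹ * (y' * y'))
        (mul_mem (inv_mem (hM.rot_sq_mem T hn hr₁)) (mul_mem hy'M hy'M))
      have hq : ∀ q, B q T.x = 0 → ((r₁ * r₁)⁻¹ * (y' * y')) q = q := fun q hq => by
        show (r₁ * r₁).symm (y' (y' q)) = q
        rw [LinearEquiv.symm_apply_eq, h _ (hy'pl q hq), h q hq, ← hr₁, ← hr₁]
        rfl
      have h1 := hg (fun k => hq _ (hu k)) (fun k => hq _ (hv k))
      intro k
      have e := LinearEquiv.congr_fun (inv_mul_eq_one.1 h1).symm (k • T.x)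
      change y' (y' (k • T.x)) = r₁ (r₁ (k • T.x)) at e
      rw [hy'x, hy'x, hr₁.apply_x, hr₁.apply_x] at e
      exact smul_inj T.ne_x e
    · have hq : ∀ q, B q T.x = 0 → y' (y' q) = q := fun q hq => by
        rw [h _ (hy'pl q hq), h q hq]
        have hW : ∀ z : V, B (z - (2 * (B z T.v / T.cv)) • T.v) T.x = B z T.x ∧
            B (z - (2 * (B z T.v / T.cv)) • T.v) T.u = B z T.u ∧
            B (z - (2 * (B z T.v / T.cv)) • T.v) T.v = -B z T.v := fun z => by
          simp only [map_sub, map_smul, LinearMap.sub_apply, LinearMap.smul_apply, smul_eq_mul,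
            T.vx, T.vu, T.vv]
          refine ⟨by ring, by ring, ?_⟩
          field_simp [T.cv0]
          ring
        set q₁ := q - (2 * (B q T.v / T.cv)) • T.v
        obtain ⟨a1, a2, a3⟩ := T.rotMap_coord p m q₁
        set w := T.rotMap p m q₁
        set w₁ := w - (2 * (B w T.v / T.cv)) • T.v
        obtain ⟨b1, b2, b3⟩ := T.rotMap_coord p m w₁
        have hn' : p * p + T.cu * T.cv * (m * m) = 1 := hn
        obtain ⟨q1, q2, q3⟩ := hW q
        obtain ⟨w1, w2, w3⟩ := hW w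
        refine T.ext ?_ ?_ ?_
        · rw [b1, w1, a1, q1]
        · rw [b2, w2, w3, a2, a3, q2, q3]
          linear_combination (B q T.u) * hn'
        · rw [b3, w2, w3, a2, a3, q2, q3]
          linear_combination (B q T.v) * hn'
      have h1 := hpl (y' * y') (mul_mem hy'M hy'M) (fun k => hq _ (hu k)) (fun k => hq _ (hv k))
      intro k
      have e := LinearEquiv.congr_fun h1 (k • T.x)
      change y' (y' (k • T.x)) = k • T.x at e
      rw [hy'x, hy'x] at e
      exact smul_inj T.ne_x e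
  refine hM.rot_of_linear T hyM (fun k z => ?_) (by simpa using hyx 1)
  rw [T.split z, smul_add, map_add, map_add, smul_smul, hyx, hyx, hτ k _ (T.pl_perp z), hτ1,
    smul_add, smul_smul]
  rfl

/-- The pointwise stabiliser of the axis consists of rotations. -/
theorem axis_rot {T : Tri B} {fr : Frame B F} (ha : Tri.Adapted fr T) (hpl : PlaneFix T M)
    {p : ℕ} [Fact p.Prime] [CharP F p] (hp : ¬ p ∣ Nat.card (axisFix M T.x K))
    {g : V ≃ₗ[F] V} (hg : g ∈ axisFix M T.x K) :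
    ∃ s μ, T.NormOne s μ ∧ T.IsRot g s μ := by
  classical
  haveI : Finite (V ≃ₗ[F] V) := DFunLike.finite _
  obtain ⟨ℓ, t, s, μ, ht⟩ := hM.exists_torus T
  haveI : Fact ℓ.Prime := ⟨ht.prime⟩
  set D := axisFix M T.x K with hD
  have htD : t ∈ D := mem_axisFix.2 ⟨ht.mem, ht.rot.apply_x⟩
  let t' : D := ⟨t, htD⟩
  have hto : orderOf t' = ℓ := by
    rw [Subgroup.orderOf_mk]
    exact orderOf_eq_prime ht.pow_eq ht.ne_one
  -- what commutes with `t`
  have hrot : ∀ y : D, Commute y t' → ∃ s' μ', T.NormOne s' μ' ∧ T.IsRot y.1 s' μ' := fun y hy =>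
    hM.rot_of_commute ht y.2 (congrArg Subtype.val hy.eq)
  have hpow : ∀ y : D, Commute y t' → y ^ ℓ = 1 → y ∈ Subgroup.zpowers t' := fun y hy hℓ => by
    obtain ⟨s', μ', hn, hr⟩ := hrot y hy
    obtain ⟨j, hj⟩ := ht.unique y.1 s' μ' hr hn (congrArg Subtype.val hℓ)
    exact ⟨j, Subtype.ext (by show (t' ^ (j : ℤ) : D).1 = _; rw [zpow_natCast, hj]; rfl)⟩
  -- a Sylow subgroup is abelian and self-centralising
  obtain ⟨P, htP⟩ := (IsPGroup.of_card (n := 1) (G := Subgroup.zpowers t') (p := ℓ)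
    (by rw [Nat.card_zpowers, hto, pow_one])).exists_le_sylow
  have htP' : t' ∈ (P : Subgroup D) := htP (Subgroup.mem_zpowers _)
  haveI : Nontrivial (P : Subgroup D) :=
    ⟨⟨⟨t', htP'⟩, 1, fun h => ht.ne_one (congrArg (fun z : (P : Subgroup D) => z.1.1) h)⟩⟩
  haveI := P.2.center_nontrivial
  obtain ⟨z, hzo⟩ : ∃ z : Subgroup.center (P : Subgroup D), orderOf z = ℓ := by
    refine exists_prime_orderOf_dvd_card' ℓ ?_
    obtain ⟨n, hn⟩ := (P.2.to_subgroup (Subgroup.center _)).exists_card_eq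
    rw [hn]
    refine dvd_pow_self ℓ fun h0 => ?_
    rw [h0, pow_zero] at hn
    exact (Finite.one_lt_card (α := Subgroup.center (P : Subgroup D))).ne' hn
  have hzt : Subgroup.zpowers z.1.1 = Subgroup.zpowers t' := by
    have hzo' : orderOf z.1.1 = ℓ := by
      rw [Subgroup.orderOf_coe, Subgroup.orderOf_coe, hzo]
    refine Subgroup.eq_of_le_of_card_ge (Subgroup.zpowers_le.2 (hpow _ ?_ ?_))
      (by rw [Nat.card_zpowers, Nat.card_zpowers, hto, hzo'])
    · exact congrArg Subtype.val (Subgroup.mem_center_iff.1 z.2 ⟨t', htP'⟩).symm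
    · exact orderOf_dvd_iff_pow_eq_one.1 hzo'.dvd
  have hcomm : ∀ y ∈ (P : Subgroup D), Commute y t' := fun y hy => by
    obtain ⟨i, hi⟩ := (hzt ▸ Subgroup.mem_zpowers t' : t' ∈ Subgroup.zpowers z.1.1)
    rw [← hi]
    exact Commute.zpow_right (congrArg Subtype.val (Subgroup.mem_center_iff.1 z.2 ⟨y, hy⟩)) i
  have hPC : Subgroup.normalizer ((P : Subgroup D) : Set D)
      ≤ Subgroup.centralizer ((P : Subgroup D) : Set D) := by
    intro x hx
    have h1 : x * t' * x⁻¹ ∈ (P : Subgroup D) := (Subgroup.mem_normalizer_iff.1 hx t').1 htP'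
    have h2 : (x * t' * x⁻¹) ^ ℓ = 1 := by
      rw [conj_pow, ← hto, pow_orderOf_eq_one, mul_one, mul_inv_cancel]
    obtain ⟨i, hi⟩ := Subgroup.mem_zpowers_iff.1 (hpow _ (hcomm _ h1) h2)
    obtain ⟨j, hj⟩ : ∃ j : ℕ, x * t' * x⁻¹ = t' ^ j :=
      ⟨(i % orderOf t').toNat, by
        rw [← hi, ← zpow_natCast t', Int.toNat_of_nonneg (Int.emod_nonneg _ (by
          rw [hto]; exact_mod_cast ht.prime.ne_zero)), zpow_mod_orderOf]⟩
    obtain ⟨s', μ', hn, hr⟩ := hM.rot_of_normalise ha hpl ht x.2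
      (congrArg Subtype.val (mul_inv_eq_iff_eq_mul.1 hj))
    refine Subgroup.mem_centralizer_iff.2 fun y hy => ?_
    obtain ⟨s'', μ'', hn', hr'⟩ := hrot y (hcomm y hy)
    exact Subtype.ext (hr'.commute hr).eq
  haveI : Finite (Sylow ℓ D) := inferInstance
  set N := (MonoidHom.transferSylow P hPC).ker with hN
  have hNc := MonoidHom.ker_transferSylow_isComplement' P hPC
  have hNℓ := MonoidHom.not_dvd_card_ker_transferSylow P hPC
  have hNW : N ≤ Subgroup.centralizer ({t'} : Set D) := by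
    refine Coprime.le_of_invariant_sylow_le (A := Subgroup.zpowers t')
      (by rw [Subgroup.normalizer_eq_top]; exact le_top)
      (by rw [Nat.card_zpowers, hto]; exact (ht.prime.coprime_iff_not_dvd).2 hNℓ)
      (Or.inl (Group.isSolvable_of_comm (G := Subgroup.zpowers t') fun a b => by
        obtain ⟨i, hi⟩ := a.2
        obtain ⟨i', hi'⟩ := b.2
        exact Subtype.ext (by
          show a.1 * b.1 = b.1 * a.1
          rw [← hi, ← hi', ← zpow_add, ← zpow_add, add_comm]))) ?_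
    intro q Q hq hQN hQp hQt
    by_cases hQ1 : Q = ⊥
    · rw [hQ1]; exact bot_le
    haveI : Fact q.Prime := ⟨hq⟩
    have hqQ : q ∣ Nat.card Q := by
      obtain ⟨n, hn⟩ := hQp.exists_card_eq
      rw [hn]
      refine dvd_pow_self q fun h0 => hQ1 ?_
      rw [h0, pow_zero] at hn
      exact Subgroup.eq_bot_of_card_eq _ hn
    have hqℓ : q ≠ ℓ := fun h => hNℓ ((dvd_of_eq h.symm).trans (hqQ.trans (Subgroup.card_dvd_of_le hQN)))
    have hqF : (q : F) ≠ 0 := fun h => hp (by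
      have := (Nat.prime_dvd_prime_iff_eq Fact.out hq).1 ((CharP.cast_eq_zero_iff F p q).1 h)
      rw [this]
      exact hqQ.trans (Subgroup.card_subgroup_dvd_card Q))
    let P₀ : Submodule F V := LinearMap.ker ((B.flip T.x).restrictScalars F)
    have hP₀ : ∀ {w : V}, w ∈ P₀ ↔ B w T.x = 0 := fun {w} => Iff.rfl
    have hmap : ∀ (y : D), ∀ w ∈ P₀, (y.1 : V →ₗ[F] V) w ∈ P₀ := fun y w hw => by
      rw [hP₀, LinearEquiv.coe_coe, hM.inner_fix (mem_axisFix.1 y.2).1 (mem_axisFix.1 y.2).2]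
      exact hw
    let ρ : D →* Module.End F P₀ :=
      { toFun := fun y => (y.1 : V →ₗ[F] V).restrict (hmap y)
        map_one' := LinearMap.ext fun w => rfl
        map_mul' := fun y z => LinearMap.ext fun w => rfl }
    have hsum : ∑ i ∈ Finset.range ℓ, ρ (t' ^ i) = 0 := by
      have e := mul_geom_sum (ρ t') ℓ
      rw [← map_pow, show t' ^ ℓ = 1 by rw [← hto]; exact pow_orderOf_eq_one _, map_one,
        sub_self] at e
      simp only [← map_pow] at e
      refine LinearMap.ext fun w => Subtype.ext ?_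
      set S := (∑ i ∈ Finset.range ℓ, ρ (t' ^ i)) w
      have h1 : t S.1 = S.1 := sub_eq_zero.1 (congrArg Subtype.val (LinearMap.congr_fun e w))
      have h2 : t⁻¹ S.1 = S.1 := by
        conv_lhs => rw [← h1]
        exact t.symm_apply_apply _
      have h3 := ht.rot.add_inv ht.norm_one (hP₀.1 S.2)
      rw [h1, h2, ← two_smul K, ← sub_eq_zero, ← sub_smul, smul_eq_zero] at h3
      refine h3.resolve_left fun h4 => ht.not_base ⟨1, ?_⟩
      rw [map_one]
      exact mul_left_cancel₀ hM.two (by linear_combination h4)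
    intro y hy
    rw [Subgroup.mem_centralizer_singleton_iff]
    by_contra hne
    have h := HallHigman.fermat_of_not_commute (ℓ := p) ρ Q t'
      (hQt (Subgroup.mem_zpowers _)) (r := ℓ) (by rw [← hto]; exact pow_orderOf_eq_one _)
      ht.cast_ne hqℓ hqF hQp hsum ⟨y, hy, fun hc => hne (Subtype.ext ?_)⟩
    · obtain ⟨m, hm⟩ := h.2.1
      exact ht.not_fermat m hm
    · refine LinearEquiv.ext fun w => ?_
      have hw := LinearMap.congr_fun hc ⟨T.pl w, hP₀.2 (T.pl_perp w)⟩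
      have hw' : t (y.1 (T.pl w)) = y.1 (t (T.pl w)) := congrArg Subtype.val hw
      show y.1 (t w) = t (y.1 w)
      rw [T.split w, map_add, map_add, map_add, map_add, hw', ht.rot.apply_x,
        (mem_axisFix.1 y.2).2, ht.rot.apply_x]
  have hall : Commute (⟨g, hg⟩ : D) t' := by
    obtain ⟨⟨a, b⟩, hab⟩ := hNc.2 ⟨g, hg⟩
    rw [← hab]
    exact Commute.mul_left (Subgroup.mem_centralizer_singleton_iff.1 (hNW a.2)) (hcomm _ b.2)
  exact hrot ⟨g, hg⟩ hall

end OrThree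

end Cfsg.Agent.FieldExtMax
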