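/-
Away from the degree, what fixes a singular vector and normalises the automorphisms of its frame
commutes with them.

Main definitions: `ptFix`.
Main results: `OrThree.fix_three`, `OrThree.comm_of_normalise`.
-/
import Cfsg.Agent.Lib.FieldExtMax.Three.Torus
import Mathlib.GroupTheory.FixedPointFree

set_option autoImplicit false
set_option linter.unusedSectionVars false

namespace Cfsg.Agent.FieldExtMax

open Module

variable {F K V : Type*} [Field F] [Finite F] [Field K] [Finite K] [Algebra F K]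
  [AddCommGroup V] [Module F V] [Module K V] [IsScalarTower F K V] [Finite V]
variable {B : V →ₗ[K] V →ₗ[K] K} {M : Subgroup (V ≃ₗ[F] V)}

/-- The elements fixing the three vectors of a frame. -/
def ptFix (fr : Frame B F) : Subgroup (V ≃ₗ[F] V) :=
  MulAction.stabilizer _ fr.a ⊓ MulAction.stabilizer _ fr.a' ⊓ MulAction.stabilizer _ fr.z

lemma mem_ptFix {fr : Frame B F} {g : V ≃ₗ[F] V} :
    g ∈ ptFix fr ↔ g fr.a = fr.a ∧ g fr.a' = fr.a' ∧ g fr.z = fr.z := by
  simp [ptFix, MulAction.mem_stabilizer_iff, and_assoc]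

namespace OrThree

variable (hM : OrThree B M)
include hM

lemma exists_aut_ne_one : ∃ σ : K ≃ₐ[F] K, σ ≠ 1 := by
  haveI : Module.Finite F K := Module.Finite.of_finite
  haveI : Nontrivial (K ≃ₐ[F] K) := by
    rw [← Finite.one_lt_card_iff_nontrivial, natCard_aut]
    exact hM.deg.one_lt
  exact exists_ne 1

lemma aut_comm (σ τ : K ≃ₐ[F] K) : σ * τ = τ * σ := by
  haveI : Module.Finite F K := Module.Finite.of_finite
  haveI : Fact (finrank F K).Prime := ⟨hM.deg⟩
  haveI : IsCyclic (K ≃ₐ[F] K) := isCyclic_of_prime_card (p := finrank F K) natCard_aut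
  exact IsCyclic.commGroup.mul_comm σ τ

lemma inner_range (fr : Frame B F) {y y' : V} (hy : ∀ σ, fr.auto σ y = y)
    (hy' : ∀ σ, fr.auto σ y' = y') : B y y' ∈ Set.range (algebraMap F K) := by
  obtain ⟨σ, hσ⟩ := hM.exists_aut_ne_one
  refine hM.fixed_iff hσ ?_
  rw [← fr.auto_inner, hy, hy']

/-- What fixes the frame fixes what the automorphisms fix. -/
lemma map_fixed (fr : Frame B F) {g : V ≃ₗ[F] V} (hg : g ∈ ptFix fr) {y : V}
    (hy : ∀ σ, fr.auto σ y = y) : g y = y := by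
  obtain ⟨ha, ha', hz⟩ := mem_ptFix.1 hg
  obtain ⟨p, hp⟩ := hM.inner_range fr hy fr.auto_a'
  obtain ⟨q, hq⟩ := hM.inner_range fr hy fr.auto_a
  obtain ⟨w, hw⟩ := hM.inner_range fr hy fr.auto_z
  rw [fr.dec y, ← hp, ← hq, ← hw, ← map_div₀]
  simp only [algebraMap_smul, map_add, map_smul, ha, ha', hz]

/-- The inner products of fixed vectors are preserved away from the degree. -/
lemma inner_fixed (hr : (finrank F K : F) ≠ 0) (fr : Frame B F) {g : V ≃ₗ[F] V} (hg : g ∈ M)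
    {y y' : V} (hy : ∀ σ, fr.auto σ y = y) (hy' : ∀ σ, fr.auto σ y' = y')
    (hgy : ∀ σ, fr.auto σ (g y) = g y) (hgy' : ∀ σ, fr.auto σ (g y') = g y') :
    B (g y) (g y') = B y y' := by
  obtain ⟨c, hc⟩ := hM.inner_range fr hy hy'
  obtain ⟨d, hd⟩ := hM.inner_range fr hgy hgy'
  have h := hM.pres g hg y y'
  rw [← hc, ← hd, Algebra.trace_algebraMap, Algebra.trace_algebraMap, nsmul_eq_mul,
    nsmul_eq_mul] at h
  rw [← hc, ← hd, mul_left_cancel₀ hr h]

lemma halfTurn_sq {fr : Frame B F} {i : V ≃ₗ[F] V}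
    (hi : ∀ y, i y = (2 * (B y fr.e / (-algebraMap F K fr.δ))) • fr.e - y) : i * i = 1 :=
  LinearEquiv.ext fun y => by
    have hδ := fr.δK
    show i (i y) = y
    rw [hi (i y), hi y]
    simp only [map_sub, map_smul, LinearMap.sub_apply, LinearMap.smul_apply, smul_eq_mul,
      fr.ef_prod.1]
    match_scalars <;> field_simp <;> ring

lemma halfTurn_auto {fr : Frame B F} {i : V ≃ₗ[F] V}
    (hi : ∀ y, i y = (2 * (B y fr.e / (-algebraMap F K fr.δ))) • fr.e - y) (σ : K ≃ₐ[F] K) :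
    i * fr.auto σ = fr.auto σ * i := LinearEquiv.ext fun y => by
  show i (fr.auto σ y) = fr.auto σ (i y)
  conv_lhs => rw [hi, ← fr.auto_e σ, fr.auto_inner, fr.auto_e]
  conv_rhs => rw [hi, map_sub, fr.auto_smul, fr.auto_e]
  simp [map_ofNat]

variable {p : ℕ} [Fact p.Prime] [CharP F p]

lemma planeFix_triE (hT : TorZero B M) (hpr : p ≠ finrank F K) (fr : Frame B F) :
    PlaneFix fr.triE M := by
  intro g hg hz hf
  obtain ⟨s, μ, hn, hr⟩ := hM.axis_rot fr.adapted_triZ (hM.planeFix_triZ hT fr)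
    (hM.not_dvd_axisFix hT fr hpr (by rw [show B fr.triZ.x fr.triZ.x = _ from fr.triZ.xx]
                                      exact fr.δK))
    (g := g) (mem_axisFix.2 ⟨hg, hz⟩)
  obtain ⟨-, h2, h3⟩ := fr.triZ.rotMap_coord s μ fr.triZ.v
  have hv : g fr.triZ.v = fr.triZ.v := by
    have h := hf 1
    rwa [one_smul] at h
  rw [hr] at hv
  rw [hv, fr.triZ.vu, fr.triZ.vv, mul_zero, zero_sub, eq_comm, neg_eq_zero, mul_eq_zero,
    mul_eq_zero] at h2
  have hμ : μ = 0 := (h2.resolve_right fr.triZ.cv0).resolve_right fr.triZ.cu0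
  rw [hv, hμ, fr.triZ.vv, zero_mul, zero_mul, add_zero] at h3
  have hs : s = 1 := mul_right_cancel₀ fr.triZ.cv0 (h3.symm.trans (one_mul _).symm)
  exact LinearEquiv.ext fun y => by rw [hr, hs, hμ, Tri.rotMap_one]; rfl

/-- What commutes with a half turn is semilinear on its plane. -/
theorem semi_of_halfTurn (hT : TorZero B M) (hpr : p ≠ finrank F K) (fr : Frame B F)
    {g i : V ≃ₗ[F] V} (hg : g ∈ M)
    (hi : ∀ y, i y = (2 * (B y fr.e / (-algebraMap F K fr.δ))) • fr.e - y) (hc : g * i = i * g) :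
    ∃ τ : K ≃ₐ[F] K, ∀ (k : K) y, B y fr.e = 0 → g (k • y) = τ k • g y := by
  have hδ := fr.δK
  have haxis : ∀ {h : V ≃ₗ[F] V}, h * i = i * h → ∀ k : K, ∃ l : K, h (k • fr.e) = l • fr.e := by
    intro h hh k
    have e1 : i (k • fr.e) = k • fr.e := by
      rw [hi, map_smul, LinearMap.smul_apply, fr.ef_prod.1, smul_eq_mul,
        mul_div_cancel_right₀ _ (neg_ne_zero.2 hδ), ← sub_smul]
      congr 1
      ring
    have e2 : i (h (k • fr.e)) = h (k • fr.e) := by
      conv_rhs => rw [← e1]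
      exact (LinearEquiv.congr_fun hh _).symm
    rw [hi, sub_eq_iff_eq_add, ← two_smul K] at e2
    refine ⟨B (h (k • fr.e)) fr.e / -algebraMap F K fr.δ, smul_right_injective V hM.two ?_⟩
    show (2 : K) • h (k • fr.e) = (2 : K) • (_ • fr.e)
    rw [smul_smul, ← e2]
  have hpl : ∀ y, B y fr.triE.x = 0 → B (g y) fr.triE.x = 0 := fun y hy => by
    have e1 : i y = -y := by
      rw [hi, show B y fr.e = 0 from hy, zero_div, mul_zero, zero_smul, zero_sub]
    have e2 : i (g y) = -g y := by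
      rw [← map_neg, ← e1]
      exact (LinearEquiv.congr_fun hc y).symm
    rw [hi, ← neg_add_eq_sub, add_eq_left, smul_eq_zero] at e2
    have h0 : fr.e ≠ 0 := fr.triE.ne_x
    show B (g y) fr.e = 0
    simpa [hM.two, hδ] using e2.resolve_right h0
  obtain ⟨ℓ, t, s, μ, ht⟩ := hM.exists_torus fr.triE
  have hci : g⁻¹ * i = i * g⁻¹ := by
    rw [inv_mul_eq_iff_eq_mul, ← mul_assoc, hc, mul_inv_cancel_right]
  have hD : g * t * g⁻¹ ∈ axisFix M fr.triE.x K := by
    refine mem_axisFix.2 ⟨mul_mem (mul_mem hg ht.mem) (inv_mem hg), fun k => ?_⟩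
    obtain ⟨l, hl⟩ := haxis hci k
    show g (t (g⁻¹ (k • fr.e))) = k • fr.e
    rw [hl, show t (l • fr.e) = l • fr.e from ht.rot.apply_x l, ← hl]
    exact g.apply_symm_apply _
  obtain ⟨s', μ', hn, hr⟩ := hM.axis_rot fr.adapted_triE (hM.planeFix_triE hT hpr fr)
    (hM.not_dvd_axisFix hT fr hpr (by rw [show B fr.triE.x fr.triE.x = _ from fr.triE.xx]
                                      exact neg_ne_zero.2 fr.δK)) hD
  obtain ⟨τ, -, hτ⟩ := hM.semi_of_conj ht hr hn hpl (inv_mul_cancel_right _ _).symm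
  exact ⟨τ, hτ⟩

/-- Fixing the frame and commuting with a half turn leaves the automorphisms. -/
theorem auto_of_halfTurn (hT : TorZero B M) (hpr : p ≠ finrank F K) (fr : Frame B F)
    {g i : V ≃ₗ[F] V} (hg : g ∈ M) (hgf : g ∈ ptFix fr)
    (hi : ∀ y, i y = (2 * (B y fr.e / (-algebraMap F K fr.δ))) • fr.e - y) (hc : g * i = i * g) :
    ∃ τ, g = fr.auto τ := by
  obtain ⟨τ, hτ⟩ := hM.semi_of_halfTurn hT hpr fr hg hi hc
  obtain ⟨ha, ha', hz⟩ := mem_ptFix.1 hgf
  have hh := hM.planeFix_triE hT hpr fr ((fr.auto τ)⁻¹ * g)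
    (mul_mem (inv_mem (hM.auto_mem fr τ)) hg) (fun k => ?_) (fun k => ?_)
  · exact ⟨τ, (inv_mul_eq_one.1 hh).symm⟩
  · show (fr.auto τ)⁻¹ (g (k • fr.z)) = _
    rw [hτ k _ fr.ef_prod.2.2.2.2.2.1, hz, ← fr.auto_z τ, ← fr.auto_smul]
    exact (fr.auto τ).symm_apply_apply _
  · show (fr.auto τ)⁻¹ (g (k • fr.f)) = _
    rw [hτ k _ fr.ef_prod.2.2.2.1, fr.map_f g ha ha', ← fr.auto_f τ, ← fr.auto_smul]
    exact (fr.auto τ).symm_apply_apply _

/-- Fixing the frame and normalising the automorphisms leaves the automorphisms. -/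
theorem fix_three (hT : TorZero B M) (hpr : p ≠ finrank F K) (fr : Frame B F) {g : V ≃ₗ[F] V}
    (hg : g ∈ M) (hgf : g ∈ ptFix fr)
    (hn : g ∈ Subgroup.normalizer (fr.auto.range : Set (V ≃ₗ[F] V))) : ∃ τ, g = fr.auto τ := by
  classical
  haveI : Finite (V ≃ₗ[F] V) := DFunLike.finite _
  obtain ⟨s₀, t₀, hst⟩ : ∃ s t : F, s * s + t * t = -1 := by
    obtain ⟨a, b, hab⟩ := CharP.sq_add_sq F p (-1)
    exact ⟨a, b, by rw [← pow_two, ← pow_two, hab, Int.cast_neg, Int.cast_one]⟩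
  obtain ⟨fu, hδu, heu, hau, hgu⟩ := hM.exists_rotate fr hst
  obtain ⟨fv, hδv, hev, hav, hgv⟩ := hM.exists_rotate fr (s := -t₀) (t := s₀)
    (by linear_combination hst)
  obtain ⟨ie, hieM, hie⟩ := hM.halfTurn_mem fr
  obtain ⟨iu, hiuM, hiu⟩ := hM.halfTurn_mem fu
  obtain ⟨iv, hivM, hiv⟩ := hM.halfTurn_mem fv
  set X : Subgroup (V ≃ₗ[F] V) :=
    M ⊓ ptFix fr ⊓ Subgroup.normalizer (fr.auto.range : Set (V ≃ₗ[F] V)) with hX
  have hHX : fr.auto.range ≤ X := by
    rintro _ ⟨σ, rfl⟩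
    exact ⟨⟨hM.auto_mem fr σ, mem_ptFix.2 ⟨fr.auto_a σ, fr.auto_a' σ, fr.auto_z σ⟩⟩,
      Subgroup.le_normalizer ⟨σ, rfl⟩⟩
  set N : Subgroup X := fr.auto.range.subgroupOf X
  haveI : N.Normal := Subgroup.normal_subgroupOf_of_le_normalizer inf_le_right
  -- half turns act on the quotient
  have hconj : ∀ i ∈ M, i * i = 1 → (∀ σ, i * fr.auto σ = fr.auto σ * i) →
      ∀ x ∈ X, i * x * i⁻¹ ∈ X := by
    intro i hi hi2 hia x hx
    obtain ⟨⟨hxM, hxf⟩, hxn⟩ := hx
    have hin : i ∈ Subgroup.normalizer (fr.auto.range : Set (V ≃ₗ[F] V)) := by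
      refine Subgroup.mem_normalizer_iff.2 fun y => ⟨?_, ?_⟩
      · rintro ⟨σ, rfl⟩
        exact ⟨σ, by rw [hia, mul_inv_cancel_right]⟩
      · rintro ⟨σ, hσ⟩
        refine ⟨σ, ?_⟩
        rw [eq_mul_inv_iff_mul_eq, ← hia] at hσ
        exact mul_left_cancel hσ
    refine Subgroup.mem_inf.2 ⟨Subgroup.mem_inf.2 ⟨M.mul_mem (M.mul_mem hi hxM) (M.inv_mem hi),
      mem_ptFix.2 ?_⟩, Subgroup.mul_mem _ (Subgroup.mul_mem _ hin hxn) (Subgroup.inv_mem _ hin)⟩
    have hii : i⁻¹ = i := inv_eq_of_mul_eq_one_right hi2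
    have key : ∀ y, (∀ σ, fr.auto σ y = y) → (i * x * i⁻¹) y = y := fun y hy => by
      rw [hii]
      show i (x (i y)) = y
      rw [hM.map_fixed fr hxf (y := i y) fun σ => by
        rw [show fr.auto σ (i y) = i (fr.auto σ y) from (LinearEquiv.congr_fun (hia σ) y).symm, hy]]
      exact LinearEquiv.congr_fun hi2 y
    exact ⟨key _ fr.auto_a, key _ fr.auto_a', key _ fr.auto_z⟩
  let C : ∀ i ∈ M, i * i = 1 → (∀ σ, i * fr.auto σ = fr.auto σ * i) → (X →* X) :=
    fun i hi hi2 hia =>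
    { toFun := fun x => ⟨i * x.1 * i⁻¹, hconj i hi hi2 hia x.1 x.2⟩
      map_one' := Subtype.ext (by simp)
      map_mul' := fun x y => Subtype.ext (conj_mul).symm }
  have hC : ∀ i hi hi2 hia, N ≤ N.comap (C i hi hi2 hia) := fun i hi hi2 hia x hx => by
    obtain ⟨σ, hσ⟩ := Subgroup.mem_subgroupOf.1 hx
    exact Subgroup.mem_comap.2 (Subgroup.mem_subgroupOf.2 ⟨σ, by
      show fr.auto σ = i * x.1 * i⁻¹
      rw [← hσ, hia, mul_inv_cancel_right]⟩)
  let Φ : ∀ i ∈ M, i * i = 1 → (∀ σ, i * fr.auto σ = fr.auto σ * i) → (X ⧸ N →* X ⧸ N) :=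
    fun i hi hi2 hia => QuotientGroup.map N N (C i hi hi2 hia) (hC i hi hi2 hia)
  -- each acts without fixed points
  have hfree : ∀ (f : Frame B F), (∀ σ, f.auto σ = fr.auto σ) →
      (∀ x ∈ ptFix fr, x ∈ ptFix f) → ∀ i (hi : i ∈ M)
      (hif : ∀ y, i y = (2 * (B y f.e / (-algebraMap F K f.δ))) • f.e - y)
      (hi2 : i * i = 1) (hia : ∀ σ, i * fr.auto σ = fr.auto σ * i),
      MonoidHom.FixedPointFree (Φ i hi hi2 hia) ∧ Function.Involutive (Φ i hi hi2 hia) := by
    intro f hfa hff i hi hif hi2 hia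
    have hii : i⁻¹ = i := inv_eq_of_mul_eq_one_right hi2
    constructor
    · intro q hq
      induction q using QuotientGroup.induction_on with
      | H x =>
        obtain ⟨σ, hσ⟩ := Subgroup.mem_subgroupOf.1 (QuotientGroup.eq.1 hq.symm)
        change fr.auto σ = x.1⁻¹ * (i * x.1 * i⁻¹) at hσ
        have h1 : i * x.1 * i = x.1 * fr.auto σ := by
          rw [hσ, mul_inv_cancel_left, hii]
        have h2 : x.1 = x.1 * (fr.auto σ * fr.auto σ) := by
          calc x.1 = i * (i * x.1 * i) * i := by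
                simp only [← mul_assoc, hi2, one_mul]; rw [mul_assoc, hi2, mul_one]
            _ = i * (x.1 * fr.auto σ) * i := by rw [h1]
            _ = i * x.1 * i * fr.auto σ := by simp only [mul_assoc]; rw [hia]
            _ = x.1 * (fr.auto σ * fr.auto σ) := by rw [h1, mul_assoc]
        rw [left_eq_mul, ← map_mul] at h2
        have hσ1 : σ = 1 := autPow_eq_one σ (m := 2) (by
          rw [pow_two]
          refine AlgEquiv.ext fun k => smul_inj fr.ne_a ?_
          have := LinearEquiv.congr_fun h2 (k • fr.a)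
          rwa [fr.auto_smul, fr.auto_a] at this) hM.deg_coprime_two
        rw [hσ1, map_one, mul_one] at h1
        have hc : x.1 * i = i * x.1 := by
          calc x.1 * i = i * x.1 * i * i := by rw [h1]
            _ = i * x.1 := by rw [mul_assoc, hi2, mul_one]
        obtain ⟨τ, hτ⟩ := hM.auto_of_halfTurn hT hpr f x.2.1.1 (hff _ x.2.1.2) hif hc
        rw [QuotientGroup.eq_one_iff]
        exact Subgroup.mem_subgroupOf.2 ⟨τ, by rw [hτ, hfa]⟩
    · intro q
      induction q using QuotientGroup.induction_on with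
      | H x =>
        show QuotientGroup.mk (C i hi hi2 hia (C i hi hi2 hia x)) = _
        refine congrArg _ (Subtype.ext ?_)
        show i * (i * x.1 * i⁻¹) * i⁻¹ = x.1
        rw [hii, ← mul_assoc, ← mul_assoc, hi2, one_mul, mul_assoc, hi2, mul_one]
  have hu_a : ∀ σ, iu * fr.auto σ = fr.auto σ * iu := fun σ => hau σ ▸ hM.halfTurn_auto hiu σ
  have hv_a : ∀ σ, iv * fr.auto σ = fr.auto σ * iv := fun σ => hav σ ▸ hM.halfTurn_auto hiv σ
  have he := hfree fr (fun _ => rfl) (fun _ h => h) ie hieM hie (hM.halfTurn_sq hie)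
    (hM.halfTurn_auto hie)
  have hu := hfree fu hau (fun x hx => mem_ptFix.2
    (hgu x (mem_ptFix.1 hx).1 (mem_ptFix.1 hx).2.1 (mem_ptFix.1 hx).2.2)) iu hiuM hiu
    (hM.halfTurn_sq hiu) hu_a
  have hv := hfree fv hav (fun x hx => mem_ptFix.2
    (hgv x (mem_ptFix.1 hx).1 (mem_ptFix.1 hx).2.1 (mem_ptFix.1 hx).2.2)) iv hivM hiv
    (hM.halfTurn_sq hiv) hv_a
  have hprod : iu * iv = ie := by
    refine LinearEquiv.ext fun y => ?_
    obtain ⟨h1, h2, h3, h4, h5, h6, h7, h8⟩ := fr.ef_prod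
    have hδ := fr.δK
    have hS : algebraMap F K s₀ * algebraMap F K s₀ + algebraMap F K t₀ * algebraMap F K t₀
        = -1 := by rw [← map_mul, ← map_mul, ← map_add, hst, map_neg, map_one]
    show iu (iv y) = ie y
    rw [hiu, hiv, hie, hδu, hδv, heu, hev]
    refine fr.triE.ext ?_ ?_ ?_ <;>
      simp only [Frame.triE, map_add, map_sub, map_neg, map_smul, LinearMap.add_apply,
        LinearMap.sub_apply, LinearMap.smul_apply, LinearMap.neg_apply, smul_eq_mul, fr.zz, h1, h2,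
        h3, h4, h5, h6, h7, h8]
    · field_simp
      ring
    · field_simp
      linear_combination (2 * B y fr.z * algebraMap F K fr.δ ^ 2) * hS
    · field_simp
      linear_combination (2 * B y fr.f * algebraMap F K fr.δ ^ 2) * hS
  have hx : (QuotientGroup.mk (⟨g, ⟨⟨hg, hgf⟩, hn⟩⟩ : X) : X ⧸ N) = 1 := by
    set x : X := ⟨g, ⟨⟨hg, hgf⟩, hn⟩⟩
    refine he.1 _ ?_
    have e1 : Φ ie hieM (hM.halfTurn_sq hie) (hM.halfTurn_auto hie) (x : X ⧸ N)
        = Φ iu hiuM (hM.halfTurn_sq hiu) hu_a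
            (Φ iv hivM (hM.halfTurn_sq hiv) hv_a (x : X ⧸ N)) := by
      refine congrArg QuotientGroup.mk (Subtype.ext ?_)
      show ie * g * ie⁻¹ = iu * (iv * g * iv⁻¹) * iu⁻¹
      rw [← hprod, mul_inv_rev]
      simp only [mul_assoc]
    rw [e1, hv.1.coe_eq_inv_of_involutive hv.2, hu.1.coe_eq_inv_of_involutive hu.2]
    exact inv_inv _
  obtain ⟨σ, hσ⟩ := Subgroup.mem_subgroupOf.1 ((QuotientGroup.eq_one_iff _).1 hx)
  exact ⟨σ, hσ.symm⟩

/-- Away from the degree the normaliser of the automorphisms in a point stabiliser centralises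
them. -/
theorem comm_of_normalise (hT : TorZero B M) (hpr : p ≠ finrank F K) (fr : Frame B F)
    {g : V ≃ₗ[F] V} (hg : g ∈ M) (hga : g fr.a = fr.a)
    (hn : g ∈ Subgroup.normalizer (fr.auto.range : Set (V ≃ₗ[F] V))) :
    (∀ σ, fr.auto σ * g = g * fr.auto σ) ∧
      ((∃ (c : F) (σ : K ≃ₐ[F] K), g = fr.u (algebraMap F K c) * fr.auto σ) ∨
        ∃ μ : F, g fr.z = algebraMap F K μ • fr.a - fr.z) := by
  have hδ := fr.δK
  have hrF : (finrank F K : F) ≠ 0 := fun h => hpr ((Nat.prime_dvd_prime_iff_eq Fact.out hM.deg).1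
    ((CharP.cast_eq_zero_iff F p _).1 h))
  have hgV : ∀ {h : V ≃ₗ[F] V}, h ∈ Subgroup.normalizer (fr.auto.range : Set (V ≃ₗ[F] V)) →
      ∀ {y : V}, (∀ σ, fr.auto σ y = y) → ∀ σ, fr.auto σ (h y) = h y := by
    intro h hh y hy σ
    obtain ⟨σ', hσ'⟩ := (Subgroup.mem_normalizer_iff''.1 hh _).1 ⟨σ, rfl⟩
    have e := LinearEquiv.congr_fun hσ' y
    change fr.auto σ' y = h.symm (fr.auto σ (h y)) at e
    rw [hy, LinearEquiv.eq_symm_apply] at e
    exact e.symm
  have hz := hgV hn fr.auto_z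
  have hga' : ∀ σ, fr.auto σ (g fr.a) = g fr.a := hgV hn fr.auto_a
  have h1 : B (g fr.z) fr.a = 0 := by
    conv_lhs => rw [← hga, hM.inner_fixed hrF fr hg fr.auto_z fr.auto_a hz hga', fr.za]
  have h2 : B (g fr.z) (g fr.z) = algebraMap F K fr.δ := by
    rw [hM.inner_fixed hrF fr hg fr.auto_z fr.auto_z hz hz, fr.zz]
  obtain ⟨μ, hμ⟩ := hM.inner_range fr hz fr.auto_a'
  obtain ⟨β, hβ, hgz⟩ : ∃ β : F, β * β = 1 ∧
      g fr.z = algebraMap F K μ • fr.a + algebraMap F K β • fr.z := by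
    obtain ⟨ζ, hζ⟩ := hM.inner_range fr hz fr.auto_z
    rw [fr.inner_eq, h1, zero_mul, mul_zero, zero_add, zero_add, div_eq_iff hδ, ← hζ] at h2
    refine ⟨ζ / fr.δ, ?_, ?_⟩
    · apply (algebraMap F K).injective
      rw [map_mul, map_div₀, map_one, div_mul_div_comm, h2, div_self (mul_ne_zero hδ hδ)]
    · conv_lhs => rw [fr.dec (g fr.z), h1, zero_smul, add_zero, ← hμ, ← hζ, ← map_div₀]
  set c := μ * β / fr.δ with hc
  have hcu : ∀ σ, fr.auto σ * fr.u (algebraMap F K c) = fr.u (algebraMap F K c) * fr.auto σ :=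
    fun σ => by rw [fr.auto_mul_u, σ.commutes]
  set w := fr.u (algebraMap F K c) * g with hw
  have hwM : w ∈ M := mul_mem (hM.u_mem fr _) hg
  have hwn : w ∈ Subgroup.normalizer (fr.auto.range : Set (V ≃ₗ[F] V)) := by
    refine mul_mem (Subgroup.mem_normalizer_iff.2 fun y => ⟨?_, ?_⟩) hn
    · rintro ⟨σ, rfl⟩
      exact ⟨σ, by rw [← hcu, mul_inv_cancel_right]⟩
    · rintro ⟨σ, hσ⟩
      refine ⟨σ, ?_⟩
      rw [eq_mul_inv_iff_mul_eq, hcu] at hσ
      exact mul_left_cancel hσ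
  have hwa : w fr.a = fr.a := by
    show fr.u _ (g fr.a) = fr.a
    rw [hga, fr.u_a]
  have hwz : w fr.z = algebraMap F K β • fr.z := by
    show fr.u _ (g fr.z) = _
    rw [hgz, map_add, fr.u_smul, fr.u_smul, fr.u_a, fr.u_apply]
    simp only [fr.za, fr.zz, mul_zero, zero_smul, add_zero, sub_zero, smul_sub, smul_smul, hc,
      map_div₀, map_mul]
    have e : algebraMap F K β * algebraMap F K β = 1 := by rw [← map_mul, hβ, map_one]
    have : algebraMap F K μ = algebraMap F K β * (algebraMap F K μ * algebraMap F K β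
        / algebraMap F K fr.δ * algebraMap F K fr.δ) := by
      rw [div_mul_cancel₀ _ hδ]; linear_combination -(algebraMap F K μ) * e
    rw [← this]
    abel
  have hwa' : w fr.a' = fr.a' := by
    have e1 := hgV hwn fr.auto_a'
    have f1 : B (w fr.a') fr.a = 1 := by
      conv_lhs => rw [← hwa, hM.inner_fixed hrF fr hwM fr.auto_a' fr.auto_a e1 (hgV hwn fr.auto_a),
        fr.a'a]
    have f2 : B (w fr.a') fr.z = 0 := by
      have := hM.inner_fixed hrF fr hwM fr.auto_a' fr.auto_z e1 (hgV hwn fr.auto_z)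
      rw [hwz, map_smul, fr.a'z, smul_eq_mul, mul_eq_zero] at this
      exact this.resolve_left fun h => by
        rw [map_eq_zero] at h
        rw [h, mul_zero] at hβ
        exact zero_ne_one hβ
    have f3 := hM.inner_fixed hrF fr hwM fr.auto_a' fr.auto_a' e1 e1
    rw [fr.inner_eq, f1, f2, fr.a'a', zero_mul, zero_div, add_zero, one_mul, mul_one,
      ← two_mul, mul_eq_zero] at f3
    refine fr.ext ?_ ?_ ?_
    · rw [fr.a'a', f3.resolve_left hM.two]
    · rw [f1, fr.a'a]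
    · rw [f2, fr.a'z]
  rcases mul_self_eq_one_iff.1 hβ with hβ1 | hβ1
  · rw [hβ1, map_one, one_smul] at hwz
    obtain ⟨σ, hσ⟩ := hM.fix_three hT hpr fr hwM (mem_ptFix.2 ⟨hwa, hwa', hwz⟩) hwn
    have hgeq : g = fr.u (-algebraMap F K c) * fr.auto σ := by
      rw [← hσ, hw, ← mul_assoc, fr.u_add, neg_add_cancel, fr.u_zero, one_mul]
    refine ⟨fun τ => ?_, Or.inl ⟨-c, σ, by rw [map_neg]; exact hgeq⟩⟩
    rw [hgeq, ← mul_assoc, fr.auto_mul_u, map_neg, τ.commutes, mul_assoc, ← map_mul, hM.aut_comm,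
      map_mul, ← mul_assoc]
  · rw [hβ1, map_neg, map_one, neg_one_smul] at hwz hgz
    refine ⟨?_, Or.inr ⟨μ, by rw [hgz, sub_eq_add_neg]⟩⟩
    have hwe := fr.map_e w hwa hwa'
    have hwf := fr.map_f w hwa hwa'
    obtain ⟨i, hiM, hi⟩ := hM.halfTurn_mem fr
    have hi2 := hM.halfTurn_sq hi
    have hii : i⁻¹ = i := inv_eq_of_mul_eq_one_right hi2
    obtain ⟨h1', -, -, h4, -, h6, -, -⟩ := fr.ef_prod
    have ie : i fr.e = fr.e := by
      rw [hi, h1', div_self (neg_ne_zero.2 hδ), mul_one, two_smul, add_sub_cancel_right]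
    have iz : i fr.z = -fr.z := by rw [hi, h6, zero_div, mul_zero, zero_smul, zero_sub]
    have if' : i fr.f = -fr.f := by rw [hi, h4, zero_div, mul_zero, zero_smul, zero_sub]
    have hwi : ∀ {y z : V}, w y = z → w⁻¹ z = y := fun {y z} h => by
      rw [← h]; exact w.symm_apply_apply y
    set x := i * w * i * w⁻¹ with hx
    have hxe : x fr.e = fr.e := by
      show i (w (i (w⁻¹ fr.e))) = _
      rw [hwi hwe, ie, hwe, ie]
    have hxf : x fr.f = fr.f := by
      show i (w (i (w⁻¹ fr.f))) = _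
      rw [hwi hwf, if', map_neg, hwf, map_neg, if', neg_neg]
    have hxz : x fr.z = fr.z := by
      show i (w (i (w⁻¹ fr.z))) = _
      rw [hwi (show w (-fr.z) = fr.z by rw [map_neg, hwz, neg_neg]), map_neg, iz, neg_neg, hwz,
        map_neg, iz, neg_neg]
    have hxP : x ∈ ptFix fr := mem_ptFix.2 ⟨by rw [fr.a_eq, map_add, hxe, hxf], by
      rw [fr.a'_eq, show (2 * algebraMap F K fr.δ)⁻¹ = algebraMap F K (2 * fr.δ)⁻¹ by
        rw [map_inv₀, map_mul, map_ofNat], algebraMap_smul, map_smul, map_sub, hxe, hxf], hxz⟩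
    have hin : i ∈ Subgroup.normalizer (fr.auto.range : Set (V ≃ₗ[F] V)) := by
      refine Subgroup.mem_normalizer_iff.2 fun y => ⟨?_, ?_⟩
      · rintro ⟨σ, rfl⟩
        exact ⟨σ, by rw [hM.halfTurn_auto hi, mul_inv_cancel_right]⟩
      · rintro ⟨σ, hσ⟩
        refine ⟨σ, ?_⟩
        rw [eq_mul_inv_iff_mul_eq, ← hM.halfTurn_auto hi] at hσ
        exact mul_left_cancel hσ
    obtain ⟨σ, hσ⟩ := hM.fix_three hT hpr fr
      (mul_mem (mul_mem (mul_mem hiM hwM) hiM) (inv_mem hwM)) hxP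
      (mul_mem (mul_mem (mul_mem hin hwn) hin) (inv_mem hwn))
    rw [mul_inv_eq_iff_eq_mul] at hσ
    have hσσ : w = fr.auto σ * (fr.auto σ * w) := by
      calc w = i * (i * w * i) * i := by
            simp only [← mul_assoc, hi2, one_mul]; rw [mul_assoc, hi2, mul_one]
        _ = i * (fr.auto σ * w) * i := by rw [hσ]
        _ = fr.auto σ * (i * w * i) := by
            rw [← mul_assoc, hM.halfTurn_auto hi]; simp only [mul_assoc]
        _ = _ := by rw [hσ]
    rw [← mul_assoc, right_eq_mul, ← map_mul] at hσσ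
    have hσ1 : σ = 1 := autPow_eq_one σ (m := 2) (by
      rw [pow_two]
      refine AlgEquiv.ext fun k => smul_inj fr.ne_a ?_
      have := LinearEquiv.congr_fun hσσ (k • fr.a)
      rwa [fr.auto_smul, fr.auto_a] at this) hM.deg_coprime_two
    rw [hσ1, map_one, one_mul] at hσ
    have hwc : w * i = i * w := by
      calc w * i = i * w * i * i := by rw [hσ]
        _ = i * w := by rw [mul_assoc, hi2, mul_one]
    obtain ⟨τ, hτ⟩ := hM.semi_of_halfTurn hT hpr fr hwM hi hwc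
    have hwauto : ∀ σ, fr.auto σ * w = w * fr.auto σ := fun σ => by
      obtain ⟨σ', hσ'⟩ := (Subgroup.mem_normalizer_iff''.1 hwn _).1 ⟨σ, rfl⟩
      have hσ'' : fr.auto σ * w = w * fr.auto σ' := by rw [hσ']; group
      rw [hσ'']
      have e : ∀ k : K, τ (σ' k) = σ (τ k) := fun k => by
        have := LinearEquiv.congr_fun hσ'' (k • fr.f)
        change fr.auto σ (w (k • fr.f)) = w (fr.auto σ' (k • fr.f)) at this
        rw [fr.auto_smul σ' k, fr.auto_f, hτ _ _ h4, hτ _ _ h4, hwf, fr.auto_smul, fr.auto_f] at this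
        exact (smul_inj fr.triE.ne_v this).symm
      have h : τ * σ' = τ * σ := by
        rw [show τ * σ' = σ * τ from AlgEquiv.ext e, hM.aut_comm]
      rw [mul_left_cancel h]
    intro σ
    have hg' : g = fr.u (-algebraMap F K c) * w := by
      rw [hw, ← mul_assoc, fr.u_add, neg_add_cancel, fr.u_zero, one_mul]
    rw [hg', ← mul_assoc, fr.auto_mul_u, map_neg, σ.commutes, mul_assoc, hwauto, ← mul_assoc]

end OrThree

end Cfsg.Agent.FieldExtMax
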