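/-
Three-dimensional case: the maps `P` with `x ↦ x + P (B x a) • a` in `M` form an `F`-space, and
when not all zero their values at a non-zero `c` fill a hyperplane.

Main definitions: `conjMul`, `OrThree.torSub`, `OrThree.evalAt`.
Main results: `OrThree.mem_smul`, `OrThree.tor_transport`, `OrThree.finrank_evalAt`.
-/
import Cfsg.Agent.Lib.FieldExtMax.Three.Base
import Cfsg.Agent.Lib.FieldExtMax.OrRoots

set_option autoImplicit false
set_option linter.unusedSectionVars false

namespace Cfsg.Agent.FieldExtMax

open Module Polynomial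

variable {F K V : Type*} [Field F] [Finite F] [Field K] [Finite K] [Algebra F K]
  [AddCommGroup V] [Module F V] [Module K V] [IsScalarTower F K V] [Finite V]
variable {B : V →ₗ[K] V →ₗ[K] K} {M : Subgroup (V ≃ₗ[F] V)}

/-- Multiplication by `e` on both sides. -/
noncomputable def conjMul (e : K) (P : Module.End F K) : Module.End F K :=
  mulL F e ∘ₗ P ∘ₗ mulL F e

lemma conjMul_apply (e : K) (P : Module.End F K) (x : K) : conjMul e P x = e * P (e * x) := rfl

lemma exists_sub_sq (h2 : (2 : F) ≠ 0) (t : F) : ∃ u v : F, t = u * u - v * v :=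
  ⟨(t + 1) / 2, (t - 1) / 2, by field_simp; ring⟩

lemma comm_of_mem_adjoin (hdeg : (finrank F K).Prime) {R : Module.End F K} {b : K}
    (hb : b ∉ Set.range (algebraMap F K)) (hR : ∀ x, R (b * x) = b * R x) (k x : K) :
    R (k * x) = k * R x := by
  let S : Subalgebra F K :=
    { carrier := {k | ∀ x, R (k * x) = k * R x}
      mul_mem' := fun {k l} hk hl x => by rw [mul_assoc, hk, hl, mul_assoc]
      add_mem' := fun {k l} hk hl x => by rw [add_mul, map_add, hk, hl, add_mul]
      algebraMap_mem' := fun c x => by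
        rw [← Algebra.smul_def, map_smul, Algebra.smul_def] }
  exact (adjoin_eq_top hdeg hb S hR ▸ Algebra.mem_top : k ∈ S) x

/-- A map whose double bracket with a generator vanishes commutes with it. -/
lemma comm_of_bracket (hdeg : (finrank F K).Prime) {P : Module.End F K} {b : K}
    (hb : b ∉ Set.range (algebraMap F K))
    (h : ∀ x, b * (b * P x) - 2 * (b * P (b * x)) + P (b * (b * x)) = 0) (k x : K) :
    P (k * x) = k * P x := by
  haveI : Module.Finite F K := Module.Finite.of_finite
  set R : Module.End F K := mulL F b ∘ₗ P - P ∘ₗ mulL F b with hR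
  have hRx : ∀ x, R x = b * P x - P (b * x) := fun x => rfl
  have hRc : ∀ x, R (b * x) = b * R x := fun x => by
    rw [hRx, hRx]
    linear_combination -(h x)
  have hR1 : ∀ x, R x = x * R 1 := fun x => by
    conv_lhs => rw [← mul_one x]
    rw [comm_of_mem_adjoin hdeg hb hRc]
  have hb1 : ∀ x, P (b * x) = b * P x - R 1 * x := fun x => by
    linear_combination -(hR1 x) + hRx x
  have hpoly : ∀ (f : F[X]) (x : K),
      P (aeval b f * x) = aeval b f * P x - aeval b (derivative f) * R 1 * x := by
    intro f
    induction f using Polynomial.induction_on' with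
    | add p q hp hq =>
      intro x
      simp only [map_add, add_mul, hp, hq]
      ring
    | monomial n c =>
      intro x
      rw [aeval_monomial, derivative_monomial, aeval_monomial, mul_assoc,
        ← Algebra.smul_def, map_smul, Algebra.smul_def]
      have hn : ∀ n : ℕ, ∀ x, P (b ^ n * x) = b ^ n * P x - n * b ^ (n - 1) * R 1 * x := by
        intro n
        induction n with
        | zero => simp
        | succ n ih =>
          intro x
          rw [pow_succ, mul_assoc, ih, hb1, Nat.add_sub_cancel, Nat.cast_succ]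
          rcases n with _ | n
          · simp
          · rw [Nat.add_sub_cancel, pow_succ]
            ring
      rw [hn, map_mul, map_natCast]
      ring
  have hc : R 1 = 0 := by
    have h1 := hpoly (minpoly F b) 1
    rw [minpoly.aeval, zero_mul, map_zero, zero_mul, zero_sub, eq_comm, neg_eq_zero,
      mul_one] at h1
    have hsep : (minpoly F b).Separable :=
      PerfectField.separable_of_irreducible (minpoly.irreducible (Algebra.IsIntegral.isIntegral b))
    exact (mul_eq_zero.1 h1).resolve_left (hsep.aeval_derivative_ne_zero (minpoly.aeval F b))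
  exact comm_of_mem_adjoin hdeg hb (fun x => by rw [hb1, hc, zero_mul, sub_zero]) k x

namespace OrThree

variable (hM : OrThree B M)
include hM

lemma conjMul_mem (fr : Frame B F) {P : Module.End F K} (hP : P ∈ hM.Tor fr.aa) (l : K) :
    conjMul (l * l) P ∈ hM.Tor fr.aa := by
  by_cases hl : l = 0
  · have : conjMul (l * l) P = 0 := LinearMap.ext fun x => by simp [conjMul_apply, hl]
    rw [this]
    exact zero_mem _
  obtain ⟨g, hg, -, hgm⟩ := hM.exists_scalar_sq fr hl
  exact hM.mem_conj fr.aa hg hgm (R := mulL F (l * l))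
    (fun k α => by simp only [LinearMap.mulLeft_apply]; ring_nf) hP

lemma eq_zero_of_commute {a : V} (ha : a ≠ 0) (hs : B a a = 0) {P : Module.End F K}
    (hP : P ∈ hM.Tor hs) (hc : ∀ k x : K, P (k * x) = k * P x) : P = 0 := by
  have h1 : ∀ x, P x = x * P 1 := fun x => by
    conv_lhs => rw [← mul_one x]
    rw [hc]
  have h0 : P 1 = 0 := lam_ext hM.lam_ne fun k => by
    have h := hM.skew_of_mem ha hs hP k 1
    rw [mul_one, h1 k] at h
    rw [mul_zero, map_zero]
    have h' : (2 : F) * Algebra.trace F K (k * P 1) = 0 := by linear_combination h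
    exact (mul_eq_zero.1 h').resolve_left hM.twoF
  exact LinearMap.ext fun x => by rw [h1, h0, mul_zero]; rfl

/-- The maps `P` form an `F`-space. -/
theorem mem_smul (fr : Frame B F) (t : F) {P : Module.End F K} (hP : P ∈ hM.Tor fr.aa) :
    t • P ∈ hM.Tor fr.aa := by
  have h2 := hM.twoF
  have h4 : ((2 : F) * 2) ≠ 0 := mul_ne_zero h2 h2
  -- a square of `F` acts by its square
  have hΓ : ∀ (w : F) {P : Module.End F K}, P ∈ hM.Tor fr.aa →
      ((w * w) * (w * w)) • P ∈ hM.Tor fr.aa := fun w P hP => by
    convert hM.conjMul_mem fr hP (algebraMap F K w) using 1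
    refine LinearMap.ext fun x => ?_
    rw [conjMul_apply, ← map_mul]
    simp only [← Algebra.smul_def, map_smul, smul_smul, LinearMap.smul_apply]
  by_cases hι : IsSquare (-1 : F)
  swap
  · have hsq : ∀ (s : F) {P : Module.End F K}, P ∈ hM.Tor fr.aa →
        (s * s) • P ∈ hM.Tor fr.aa := by
      intro s P hP
      classical
      letI := Fintype.ofFinite F
      rcases eq_or_ne s 0 with rfl | hs
      · simp [zero_mem]
      by_cases hsq : IsSquare s
      · obtain ⟨w, rfl⟩ := hsq
        exact hΓ w hP
      · have hcF : ringChar F ≠ 2 := fun h => h2 (by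
          haveI := ringChar.of_eq h
          exact CharTwo.two_eq_zero)
        obtain ⟨w, hw⟩ : IsSquare (-s) := by
          rw [FiniteField.isSquare_iff hcF (neg_ne_zero.2 hs), ← neg_one_mul, mul_pow,
            (FiniteField.pow_dichotomy hcF (neg_ne_zero.2 one_ne_zero)).resolve_left
              (fun h => hι ((FiniteField.isSquare_iff hcF (neg_ne_zero.2 one_ne_zero)).2 h)),
            (FiniteField.pow_dichotomy hcF hs).resolve_left
              (fun h => hsq ((FiniteField.isSquare_iff hcF hs).2 h))]
          ring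
        have := hΓ w hP
        rwa [← hw, neg_mul_neg] at this
    obtain ⟨u, v, rfl⟩ := exists_sub_sq h2 t
    convert (hM.Tor fr.aa).sub_mem (hsq u hP) (hsq v hP) using 1
    exact LinearMap.ext fun x => by simp [sub_smul]
  obtain ⟨ι, hι⟩ := hι
  -- the part of degree two in `b + λ`
  let Y : K → Module.End F K → Module.End F K := fun b P =>
    mulL F (b * b) ∘ₗ P + P ∘ₗ mulL F (b * b) + (2 * 2 : F) • (mulL F b ∘ₗ P ∘ₗ mulL F b)
  have hY : ∀ b (P : Module.End F K) x, Y b P x
      = b * b * P x + P (b * b * x) + algebraMap F K (2 * 2) * (b * P (b * x)) := fun b P x => by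
    simp [Y, Algebra.smul_def, mul_assoc]
  have hpair : ∀ (b : K) (l : F) (P : Module.End F K) (x : K),
      conjMul ((b + algebraMap F K l) * (b + algebraMap F K l)) P x
        + conjMul ((b - algebraMap F K l) * (b - algebraMap F K l)) P x
      = 2 * (b * b * P (b * b * x)) + 2 * (algebraMap F K (l * l) * Y b P x)
        + 2 * (algebraMap F K ((l * l) * (l * l)) * P x) := by
    intro b l P x
    have e1 : (b + algebraMap F K l) * (b + algebraMap F K l) * x
        = b * b * x + (2 * l) • (b * x) + (l * l) • x := by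
      simp only [Algebra.smul_def, map_mul, map_ofNat]; ring
    have e2 : (b - algebraMap F K l) * (b - algebraMap F K l) * x
        = b * b * x - (2 * l) • (b * x) + (l * l) • x := by
      simp only [Algebra.smul_def, map_mul, map_ofNat]; ring
    rw [conjMul_apply, conjMul_apply, e1, e2, map_add, map_add, map_add, map_sub, map_smul,
      map_smul, hY]
    simp only [Algebra.smul_def, map_mul, map_ofNat]
    ring
  have hY4 : ∀ (b : K) (m : F) {P : Module.End F K}, P ∈ hM.Tor fr.aa →
      ((2 * 2) * (m * m)) • Y b P ∈ hM.Tor fr.aa := by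
    intro b m P hP
    have h := (hM.Tor fr.aa).sub_mem
      ((hM.Tor fr.aa).add_mem (hM.conjMul_mem fr hP (b + algebraMap F K m))
        (hM.conjMul_mem fr hP (b - algebraMap F K m)))
      ((hM.Tor fr.aa).add_mem (hM.conjMul_mem fr hP (b + algebraMap F K (ι * m)))
        (hM.conjMul_mem fr hP (b - algebraMap F K (ι * m))))
    convert h using 1
    refine LinearMap.ext fun x => ?_
    rw [LinearMap.sub_apply, LinearMap.add_apply, LinearMap.add_apply, hpair, hpair,
      show ι * m * (ι * m) = -(m * m) by linear_combination -(m * m) * hι,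
      LinearMap.smul_apply, Algebra.smul_def, neg_mul_neg, map_neg, map_mul, map_mul, map_ofNat]
    ring
  have hY1 : ∀ (b : K) (t : F) {P : Module.End F K}, P ∈ hM.Tor fr.aa →
      t • Y b P ∈ hM.Tor fr.aa := by
    intro b t P hP
    obtain ⟨u, v, huv⟩ := exists_sub_sq h2 (t / (2 * 2))
    rw [show t = (2 * 2) * (u * u) - (2 * 2) * (v * v) by
      rw [← mul_sub, ← huv, mul_div_cancel₀ _ h4]]
    convert (hM.Tor fr.aa).sub_mem (hY4 b u hP) (hY4 b v hP) using 1
    exact LinearMap.ext fun x => by simp [sub_smul]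
  by_cases h3 : (3 : F) = 0
  swap
  · have h6 : ((2 : F) + 2 * 2) ≠ 0 := by
      rw [show (2 : F) + 2 * 2 = 2 * 3 by ring]; exact mul_ne_zero h2 h3
    convert hY1 1 (t / (2 + 2 * 2)) hP using 1
    have hY1' : Y 1 P = ((2 : F) + 2 * 2) • P := LinearMap.ext fun x => by
      rw [hY, LinearMap.smul_apply, Algebra.smul_def]
      simp only [one_mul, map_add, map_mul, map_ofNat]
      ring
    rw [hY1', smul_smul, div_mul_cancel₀ _ h6]
  · haveI : Module.Finite F K := Module.Finite.of_finite
    obtain ⟨b, hb⟩ : ∃ b : K, b ∉ Set.range (algebraMap F K) := by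
      by_contra h
      push Not at h
      have h1 := LinearMap.finrank_le_finrank_of_surjective (f := Algebra.linearMap F K) h
      rw [Module.finrank_self] at h1
      have := hM.three_le
      omega
    let Φ : hM.Tor fr.aa →+ hM.Tor fr.aa :=
      { toFun := fun P => ⟨Y b P.1, by simpa using hY1 b 1 P.2⟩
        map_zero' := Subtype.ext (LinearMap.ext fun x => by simp [hY])
        map_add' := fun P Q => Subtype.ext (LinearMap.ext fun x => by simp [hY]; ring) }
    haveI : Finite (Module.End F K) := Finite.of_injective _ DFunLike.coe_injective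
    have hinj : Function.Injective Φ := by
      rw [injective_iff_map_eq_zero]
      intro P hP0
      refine Subtype.ext (hM.eq_zero_of_commute fr.ne_a fr.aa P.2
        (comm_of_bracket hM.deg hb fun x => ?_))
      have h := LinearMap.congr_fun (congrArg Subtype.val hP0) x
      have h3K : (3 : K) = 0 := by rw [← map_ofNat (algebraMap F K) 3, h3, map_zero]
      change Y b P.1 x = 0 at h
      rw [hY, map_mul (algebraMap F K), map_ofNat] at h
      rw [← mul_assoc b b (P.1 x), ← mul_assoc b b x]
      linear_combination h - 2 * (b * P.1 (b * x)) * h3K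
    obtain ⟨P', hP'⟩ := Finite.surjective_of_injective hinj ⟨P, hP⟩
    have hv : Y b P'.1 = P := congrArg Subtype.val hP'
    rw [← hv]
    exact hY1 b t P'.2

/-- The maps `P` as an `F`-space. -/
noncomputable def torSub (fr : Frame B F) : Submodule F (Module.End F K) where
  toAddSubmonoid := (hM.Tor fr.aa).toAddSubmonoid
  smul_mem' t _ hP := hM.mem_smul fr t hP

/-- Moving the maps `P` to another singular vector. -/
theorem tor_transport {a : V} (ha : a ≠ 0) (hs : B a a = 0) {b : V} (hb : b ≠ 0)
    (hs' : B b b = 0) {P : Module.End F K} (hP : P ∈ hM.Tor hs) (hP0 : P ≠ 0) :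
    ∃ P' ∈ hM.Tor hs', P' ≠ 0 := by
  obtain ⟨fr, rfl⟩ := hM.exists_frame ha hs
  obtain ⟨g, hg, hgl, hgB, e, he, hga⟩ := hM.exists_move fr hb hs'
  obtain ⟨w, hw, hwx⟩ := hP
  refine ⟨conjMul e P, ⟨g * w * g⁻¹, mul_mem (mul_mem hg hw) (inv_mem hg), fun x => ?_⟩,
    fun h => hP0 (LinearMap.ext fun y => ?_)⟩
  · show g (w (g⁻¹ x)) = _
    have hgi : g (g⁻¹ x) = x := g.apply_symm_apply x
    rw [hwx, map_add, hgi, hgl, hga, smul_smul, conjMul_apply, ← hgB (g⁻¹ x) fr.a, hgi, hga,
      map_smul, smul_eq_mul, mul_comm (P _)]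
  · have := LinearMap.congr_fun h (y / e)
    rw [conjMul_apply, mul_div_cancel₀ _ he] at this
    simpa [he] using this

/-- The values of the maps `P` at `c`. -/
noncomputable def evalAt (fr : Frame B F) (c : K) : hM.torSub fr →ₗ[F] K :=
  (LinearMap.applyₗ c).comp (hM.torSub fr).subtype

lemma evalAt_apply (fr : Frame B F) (c : K) (P : hM.torSub fr) : hM.evalAt fr c P = P.1 c := rfl

/-- Away from zero the values fill a hyperplane. -/
theorem finrank_evalAt (fr : Frame B F) (hne : ∃ P ∈ hM.Tor fr.aa, P ≠ 0) {c : K} (hc : c ≠ 0) :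
    finrank F (LinearMap.range (hM.evalAt fr c)) + 1 = finrank F K := by
  haveI : Module.Finite F K := Module.Finite.of_finite
  set tr := Algebra.trace F K
  let Z : K → Submodule F K := fun c =>
    { carrier := {m | ∀ P ∈ hM.Tor fr.aa, tr (P c * m) = 0}
      zero_mem' := fun P _ => by simp
      add_mem' := fun {m n} hm hn P hP => by rw [mul_add, map_add, hm P hP, hn P hP, add_zero]
      smul_mem' := fun t m hm P hP => by rw [mul_smul_comm, map_smul, hm P hP, smul_zero] }
  have memZ : ∀ {c m}, m ∈ Z c ↔ ∀ P ∈ hM.Tor fr.aa, tr (P c * m) = 0 := fun {c m} => Iff.rfl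
  have hscale : ∀ e c m : K, m ∈ Z c → e * m ∈ Z (e * c) := by
    intro e c m hm P hP
    by_cases he : e = 0
    · simp [he]
    obtain ⟨s, k, hk, hs⟩ := hM.exists_sq_rep he
    have he' : e = algebraMap F K s * (k⁻¹ * k⁻¹) := by rw [← hs]; field_simp
    have h := hm _ (hM.conjMul_mem fr hP k⁻¹)
    rw [conjMul_apply] at h
    have e' : P (e * c) * (e * m) = (s * s) • (k⁻¹ * k⁻¹ * P (k⁻¹ * k⁻¹ * c) * m) := by
      rw [he', mul_assoc (algebraMap F K s) _ c, ← Algebra.smul_def, map_smul]
      simp only [Algebra.smul_def, map_mul]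
      ring
    rw [e', map_smul, h, smul_zero]
  have hsymm : ∀ c m, m ∈ Z c → c ∈ Z m := fun c m hm P hP => by
    have := hM.skew_of_mem fr.ne_a fr.aa hP c m
    rw [hm P hP, mul_comm c, eq_comm, neg_eq_zero] at this
    exact this
  have hself : ∀ c, c ∈ Z c := fun c P hP => by
    have := hM.skew_of_mem fr.ne_a fr.aa hP c c
    rw [mul_comm c] at this
    have h' : (2 : F) * tr (P c * c) = 0 := by linear_combination this
    exact (mul_eq_zero.1 h').resolve_left hM.twoF
  have hinv : ∀ x ∈ Z 1, x⁻¹ ∈ Z 1 := fun x hx => by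
    by_cases hx0 : x = 0
    · rw [hx0, inv_zero]; exact zero_mem _
    have := hscale x⁻¹ _ _ (hsymm _ _ hx)
    rwa [inv_mul_cancel₀ hx0, mul_one] at this
  have hsq : ∀ x ∈ Z 1, x * x ∈ Z 1 := fun x hx => by
    by_cases hx0 : x = 0
    · rw [hx0, mul_zero]; exact zero_mem _
    by_cases hx1 : x = 1
    · rw [hx1, one_mul]; exact hself 1
    have h1 : 1 - x ≠ 0 := sub_ne_zero.2 (Ne.symm hx1)
    have e : x * x = x - (x⁻¹ + (1 - x)⁻¹)⁻¹ := by
      rw [show x⁻¹ + (1 - x)⁻¹ = (x * (1 - x))⁻¹ by field_simp; ring, inv_inv]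
      ring
    rw [e]
    exact (Z 1).sub_mem hx (hinv _ ((Z 1).add_mem (hinv x hx) (hinv _ ((Z 1).sub_mem (hself 1) hx))))
  let S : Subalgebra F K :=
    { carrier := Z 1
      mul_mem' := fun {x y} hx hy => by
        have h := (Z 1).smul_mem (2 : F)⁻¹ ((Z 1).sub_mem ((Z 1).sub_mem (hsq _ ((Z 1).add_mem hx hy))
          (hsq x hx)) (hsq y hy))
        have e : (2 : F)⁻¹ • ((x + y) * (x + y) - x * x - y * y) = x * y := by
          rw [Algebra.smul_def, map_inv₀, map_ofNat]
          field_simp [hM.two]
          ring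
        rwa [e] at h
      add_mem' := (Z 1).add_mem
      algebraMap_mem' := fun t => by
        rw [Algebra.algebraMap_eq_smul_one]; exact (Z 1).smul_mem t (hself 1) }
  have hZc : Z c = F ∙ c := by
    refine le_antisymm (fun m hm => ?_) ((Submodule.span_singleton_le_iff_mem c _).2 (hself c))
    have h1 := hscale c⁻¹ _ _ hm
    rw [inv_mul_cancel₀ hc] at h1
    by_contra hmc
    have hnot : c⁻¹ * m ∉ Set.range (algebraMap F K) := by
      rintro ⟨t, ht⟩
      exact hmc (Submodule.mem_span_singleton.2 ⟨t, by rw [Algebra.smul_def, ht]; field_simp⟩)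
    have htop := adjoin_eq_top hM.deg hnot S h1
    obtain ⟨P, hP, hP0⟩ := hne
    refine hP0 (LinearMap.ext fun x => lam_ext hM.lam_ne fun k => ?_)
    rw [LinearMap.zero_apply, mul_zero, map_zero, mul_comm]
    by_cases hx : x = 0
    · rw [hx, map_zero, zero_mul, map_zero]
    have h3 : x⁻¹ * k ∈ Z 1 := (htop ▸ Algebra.mem_top : x⁻¹ * k ∈ S)
    have h4 := hscale x _ _ h3
    rw [mul_one, mul_inv_cancel_left₀ hx] at h4
    exact h4 P hP
  set I := LinearMap.range (hM.evalAt fr c)
  let Φ : K →ₗ[F] Dual F I := LinearMap.mk₂ F (fun m (y : I) => tr (y.1 * m))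
    (fun a b l => by simp [mul_add]) (fun t a l => by simp [mul_smul_comm])
    (fun m a b => by simp [add_mul]) (fun t m a => by simp [smul_mul_assoc])
  have hker : LinearMap.ker Φ = Z c := by
    ext m
    constructor
    · intro h P hP
      exact LinearMap.congr_fun h ⟨P c, ⟨⟨P, hP⟩, rfl⟩⟩
    · intro h
      refine LinearMap.ext fun y => ?_
      obtain ⟨P, hy⟩ := y.2
      show tr (y.1 * m) = 0
      rw [← hy]
      exact h P.1 P.2
  have hsurj : Function.Surjective Φ := by
    intro ψ
    obtain ⟨ψ', hψ'⟩ := LinearMap.exists_extend ψ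
    obtain ⟨m, hm⟩ := lam_repr hM.lam_ne ψ'
    refine ⟨m, LinearMap.ext fun y => ?_⟩
    show tr (y.1 * m) = ψ y
    rw [← LinearMap.congr_fun hψ' y, mul_comm]
    exact (hm y.1).symm
  have h1 := LinearMap.finrank_range_add_finrank_ker Φ
  rw [LinearMap.range_eq_top.2 hsurj, finrank_top, Subspace.dual_finrank_eq, hker, hZc,
    finrank_span_singleton hc] at h1
  exact h1

end OrThree

end Cfsg.Agent.FieldExtMax
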