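/-
Three-dimensional case with a non-zero map `P`: two images of a singular line meet properly and,
for a largest intersection, perpendicularly.

Main results: `OrThree.exists_kernel`, `OrThree.perp_of_one`, `OrThree.exists_perp_pair`,
`OrThree.trs_of_tor`.
-/
import Cfsg.Agent.Lib.FieldExtMax.Three.Tor
import Cfsg.Agent.Lib.FieldExtMax.OrLines
import Mathlib.LinearAlgebra.Matrix.ToLinearEquiv

set_option autoImplicit false
set_option linter.unusedSectionVars false

namespace Cfsg.Agent.FieldExtMax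

open Module

variable {F K V : Type*} [Field F] [Finite F] [Field K] [Finite K] [Algebra F K]
  [AddCommGroup V] [Module F V] [Module K V] [IsScalarTower F K V] [Finite V]
variable {B : V →ₗ[K] V →ₗ[K] K} {M : Subgroup (V ≃ₗ[F] V)}

namespace OrThree

variable (hM : OrThree B M)
include hM

/-- A skew map in odd degree has a kernel. -/
lemma exists_kernel {a : V} (ha : a ≠ 0) (hs : B a a = 0) {P : Module.End F K}
    (hP : P ∈ hM.Tor hs) : ∃ κ : K, κ ≠ 0 ∧ P κ = 0 := by
  classical
  haveI : Module.Finite F K := Module.Finite.of_finite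
  set b := Module.finBasis F K
  let A : Matrix (Fin (finrank F K)) (Fin (finrank F K)) F :=
    fun i j => Algebra.trace F K (P (b i) * b j)
  have hA : A.transpose = -A := by
    ext i j
    show Algebra.trace F K (P (b j) * b i) = -Algebra.trace F K (P (b i) * b j)
    rw [hM.skew_of_mem ha hs hP (b j) (b i), mul_comm (b j)]
  have hdet : A.det = 0 := by
    have h := congrArg Matrix.det hA
    rw [Matrix.det_transpose, Matrix.det_neg, Fintype.card_fin, hM.deg_odd.neg_one_pow,
      neg_one_mul] at h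
    have h' : (2 : F) * A.det = 0 := by linear_combination h
    exact (mul_eq_zero.1 h').resolve_left hM.twoF
  obtain ⟨v, hv0, hv⟩ := Matrix.exists_mulVec_eq_zero_iff.2 hdet
  refine ⟨∑ j, v j • b j, fun h => hv0 (funext fun j =>
    Fintype.linearIndependent_iff.1 b.linearIndependent v h j), ?_⟩
  have hperp : ∀ i, Algebra.trace F K (P (b i) * ∑ j, v j • b j) = 0 := fun i => by
    have h1 := congrFun hv i
    simp only [Matrix.mulVec, dotProduct, A, Pi.zero_apply] at h1
    rw [Finset.mul_sum, map_sum, ← h1]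
    exact Finset.sum_congr rfl fun j _ => by rw [mul_smul_comm, map_smul, smul_eq_mul, mul_comm]
  refine lam_ext hM.lam_ne fun k => ?_
  rw [mul_zero, map_zero]
  have h2 := hM.skew_of_mem ha hs hP (∑ j, v j • b j) k
  have h3 : Algebra.trace F K (P k * ∑ j, v j • b j) = 0 := by
    let χ : Dual F K := Algebra.trace F K ∘ₗ mulL F (∑ j, v j • b j) ∘ₗ P
    have hχ : χ = 0 := b.ext fun i => by
      show Algebra.trace F K (_ * P (b i)) = 0
      rw [mul_comm]
      exact hperp i
    rw [mul_comm]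
    exact LinearMap.congr_fun hχ k
  rw [mul_comm] at h3
  rw [h3, neg_zero, mul_comm] at h2
  exact h2

/-- Two images of a singular line meet properly. -/
lemma exists_meet (fr : Frame B F) (hne : ∃ P ∈ hM.Tor fr.aa, P ≠ 0) :
    ∃ g ∈ M, img K fr.a g ≠ line F K fr.a ∧ img K fr.a g ⊓ line F K fr.a ≠ ⊥ := by
  obtain ⟨P, hP, hP0⟩ := hne
  obtain ⟨P', hP', hP'0⟩ := hM.tor_transport fr.ne_a fr.aa fr.ne_a' fr.a'a' hP hP0
  obtain ⟨κ, hκ, hκ0⟩ := hM.exists_kernel fr.ne_a' fr.a'a' hP'
  obtain ⟨g, hg, hgx⟩ := hP'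
  have hga : ∀ l : K, g (l • fr.a) = l • fr.a + P' l • fr.a' := fun l => by
    rw [hgx, map_smul, LinearMap.smul_apply, fr.aa', smul_eq_mul, mul_one]
  refine ⟨g, hg, fun h => hP'0 (LinearMap.ext fun l => ?_), fun h => ?_⟩
  · have h1 : g (l • fr.a) ∈ line F K fr.a := h ▸ ⟨l • fr.a, mem_line.2 ⟨l, rfl⟩, rfl⟩
    obtain ⟨c, hc⟩ := mem_line.1 h1
    have := congrArg (fun x => B x fr.a) hc
    simp [hga, fr.aa, fr.a'a] at this
    simp [← this]
  · have h1 : κ • fr.a ∈ img K fr.a g ⊓ line F K fr.a :=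
      ⟨⟨κ • fr.a, mem_line.2 ⟨κ, rfl⟩, by show g (κ • fr.a) = _; rw [hga, hκ0, zero_smul, add_zero]⟩,
        mem_line.2 ⟨κ, rfl⟩⟩
    rw [h, Submodule.mem_bot, smul_eq_zero] at h1
    exact h1.elim hκ fr.ne_a

/-- Kernels are no larger than the largest intersection. -/
lemma finrank_ker_le (fr : Frame B F) {w : ℕ}
    (hmax : ∀ h ∈ M, img K fr.a h ≠ line F K fr.a →
      finrank F (img K fr.a h ⊓ line F K fr.a : Submodule F V) ≤ w)
    {P : Module.End F K} (hP : P ∈ hM.Tor fr.aa) (hP0 : P ≠ 0) :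
    finrank F (LinearMap.ker P) ≤ w := by
  haveI : Module.Finite F V := Module.Finite.of_finite
  haveI : Module.Finite F K := Module.Finite.of_finite
  obtain ⟨m, hm, hml, -, e, he, hma⟩ := hM.exists_move fr fr.ne_a' fr.a'a'
  obtain ⟨t, ht, htx⟩ := hP
  have hta : ∀ l : K, t (l • fr.a') = l • fr.a' + P l • fr.a := fun l => by
    rw [htx, map_smul, LinearMap.smul_apply, fr.a'a, smul_eq_mul, mul_one]
  have himg : img K fr.a m = line F K fr.a' := by
    ext y
    constructor
    · rintro ⟨z, hz, rfl⟩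
      obtain ⟨l, rfl⟩ := mem_line.1 hz
      exact mem_line.2 ⟨l * e, by show _ = m (l • fr.a); rw [hml, hma, smul_smul]⟩
    · intro hy
      obtain ⟨l, rfl⟩ := mem_line.1 hy
      exact ⟨(l / e) • fr.a, mem_line.2 ⟨_, rfl⟩,
        by show m ((l / e) • fr.a) = _; rw [hml, hma, smul_smul, div_mul_cancel₀ _ he]⟩
  have hne : img K fr.a (m⁻¹ * (t * m)) ≠ line F K fr.a := fun h => hP0 (LinearMap.ext fun l => by
    have h1 := congrArg (Submodule.map (m : V →ₗ[F] V)) h
    rw [← img_mul, mul_inv_cancel_left] at h1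
    have h2 : t (l • fr.a') ∈ img K fr.a m := by
      show _ ∈ (line F K fr.a).map (m : V →ₗ[F] V)
      rw [← h1, img_mul]
      exact ⟨l • fr.a', by rw [himg]; exact mem_line.2 ⟨l, rfl⟩, rfl⟩
    rw [himg] at h2
    obtain ⟨c, hc⟩ := mem_line.1 h2
    have := congrArg (fun x => B x fr.a') hc
    simp [hta, fr.a'a', fr.aa'] at this
    simp [← this])
  have h3 := hmax _ (mul_mem (inv_mem hm) (mul_mem ht hm)) hne
  rw [← finrank_img_inf] at h3
  refine le_trans ?_ h3
  let f : LinearMap.ker P →ₗ[F] V :=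
    (LinearMap.toSpanSingleton K V fr.a').restrictScalars F ∘ₗ (LinearMap.ker P).subtype
  have hf : Function.Injective f := fun x y h => Subtype.ext (smul_inj fr.ne_a' h)
  rw [← LinearMap.finrank_range_of_inj hf]
  refine Submodule.finrank_mono ?_
  rintro _ ⟨⟨x, hx⟩, rfl⟩
  have hxl : x • fr.a' ∈ img K fr.a m := by rw [himg]; exact mem_line.2 ⟨x, rfl⟩
  refine ⟨?_, hxl⟩
  rw [img_mul]
  exact ⟨x • fr.a', hxl, by
    show t (x • fr.a') = _
    rw [hta, LinearMap.mem_ker.1 hx, zero_smul, add_zero]; rfl⟩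

/-- Elements fixing the line and keeping one further vector of a largest pair keep the image. -/
lemma stab_of_fix (fr : Frame B F) {g m : V ≃ₗ[F] V} (hg : g ∈ M) (hm : m ∈ M)
    (hmax : ∀ h ∈ M, img K fr.a h ≠ line F K fr.a →
      finrank F (img K fr.a h ⊓ line F K fr.a : Submodule F V)
        ≤ finrank F (img K fr.a g ⊓ line F K fr.a : Submodule F V))
    (hline : ∀ x ∈ line F K fr.a, m x = x) {y : V} (hy : y ∈ img K fr.a g)
    (hyl : y ∉ line F K fr.a) (hmy : m y ∈ img K fr.a g) :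
    ∀ x ∈ img K fr.a g, m x ∈ img K fr.a g := by
  haveI : Module.Finite F V := Module.Finite.of_finite
  intro x hx
  have heq : img K fr.a (m * g) = img K fr.a g := by
    by_contra hne
    have h1 : img K fr.a (g⁻¹ * (m * g)) ≠ line F K fr.a := fun h => hne (by
      have := congrArg (Submodule.map (g : V →ₗ[F] V)) h
      rw [← img_mul, mul_inv_cancel_left] at this
      exact this)
    have h2 := hmax _ (mul_mem (inv_mem hg) (mul_mem hm hg)) h1
    rw [← finrank_img_inf] at h2
    have h3 : img K fr.a g ⊓ line F K fr.a < img K fr.a (m * g) ⊓ img K fr.a g := by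
      refine lt_of_le_of_ne (le_inf (fun v hv => ?_) inf_le_left) fun h => hyl ?_
      · rw [img_mul]; exact ⟨v, hv.1, hline v hv.2⟩
      · have h4 : m y ∈ img K fr.a (m * g) ⊓ img K fr.a g :=
          ⟨by rw [img_mul]; exact ⟨y, hy, rfl⟩, hmy⟩
        rw [← h] at h4
        have h5 := m.injective (hline _ h4.2)
        exact h5 ▸ h4.2
    exact absurd h2 (not_le.2 (Submodule.finrank_lt_finrank_of_lt h3))
  rw [← heq, img_mul]
  exact ⟨x, hx, rfl⟩

/-- One perpendicular vector off the line makes a largest pair perpendicular. -/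
theorem perp_of_one (fr : Frame B F) {g : V ≃ₗ[F] V} (hg : g ∈ M)
    (hne : img K fr.a g ≠ line F K fr.a) (hmeet : img K fr.a g ⊓ line F K fr.a ≠ ⊥)
    (hmax : ∀ h ∈ M, img K fr.a h ≠ line F K fr.a →
      finrank F (img K fr.a h ⊓ line F K fr.a : Submodule F V)
        ≤ finrank F (img K fr.a g ⊓ line F K fr.a : Submodule F V))
    (hne0 : ∃ P ∈ hM.Tor fr.aa, P ≠ 0) {y₀ : V} (hy₀ : y₀ ∈ img K fr.a g) (hy₀l : y₀ ∉ line F K fr.a) (hy₀a : B y₀ fr.a = 0) :
    ∀ x ∈ img K fr.a g, B x fr.a = 0 := by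
  haveI : Module.Finite F V := Module.Finite.of_finite
  haveI : Module.Finite F K := Module.Finite.of_finite
  set X := img K fr.a g with hX
  by_contra hcon
  push Not at hcon
  obtain ⟨x₀, hx₀, hx₀a⟩ := hcon
  let sp : K →ₗ[F] V := (LinearMap.toSpanSingleton K V fr.a).restrictScalars F
  let W' : Submodule F K := X.comap sp
  have hW' : ∀ {l}, l ∈ W' ↔ l • fr.a ∈ X := fun {l} => Iff.rfl
  have hψ : ∀ y, B y fr.a = 0 → B y fr.z = 0 → y ∈ line F K fr.a := fun y h1 h2 => by
    rw [fr.dec y, h1, h2, zero_smul, zero_div, zero_smul, add_zero, add_zero]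
    exact mem_line.2 ⟨_, rfl⟩
  have hy₀z : B y₀ fr.z ≠ 0 := fun h => hy₀l (hψ _ hy₀a h)
  have hu : ∀ k y, B y fr.a = 0 → fr.u k y - y = -((k * B y fr.z) • fr.a) := fun k y h => by
    rw [fr.u_apply, h]
    simp
  have hstab : ∀ k, k * B y₀ fr.z ∈ W' → ∀ x ∈ X, fr.u k x ∈ X := by
    intro k hk
    refine hM.stab_of_fix fr hg (hM.u_mem fr k) hmax (fun x hx => fr.u_line k hx) hy₀ hy₀l ?_
    have := X.add_mem hy₀ (X.neg_mem (hW'.1 hk))
    rwa [← hu k y₀ hy₀a, add_sub_cancel] at this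
  let S : Submodule F K :=
    { carrier := {s | ∀ y ∈ X, B y fr.a = 0 → s * B y fr.z ∈ W'}
      zero_mem' := fun y _ _ => by rw [zero_mul]; exact W'.zero_mem
      add_mem' := fun {s t} hs ht y hy hya => by
        rw [add_mul]; exact W'.add_mem (hs y hy hya) (ht y hy hya)
      smul_mem' := fun c s hs y hy hya => by
        rw [smul_mul_assoc]; exact W'.smul_mem c (hs y hy hya) }
  have hS : ∀ k, k * B y₀ fr.z ∈ W' → k ∈ S := fun k hk y hy hya => by
    have h1 := X.neg_mem (X.sub_mem (hstab k hk y hy) hy)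
    rw [hu k y hya, neg_neg] at h1
    exact h1
  let Y : Submodule F V := X ⊓ LinearMap.ker ((B.flip fr.a).restrictScalars F)
  let A : Submodule F K := Y.map ((B.flip fr.z).restrictScalars F)
  have hA0 : A ≠ ⊥ := (Submodule.ne_bot_iff _).2 ⟨_, ⟨y₀, ⟨hy₀, hy₀a⟩, rfl⟩, hy₀z⟩
  set w := finrank F (X ⊓ line F K fr.a : Submodule F V) with hw
  have hW'dim : finrank F W' = w := by
    have hmapW : W'.map sp = X ⊓ line F K fr.a := by
      rw [Submodule.map_comap_eq, inf_comm]; rfl
    rw [hw, (Submodule.equivMapOfInjective sp (fun _ _ h => smul_inj fr.ne_a h) W').finrank_eq,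
      hmapW]
  have hw1 : 1 ≤ w := Nat.one_le_iff_ne_zero.2 fun h => hmeet (Submodule.finrank_eq_zero.1 h)
  have hwr : w < finrank F K := by
    by_contra h
    push Not at h
    have h1 : X ⊓ line F K fr.a = X :=
      Submodule.eq_of_le_of_finrank_le inf_le_left (by rw [hX, finrank_img fr.ne_a]; exact h)
    exact hne (Submodule.eq_of_le_of_finrank_eq (inf_eq_left.1 h1)
      (by rw [hX, finrank_img fr.ne_a, finrank_line fr.ne_a]))
  have hSw : w ≤ finrank F S := by
    rw [← hW'dim]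
    refine LinearMap.finrank_le_finrank_of_injective (f := ((mulL F (B y₀ fr.z)⁻¹).domRestrict
      W').codRestrict S fun l => hS _ (by
        show (B y₀ fr.z)⁻¹ * l.1 * B y₀ fr.z ∈ W'
        rw [inv_mul_eq_div, div_mul_cancel₀ _ hy₀z]; exact l.2)) ?_
    intro l l' h
    exact Subtype.ext (mul_left_cancel₀ (inv_ne_zero hy₀z) (congrArg Subtype.val h))
  have hS0 : S ≠ ⊥ := fun h => by rw [h, finrank_bot] at hSw; omega
  have hpb := product_bound hM.deg (A := S) (B := A) (W := W') hS0 hA0 (by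
    rintro s hs _ ⟨y, hy, rfl⟩
    exact hs y hy.1 hy.2)
  rw [hW'dim] at hpb
  have hA1 : finrank F A = 1 := by
    have : 1 ≤ finrank F A := Nat.one_le_iff_ne_zero.2 fun h => hA0 (Submodule.finrank_eq_zero.1 h)
    omega
  have hαA : ∀ k, k * B y₀ fr.z ∈ W' → ∀ x ∈ X, k * B x fr.a * algebraMap F K fr.δ ∈ A := by
    intro k hk x hx
    have hk' : -k * B y₀ fr.z ∈ W' := by rw [neg_mul]; exact W'.neg_mem hk
    set y := (2 : F)⁻¹ • (fr.u k x - fr.u (-k) x)
    have hy : y ∈ X := X.smul_mem _ (X.sub_mem (hstab k hk x hx) (hstab _ hk' x hx))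
    have hya : B y fr.a = 0 := by
      simp [y, LinearMap.map_smul_of_tower, (fr.u_coord _ _).2.1]
    refine ⟨y, ⟨hy, hya⟩, ?_⟩
    show B y fr.z = _
    simp only [y, LinearMap.map_smul_of_tower, LinearMap.smul_apply, map_sub, LinearMap.sub_apply,
      (fr.u_coord _ _).2.2, Algebra.smul_def, map_inv₀, map_ofNat]
    field_simp [hM.two]
    ring
  -- the product bound forces `w = 1`
  have hSA : ∀ k, k * B y₀ fr.z ∈ W' → k ∈ A.comap (mulL F (B x₀ fr.a * algebraMap F K fr.δ)) :=
    fun k hk => by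
      show _ * k ∈ A
      rw [mul_comm, ← mul_assoc]
      exact hαA k hk x₀ hx₀
  have hw_one : w = 1 := by
    refine le_antisymm ?_ hw1
    rw [← hW'dim, ← hA1]
    refine LinearMap.finrank_le_finrank_of_injective (f := ((mulL F (B x₀ fr.a * algebraMap F K fr.δ
      * (B y₀ fr.z)⁻¹)).domRestrict W').codRestrict A fun l => by
        show B x₀ fr.a * algebraMap F K fr.δ * (B y₀ fr.z)⁻¹ * l.1 ∈ A
        rw [mul_assoc]
        refine hSA _ ?_
        rw [inv_mul_eq_div, div_mul_cancel₀ _ hy₀z]; exact l.2) ?_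
    intro l l' h
    exact Subtype.ext (mul_left_cancel₀ (mul_ne_zero (mul_ne_zero hx₀a fr.δK)
      (inv_ne_zero hy₀z)) (congrArg Subtype.val h))
  -- so the pair would be too small
  have hle : LinearMap.range (hM.evalAt fr (B x₀ fr.a)) ≤ W' := by
    rintro _ ⟨⟨P, hP⟩, rfl⟩
    obtain ⟨t, ht, htx⟩ : ∃ t ∈ M, ∀ x, t x = x + P (B x fr.a) • fr.a := hP
    have htl : ∀ x ∈ line F K fr.a, t x = x := fun x hx => by
      obtain ⟨l, rfl⟩ := mem_line.1 hx
      rw [htx, map_smul, LinearMap.smul_apply, fr.aa, smul_zero, map_zero, zero_smul, add_zero]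
    have hst := hM.stab_of_fix fr hg ht hmax htl hy₀ hy₀l (by
      rw [htx, hy₀a, map_zero, zero_smul, add_zero]; exact hy₀)
    have h1 := X.sub_mem (hst x₀ hx₀) hx₀
    rw [htx, add_sub_cancel_left] at h1
    exact hW'.2 h1
  have h1 := hM.finrank_evalAt fr hne0 hx₀a
  have h2 := Submodule.finrank_mono hle
  rw [hW'dim, hw_one] at h2
  have := hM.three_le
  omega

/-- A largest pair that is perpendicular. -/
theorem exists_perp_pair (fr : Frame B F) (hne : ∃ P ∈ hM.Tor fr.aa, P ≠ 0) :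
    ∃ g ∈ M, img K fr.a g ≠ line F K fr.a ∧ img K fr.a g ⊓ line F K fr.a ≠ ⊥ ∧
      (∀ h ∈ M, img K fr.a h ≠ line F K fr.a →
        finrank F (img K fr.a h ⊓ line F K fr.a : Submodule F V)
          ≤ finrank F (img K fr.a g ⊓ line F K fr.a : Submodule F V)) ∧
      ∀ x ∈ img K fr.a g, B x fr.a = 0 := by
  classical
  haveI : Module.Finite F V := Module.Finite.of_finite
  haveI : Module.Finite F K := Module.Finite.of_finite
  obtain ⟨g₁, hg₁, hne₁, hbot₁⟩ := hM.exists_meet fr hne
  haveI : Finite (V ≃ₗ[F] V) := Finite.of_injective _ DFunLike.coe_injective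
  letI := Fintype.ofFinite (V ≃ₗ[F] V)
  let bad := Finset.univ.filter fun g => g ∈ M ∧ img K fr.a g ≠ line F K fr.a
  obtain ⟨g, hg, hmax⟩ := Finset.exists_max_image bad
    (fun g => finrank F (img K fr.a g ⊓ line F K fr.a : Submodule F V))
    ⟨g₁, by simp [bad, hg₁, hne₁]⟩
  obtain ⟨hgM, hgne⟩ := (Finset.mem_filter.1 hg).2
  have hmax' := fun h (hh : h ∈ M) (hhne : img K fr.a h ≠ line F K fr.a) =>
    hmax h (Finset.mem_filter.2 ⟨Finset.mem_univ _, hh, hhne⟩)
  have hmeet : img K fr.a g ⊓ line F K fr.a ≠ ⊥ := fun h => hbot₁ (by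
    have := hmax' g₁ hg₁ hne₁
    rw [h, finrank_bot] at this
    exact Submodule.finrank_eq_zero.1 (Nat.le_zero.1 this))
  by_cases hone : ∃ y ∈ img K fr.a g, y ∉ line F K fr.a ∧ B y fr.a = 0
  · obtain ⟨y, hy, hyl, hya⟩ := hone
    exact ⟨g, hgM, hgne, hmeet, hmax', hM.perp_of_one fr hgM hgne hmeet hmax' hne hy hyl hya⟩
  push Not at hone
  have hnoz : ∀ y ∈ img K fr.a g, B y fr.a = 0 → y ∈ line F K fr.a := fun y hy hya =>
    by_contra fun hyl => hone y hy hyl hya
  set tr := Algebra.trace F K with htr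
  set L' := img K fr.a g with hL'
  set W := L' ⊓ line F K fr.a with hW
  set w := finrank F W with hw
  have hL'r : finrank F L' = finrank F K := finrank_img fr.ne_a g
  let sp : K →ₗ[F] V := (LinearMap.toSpanSingleton K V fr.a).restrictScalars F
  have hspinj : Function.Injective sp := fun _ _ h => smul_inj fr.ne_a h
  let W' : Submodule F K := L'.comap sp
  have hmapW : W'.map sp = W := by
    rw [Submodule.map_comap_eq, inf_comm]; rfl
  have hW'dim : finrank F W' = w := by
    rw [hw, (Submodule.equivMapOfInjective sp hspinj W').finrank_eq, hmapW]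
  let α : L' →ₗ[F] K := ((B.flip fr.a).restrictScalars F).domRestrict L'
  have hαker : finrank F (LinearMap.ker α) = w := by
    refine le_antisymm ?_ ?_
    · refine LinearMap.finrank_le_finrank_of_injective (f := (L'.subtype.comp
        (LinearMap.ker α).subtype).codRestrict W fun v => ⟨v.1.2, hnoz _ v.1.2 v.2⟩) ?_
      intro v v' h
      exact Subtype.ext (Subtype.ext (congrArg (Subtype.val : W → V) h))
    · refine LinearMap.finrank_le_finrank_of_injective (f := ((Submodule.inclusion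
        (inf_le_left : W ≤ L')).codRestrict (LinearMap.ker α) fun v => by
          obtain ⟨l, hl⟩ := mem_line.1 v.2.2
          show B v.1 fr.a = 0
          rw [← hl, map_smul, LinearMap.smul_apply, fr.aa, smul_zero])) ?_
      intro v v' h
      exact Subtype.ext (congrArg (fun u => u.1.1) h)
  set A₀ := LinearMap.range α
  have hA₀dim : finrank F A₀ + w = finrank F K := by
    rw [← hL'r, ← hαker]; exact LinearMap.finrank_range_add_finrank_ker α
  have horth : ∀ l ∈ W', ∀ y ∈ L', tr (l * B y fr.a) = 0 := fun l hl y hy => by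
    have h := hM.lam_img fr.aa hgM (x := y) (y := l • fr.a) hy hl
    rwa [map_smul, smul_eq_mul] at h
  -- `W'` is everything orthogonal to the products
  have hback : ∀ m, (∀ y ∈ L', tr (m * B y fr.a) = 0) → m ∈ W' := by
    let Φ : K →ₗ[F] Dual F A₀ := LinearMap.mk₂ F (fun m (y : A₀) => tr (m * y.1))
      (fun a b l => by simp [add_mul]) (fun t a l => by simp [smul_mul_assoc])
      (fun m a b => by simp [mul_add]) (fun t m a => by simp [mul_smul_comm])
    have hsurj : Function.Surjective Φ := by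
      intro ψ
      obtain ⟨ψ', hψ'⟩ := LinearMap.exists_extend ψ
      obtain ⟨m, hm⟩ := lam_repr hM.lam_ne ψ'
      exact ⟨m, LinearMap.ext fun y => (hm y.1).symm.trans (LinearMap.congr_fun hψ' y)⟩
    have h1 := LinearMap.finrank_range_add_finrank_ker Φ
    rw [LinearMap.range_eq_top.2 hsurj, finrank_top, Subspace.dual_finrank_eq] at h1
    have hle : W' ≤ LinearMap.ker Φ := fun l hl => LinearMap.ext fun ⟨_, y, rfl⟩ =>
      horth l hl y.1 y.2
    have heq := Submodule.eq_of_le_of_finrank_le hle (by omega)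
    intro m hm
    rw [heq]
    exact LinearMap.ext fun ⟨_, y, rfl⟩ => hm y.1 y.2
  have hw1 : 1 ≤ w := Nat.one_le_iff_ne_zero.2 fun h => hmeet (Submodule.finrank_eq_zero.1 h)
  have hwr : w < finrank F K := by
    by_contra h
    push Not at h
    have h1 : W = L' := Submodule.eq_of_le_of_finrank_le inf_le_left (by omega)
    exact hgne (Submodule.eq_of_le_of_finrank_eq (inf_eq_left.1 h1)
      (by rw [finrank_line fr.ne_a]; exact hL'r))
  have hA₀0 : A₀ ≠ ⊥ := fun h => by rw [h, finrank_bot] at hA₀dim; omega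
  by_cases hw_one : w = 1 ∧ 4 ≤ finrank F K
  · obtain ⟨hw_one, hr4⟩ := hw_one
    -- a map with kernel in the products fixes too much
    exfalso
    obtain ⟨P, hP, hP0⟩ := hne
    obtain ⟨κ, hκ, hPκ⟩ := hM.exists_kernel fr.ne_a fr.aa hP
    obtain ⟨κ₀, hκ₀, hκ₀0⟩ : ∃ κ₀ ∈ W', κ₀ ≠ 0 := (Submodule.ne_bot_iff _).1 fun h => by
      rw [h, finrank_bot] at hW'dim; omega
    set b := Module.finBasis F K
    obtain ⟨c, hc0, hc⟩ := exists_common_zero (d := 1) (fun _ _ => (0 : F))
      (fun _ j k => tr (κ₀ * κ * (b j * b k))) (by have := hM.three_le; omega)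
    set t := ∑ j, c j • b j with ht
    have ht0 : t ≠ 0 := fun h => hc0 (funext fun j =>
      Fintype.linearIndependent_iff.1 b.linearIndependent c h j)
    have htt : tr (κ₀ * (κ * (t * t))) = 0 := by
      have h := hc 0
      simp only [zero_mul, Finset.sum_const_zero, zero_sub, neg_eq_zero] at h
      rw [← h, ← mul_assoc, ht]
      simp only [Finset.sum_mul, Finset.mul_sum, mul_smul_comm, smul_mul_assoc, Finset.smul_sum,
        map_sum, map_smul, smul_eq_mul]
      refine Finset.sum_comm.trans (Finset.sum_congr rfl fun j _ =>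
        Finset.sum_congr rfl fun k _ => ?_)
      ring_nf
    have hW'1 : W' = F ∙ κ₀ := (Submodule.eq_of_le_of_finrank_le
      ((Submodule.span_singleton_le_iff_mem _ _).2 hκ₀)
      (by rw [finrank_span_singleton hκ₀0]; omega)).symm
    obtain ⟨x, hxα⟩ : κ * (t * t) ∈ A₀ := by
      let Φ : K →ₗ[F] Dual F K := LinearMap.mk₂ F (fun m y => tr (m * y))
        (fun a b l => by simp [add_mul]) (fun s a l => by simp [smul_mul_assoc])
        (fun m a b => by simp [mul_add]) (fun s m a => by simp [mul_smul_comm])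
      have hle : A₀ ≤ LinearMap.ker (Φ κ₀) := fun m ⟨y, hy⟩ => hy ▸ horth κ₀ hκ₀ y.1 y.2
      have hΦ : Φ κ₀ ≠ 0 := fun h => hκ₀0 (lam_ext hM.lam_ne fun k => by
        rw [mul_zero, map_zero, mul_comm]; exact LinearMap.congr_fun h k)
      have h1 := LinearMap.finrank_range_add_finrank_ker (Φ κ₀)
      rw [LinearMap.range_eq_top.2 (LinearMap.surjective hΦ), finrank_top,
        Module.finrank_self] at h1
      rw [Submodule.eq_of_le_of_finrank_le hle (by omega)]
      exact htt
    set e := t⁻¹ * t⁻¹ with he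
    have hP'T := hM.conjMul_mem fr hP t⁻¹
    rw [← he] at hP'T
    have hP'c : conjMul e P (κ * (t * t)) = 0 := by
      rw [conjMul_apply, he, show t⁻¹ * t⁻¹ * (κ * (t * t)) = κ by field_simp, hPκ, mul_zero]
    have he0 : e ≠ 0 := mul_ne_zero (inv_ne_zero ht0) (inv_ne_zero ht0)
    have hP'0 : conjMul e P ≠ 0 := fun h => hP0 (LinearMap.ext fun y => by
      have := LinearMap.congr_fun h (y / e)
      rw [conjMul_apply, mul_div_cancel₀ _ he0] at this
      simpa [he0] using this)
    have hker := hM.finrank_ker_le fr hmax' hP'T hP'0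
    obtain ⟨u, hu, hux⟩ := hP'T
    have hxl : x.1 ∉ line F K fr.a := fun h => by
      obtain ⟨l, hl⟩ := mem_line.1 h
      have : α x = 0 := by
        show B x.1 fr.a = 0
        rw [← hl, map_smul, LinearMap.smul_apply, fr.aa, smul_zero]
      rw [hxα] at this
      exact mul_ne_zero hκ (mul_ne_zero ht0 ht0) this
    have hux0 : u x.1 = x.1 := by
      rw [hux, show B x.1 fr.a = κ * (t * t) from hxα, hP'c, zero_smul, add_zero]
    have huline : ∀ y ∈ line F K fr.a, u y = y := fun y hy => by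
      obtain ⟨l, rfl⟩ := mem_line.1 hy
      rw [hux]; simp [fr.aa]
    have hstab := hM.stab_of_fix fr hgM hu hmax' huline x.2 hxl (by rw [hux0]; exact x.2)
    have hle : LinearMap.range ((conjMul e P).domRestrict A₀) ≤ W' := by
      rintro _ ⟨⟨_, y, rfl⟩, rfl⟩
      show sp _ ∈ L'
      have h1 := L'.sub_mem (hstab _ y.2) y.2
      rw [hux, add_sub_cancel_left] at h1
      exact h1
    have h1 := LinearMap.finrank_range_add_finrank_ker ((conjMul e P).domRestrict A₀)
    have h2 := Submodule.finrank_mono hle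
    have h3 : finrank F (LinearMap.ker ((conjMul e P).domRestrict A₀))
        ≤ finrank F (LinearMap.ker (conjMul e P)) := by
      refine LinearMap.finrank_le_finrank_of_injective (f := (A₀.subtype.comp
        (LinearMap.ker ((conjMul e P).domRestrict A₀)).subtype).codRestrict
          (LinearMap.ker (conjMul e P)) fun v => v.2) ?_
      intro v v' h
      exact Subtype.ext (Subtype.ext (congrArg (Subtype.val : LinearMap.ker (conjMul e P) → K) h))
    have := hM.three_le
    omega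
  -- otherwise Chevalley–Warning gives a perpendicular vector
  obtain ⟨c₀, hc₀A, hc₀⟩ := (Submodule.ne_bot_iff _).1 hA₀0
  obtain ⟨x₀, hx₀⟩ := hc₀A
  have hx₀c : B x₀.1 fr.a = c₀ := hx₀
  let I : Submodule F K := LinearMap.range (hM.evalAt fr c₀)
  have hIdim : finrank F I + 1 = finrank F K := hM.finrank_evalAt fr hne hc₀
  obtain ⟨C₁, hC₁⟩ := Submodule.exists_isCompl W'
  let S : Submodule F K := I ⊓ C₁
  have hSdim : finrank F K ≤ finrank F S + w + 1 := by
    have h1 : finrank F (I ⊔ C₁ : Submodule F K) + finrank F S = finrank F I + finrank F C₁ :=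
      Submodule.finrank_sup_add_finrank_inf_eq I C₁
    have h2 := Submodule.finrank_le (I ⊔ C₁)
    have h3 := Submodule.finrank_add_eq_of_isCompl hC₁
    omega
  let eS := Module.finBasis F S
  have hpre : ∀ i, ∃ P ∈ hM.torSub fr, P c₀ = ((eS i : S) : K) := fun i => by
    obtain ⟨P, hP⟩ := (eS i).2.1
    exact ⟨P.1, P.2, hP⟩
  choose P₀ hP₀ hP₀c using hpre
  let σ : S →ₗ[F] Module.End F K := eS.constr F P₀
  have hσmem : ∀ x, σ x ∈ hM.torSub fr := fun x => by
    show eS.constr F P₀ x ∈ _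
    rw [Module.Basis.constr_apply_fintype]
    exact Submodule.sum_mem _ fun i _ => Submodule.smul_mem _ _ (hP₀ i)
  have hσc : ∀ x : S, σ x c₀ = x.1 := fun x => LinearMap.congr_fun
    (eS.ext (f₁ := (LinearMap.applyₗ c₀).comp σ) (f₂ := S.subtype) fun i => by
      show σ (eS i) c₀ = _
      show eS.constr F P₀ (eS i) c₀ = _
      rw [Module.Basis.constr_basis]; exact hP₀c i) x
  obtain ⟨C₀, hC₀⟩ := Submodule.exists_isCompl W
  set C := L' ⊓ C₀ with hC
  have hWC : L' = W ⊔ C := by
    rw [hC, inf_comm L' C₀, ← sup_inf_assoc_of_le C₀ (inf_le_left : W ≤ L'), hC₀.sup_eq_top,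
      top_inf_eq]
  have hdimC : finrank F C + w = finrank F K := by
    have h1 := Submodule.finrank_sup_add_finrank_inf_eq W C
    rw [← hWC, (eq_bot_iff.2 fun x hx => hC₀.inf_eq_bot.le ⟨hx.1, hx.2.2⟩ : W ⊓ C = ⊥), finrank_bot, hL'r] at h1
    omega
  let eC := Module.finBasis F C
  obtain ⟨v, hv0, hveq⟩ : ∃ v : K × S, v ≠ 0 ∧ ∀ i,
      tr (v.1 * (c₀ * B ((eC i : C) : V) fr.z - B x₀.1 fr.z * B ((eC i : C) : V) fr.a)
        + (v.2 : K) * B ((eC i : C) : V) fr.a)
      - tr ((2 : K)⁻¹ * algebraMap F K fr.δ * c₀ * B ((eC i : C) : V) fr.a * (v.1 * v.1)) = 0 := by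
    by_cases hcount : 2 * finrank F C < finrank F (K × S)
    · let eU := Module.finBasis F (K × S)
      obtain ⟨c, hc0, hc⟩ := exists_common_zero
        (fun i j => tr ((eU j).1 * (c₀ * B ((eC i : C) : V) fr.z - B x₀.1 fr.z * B ((eC i : C) : V) fr.a)
          + ((eU j).2 : K) * B ((eC i : C) : V) fr.a))
        (fun i j k => tr ((2 : K)⁻¹ * algebraMap F K fr.δ * c₀ * B ((eC i : C) : V) fr.a
          * ((eU j).1 * (eU k).1))) hcount
      refine ⟨∑ j, c j • eU j, fun h => hc0 (funext fun j =>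
        Fintype.linearIndependent_iff.1 eU.linearIndependent c h j), fun i => ?_⟩
      rw [← hc i]
      refine congrArg₂ (· - ·) ?_ ?_
      · simp only [Prod.fst_sum, Prod.snd_sum, Prod.smul_fst, Prod.smul_snd,
          AddSubmonoidClass.coe_finsetSum, Submodule.coe_smul, LinearMap.sum_apply,
          LinearMap.smul_apply, Finset.sum_mul, smul_mul_assoc, map_sum, map_smul, map_add,
          add_mul, mul_add, Finset.sum_add_distrib, smul_eq_mul]
        try simp only [mul_comm (c _)]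
      · simp only [Prod.fst_sum, Prod.smul_fst, Finset.sum_mul, Finset.mul_sum,
          smul_mul_assoc, mul_smul_comm, Finset.smul_sum, map_sum, map_smul, smul_eq_mul]
        refine Finset.sum_comm.trans (Finset.sum_congr rfl fun j _ =>
          Finset.sum_congr rfl fun k _ => ?_)
        ring_nf
    · -- in degree three with `w = 1` a single quadratic equation is left
      rw [Module.finrank_prod] at hcount
      have hr3 := hM.three_le
      have hw1' : w = 1 ∧ finrank F K = 3 ∧ 1 ≤ finrank F S := by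
        by_cases hw2 : w = 1
        · have : ¬ (4 ≤ finrank F K) := fun h => hw_one ⟨hw2, h⟩
          exact ⟨hw2, by omega, by omega⟩
        · omega
      obtain ⟨hwone, hrthree, hS1⟩ := hw1'
      let b := Module.finBasis F K
      obtain ⟨c, hc0, hc⟩ := exists_common_zero (d := 1) (fun _ _ => (0 : F))
        (fun _ j k => tr ((2 : K)⁻¹ * algebraMap F K fr.δ * c₀ * c₀ * (b j * b k))) (by omega)
      set k := ∑ j, c j • b j with hk
      have hk0 : k ≠ 0 := fun h => hc0 (funext fun j =>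
        Fintype.linearIndependent_iff.1 b.linearIndependent c h j)
      have hkk : tr ((2 : K)⁻¹ * algebraMap F K fr.δ * c₀ * c₀ * (k * k)) = 0 := by
        have h := hc 0
        simp only [zero_mul, Finset.sum_const_zero, zero_sub, neg_eq_zero] at h
        rw [← h, hk]
        simp only [Finset.sum_mul, Finset.mul_sum, mul_smul_comm, smul_mul_assoc, Finset.smul_sum,
          map_sum, map_smul, smul_eq_mul]
        refine Finset.sum_comm.trans (Finset.sum_congr rfl fun j _ =>
          Finset.sum_congr rfl fun k _ => ?_)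
        ring_nf
      obtain ⟨s₁, hs₁, hs₁0⟩ := (Submodule.ne_bot_iff S).1 fun h => by
        rw [h, finrank_bot] at hS1; omega
      -- the two functionals on the image
      let fa : V →ₗ[F] K := (B.flip fr.a).restrictScalars F
      let fz : V →ₗ[F] K := (B.flip fr.z).restrictScalars F
      let φ : Dual F V := tr ∘ₗ (mulL F k ∘ₗ (mulL F c₀ ∘ₗ fz - mulL F (B x₀.1 fr.z) ∘ₗ fa)
        - mulL F ((2 : K)⁻¹ * algebraMap F K fr.δ * c₀ * (k * k)) ∘ₗ fa)
      let ψ : Dual F V := tr ∘ₗ mulL F s₁ ∘ₗ fa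
      have hφ : ∀ y, φ y = tr (k * (c₀ * B y fr.z - B x₀.1 fr.z * B y fr.a)
          - (2 : K)⁻¹ * algebraMap F K fr.δ * c₀ * (k * k) * B y fr.a) := fun y => rfl
      have hψ : ∀ y, ψ y = tr (s₁ * B y fr.a) := fun y => rfl
      have hψx : ψ x₀.1 = 0 := by
        rw [hψ, hx₀c]
        obtain ⟨⟨P, hP⟩, hPc⟩ := hs₁.1
        rw [← hPc]
        show tr (P c₀ * c₀) = 0
        have h := hM.skew_of_mem fr.ne_a fr.aa hP c₀ c₀
        rw [mul_comm c₀ (P c₀)] at h
        exact (mul_eq_zero.1 (show (2 : F) * tr (P c₀ * c₀) = 0 by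
          linear_combination h)).resolve_left hM.twoF
      have hφx : φ x₀.1 = 0 := by
        rw [hφ, hx₀c, ← neg_eq_zero, ← map_neg, ← hkk]
        congr 1
        ring
      have hWz : ∀ y ∈ W, φ y = 0 ∧ ψ y = 0 := by
        rintro y ⟨-, hyl⟩
        obtain ⟨l, rfl⟩ := mem_line.1 hyl
        rw [hφ, hψ]
        simp [fr.aa, fr.az]
      have hU : finrank F (W ⊔ F ∙ (x₀.1 : V) : Submodule F V) = 2 := by
        have hx0l : x₀.1 ∉ line F K fr.a := fun h => by
          obtain ⟨l, hl⟩ := mem_line.1 h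
          exact hc₀ (by rw [← hx₀c, ← hl, map_smul, LinearMap.smul_apply, fr.aa, smul_zero])
        have hinf : W ⊓ F ∙ (x₀.1 : V) = ⊥ := by
          rw [Submodule.eq_bot_iff]
          rintro y ⟨hy1, hy2⟩
          obtain ⟨e, rfl⟩ := Submodule.mem_span_singleton.1 hy2
          by_contra h0
          have he : e ≠ 0 := fun h => h0 (by rw [h, zero_smul])
          have := (line F K fr.a).smul_mem e⁻¹ hy1.2
          rw [inv_smul_smul₀ he] at this
          exact hx0l this
        have h1 := Submodule.finrank_sup_add_finrank_inf_eq W (F ∙ (x₀.1 : V))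
        rw [hinf, finrank_bot, finrank_span_singleton (fun h => hx0l (by rw [h]; exact zero_mem _))] at h1
        omega
      have hUle : W ⊔ F ∙ (x₀.1 : V) ≤ L' :=
        sup_le inf_le_left ((Submodule.span_singleton_le_iff_mem _ _).2 x₀.2)
      obtain ⟨y₁, hy₁, hy₁U⟩ : ∃ y₁ ∈ L', y₁ ∉ W ⊔ F ∙ (x₀.1 : V) := by
        by_contra h
        push Not at h
        have := Submodule.finrank_mono (show L' ≤ W ⊔ F ∙ (x₀.1 : V) from h)
        omega
      have htop : L' = (W ⊔ F ∙ (x₀.1 : V)) ⊔ F ∙ y₁ := by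
        refine (Submodule.eq_of_le_of_finrank_le
          (sup_le hUle ((Submodule.span_singleton_le_iff_mem _ _).2 hy₁)) ?_).symm
        have hlt : W ⊔ F ∙ (x₀.1 : V) < (W ⊔ F ∙ (x₀.1 : V)) ⊔ F ∙ y₁ :=
          lt_of_le_not_ge le_sup_left fun h =>
            hy₁U (h (Submodule.mem_sup_right (Submodule.mem_span_singleton_self _)))
        have := Submodule.finrank_lt_finrank_of_lt hlt
        omega
      have hkill : ∀ χ : Dual F V, (∀ y ∈ W, χ y = 0) → χ x₀.1 = 0 → χ y₁ = 0 →
          ∀ y ∈ L', χ y = 0 := by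
        intro χ hχW hχx hχy
        have : L' ≤ LinearMap.ker χ := by
          rw [htop]
          exact sup_le (sup_le (fun y hy => hχW y hy) ((Submodule.span_singleton_le_iff_mem _ _).2 hχx))
            ((Submodule.span_singleton_le_iff_mem _ _).2 hχy)
        exact fun y hy => this hy
      have hψy : ψ y₁ ≠ 0 := fun h0 => hs₁0 <| by
        have h1 := hkill ψ (fun y hy => (hWz y hy).2) hψx h0
        have h2 : s₁ ∈ W' := hback _ fun y hy => by rw [← hψ]; exact h1 y hy
        exact (Submodule.mem_bot F).1 (hC₁.inf_eq_bot.le ⟨h2, hs₁.2⟩)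
      set t := -(φ y₁) / ψ y₁ with ht
      refine ⟨(k, ⟨t • s₁, S.smul_mem t hs₁⟩), fun h => hk0 (congrArg Prod.fst h), fun i => ?_⟩
      have h1 := hkill (φ + t • ψ) (fun y hy => by simp [(hWz y hy).1, (hWz y hy).2])
        (by simp [hφx, hψx]) (by simp [ht, hψy]) _ ((eC i).2.1 : ((eC i : C) : V) ∈ L')
      rw [LinearMap.add_apply, LinearMap.smul_apply, hφ, hψ] at h1
      rw [← h1, ← map_smul, ← map_add, ← map_sub]
      congr 1
      show _ = _ + t • (s₁ * _)
      rw [smul_mul_assoc]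
      ring
  set k := v.1 with hk
  set P := σ v.2 with hPdef
  have hPc : P c₀ = v.2.1 := hσc v.2
  obtain ⟨t, ht, htx⟩ : ∃ t ∈ M, ∀ x, t x = x + P (B x fr.a) • fr.a :=
    hσmem v.2
  set m := fr.u k * t with hm
  have hmM : m ∈ M := mul_mem (hM.u_mem fr k) ht
  have hmline : ∀ x ∈ line F K fr.a, m x = x := fun x hx => by
    obtain ⟨l, rfl⟩ := mem_line.1 hx
    show fr.u k (t _) = _
    rw [htx, map_smul, LinearMap.smul_apply, fr.aa, smul_zero, map_zero, zero_smul, add_zero,
      fr.u_line k hx]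
  have hmx : m x₀.1 = x₀.1 + P c₀ • fr.a + (k * c₀) • fr.z - (k * B x₀.1 fr.z) • fr.a
      - ((2 : K)⁻¹ * algebraMap F K fr.δ * (k * k) * c₀) • fr.a := by
    show fr.u k (t x₀.1) = _
    rw [htx, map_add, fr.u_smul, fr.u_a, fr.u_apply, hx₀c]
    abel
  have hform : ∀ y, B (m x₀.1) y = B x₀.1 y
      + k * (c₀ * B y fr.z - B x₀.1 fr.z * B y fr.a)
      + P c₀ * B y fr.a - (2 : K)⁻¹ * algebraMap F K fr.δ * c₀ * B y fr.a * (k * k) := fun y => by
    rw [hmx]
    simp only [map_add, map_sub, map_smul, LinearMap.add_apply, LinearMap.sub_apply,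
      LinearMap.smul_apply, smul_eq_mul, fr.symm fr.a y, fr.symm fr.z y]
    ring
  have hzero : ∀ y ∈ L', tr (B (m x₀.1) y) = 0 := by
    intro y hy
    rw [hWC] at hy
    obtain ⟨y₁, hy₁, y₂, hy₂, rfl⟩ := Submodule.mem_sup.1 hy
    rw [map_add, map_add]
    have h1 : tr (B (m x₀.1) y₁) = 0 := by
      rw [← hmline y₁ hy₁.2, htr, hM.pres m hmM]
      exact hM.lam_img fr.aa hgM x₀.2 hy₁.1
    have h2 : ∀ i, tr (B (m x₀.1) ((eC i : C) : V)) = 0 := by
      intro i
      rw [hform, hPc, map_sub, map_add, map_add, htr,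
        hM.lam_img fr.aa hgM x₀.2 ((eC i).2.1 : ((eC i : C) : V) ∈ L'), zero_add, ← htr]
      rw [← hveq i, map_add]
    have h4 : tr (B (m x₀.1) y₂) = 0 := by
      let φ : Dual F C := (tr.comp ((B (m x₀.1)).restrictScalars F)).comp C.subtype
      have hφ : φ = 0 := eC.ext fun i => h2 i
      exact LinearMap.congr_fun hφ ⟨y₂, hy₂⟩
    rw [h1, h4, add_zero]
  have hk0 : k ≠ 0 := by
    intro h0
    have hPW : P c₀ ∈ W' := hback _ fun y hy => by
      have h := hzero y hy
      rw [hform, h0] at h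
      simp only [zero_mul, mul_zero, add_zero, sub_zero, map_add] at h
      rwa [htr, hM.lam_img fr.aa hgM x₀.2 hy, zero_add, ← htr] at h
    rw [hPc] at hPW
    have h3 : (v.2 : K) = 0 :=
      (Submodule.mem_bot F).1 (hC₁.inf_eq_bot.le ⟨hPW, v.2.2.2⟩)
    exact hv0 (Prod.ext h0 (Subtype.ext h3))
  have hnotin : m x₀.1 ∉ L' := by
    intro h
    have h2 := hnoz _ (L'.sub_mem h x₀.2) (by
      simp [hmx, fr.aa, fr.za, hx₀c])
    obtain ⟨l, hl⟩ := mem_line.1 h2
    have h3 := congrArg (fun x => B x fr.z) hl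
    simp [hmx, fr.az, fr.zz, hk0, hc₀, fr.δ0] at h3
  -- the new pair
  have hgi : ∀ x, g (g⁻¹ x) = x := fun x => g.apply_symm_apply x
  have hm' : g⁻¹ * m * g ∈ M := mul_mem (mul_mem (inv_mem hgM) hmM) hgM
  have hzin : g⁻¹ (m x₀.1) ∈ img K fr.a (g⁻¹ * m * g) := by
    rw [mul_assoc, img_mul]
    exact ⟨m x₀.1, by rw [img_mul]; exact ⟨x₀.1, x₀.2, rfl⟩, rfl⟩
  have hzl : g⁻¹ (m x₀.1) ∉ line F K fr.a := fun h => hnotin ⟨g⁻¹ (m x₀.1), h, hgi _⟩
  have hzperp : B (g⁻¹ (m x₀.1)) fr.a = 0 := by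
    refine lam_ext hM.lam_ne fun k => ?_
    rw [mul_zero, map_zero, ← smul_eq_mul, ← map_smul, ← hM.pres g hgM, hgi]
    exact hzero _ ⟨k • fr.a, mem_line.2 ⟨k, rfl⟩, rfl⟩
  have hne' : img K fr.a (g⁻¹ * m * g) ≠ line F K fr.a := fun h => hzl (h ▸ hzin)
  have hge : w ≤ finrank F (img K fr.a (g⁻¹ * m * g) ⊓ line F K fr.a : Submodule F V) := by
    rw [mul_assoc, ← finrank_img_inf]
    refine Submodule.finrank_mono (le_inf (fun x hx => ?_) inf_le_left)
    rw [img_mul]; exact ⟨x, hx.1, hmline x hx.2⟩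
  have hmax2 : ∀ h ∈ M, img K fr.a h ≠ line F K fr.a →
      finrank F (img K fr.a h ⊓ line F K fr.a : Submodule F V)
        ≤ finrank F (img K fr.a (g⁻¹ * m * g) ⊓ line F K fr.a : Submodule F V) :=
    fun h hh hhne => (hmax' h hh hhne).trans hge
  have hmeet2 : img K fr.a (g⁻¹ * m * g) ⊓ line F K fr.a ≠ ⊥ := fun h => by
    rw [h, finrank_bot] at hge; omega
  exact ⟨_, hm', hne', hmeet2, hmax2, hM.perp_of_one fr hm' hne' hmeet2 hmax2 hne hzin hzl hzperp⟩

/-- With a non-zero map `P` all transvections of the line are induced. -/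
theorem trs_of_tor (fr : Frame B F) (hne : ∃ P ∈ hM.Tor fr.aa, P ≠ 0) {η v : K} (hη : η ≠ 0)
    (hv : Algebra.trace F K (η * v) = 0) : Trs (Algebra.trace F K) M fr.a η v := by
  obtain ⟨g, hgM, hgne, hmeet, hmax', hperp⟩ := hM.exists_perp_pair fr hne
  have hnle : ¬ img K fr.a g ≤ line F K fr.a := fun h =>
    hgne (Submodule.eq_of_le_of_finrank_eq h (by rw [finrank_img fr.ne_a, finrank_line fr.ne_a]))
  obtain ⟨x₀, hx₀, hx₀L⟩ := SetLike.not_le_iff_exists.1 hnle
  obtain ⟨δ, hδ, h⟩ := trs_of_translations hM.deg hM.lam_ne fr.ne_a hgM hgne hmeet hmax'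
    (B.flip fr.z) fr.az hx₀ (fun h0 => hx₀L (by
      rw [fr.dec x₀, hperp x₀ hx₀, show B x₀ fr.z = 0 from h0, zero_smul, zero_div, zero_smul,
        add_zero, add_zero]
      exact mem_line.2 ⟨_, rfl⟩))
    (fun k => ⟨fr.u (-k), hM.u_mem fr _, fun x hx => fr.u_line _ hx, fun x hx => by
      rw [fr.u_apply, hperp x hx]
      simp [LinearMap.flip_apply]⟩)
  obtain ⟨s, k, hk, hs⟩ := hM.exists_sq_rep (div_ne_zero hδ hη)
  have hsK : algebraMap F K s ≠ 0 := by
    rw [← hs]; exact mul_ne_zero (mul_ne_zero hk hk) (div_ne_zero hδ hη)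
  have he0 : k⁻¹ * k⁻¹ ≠ 0 := mul_ne_zero (inv_ne_zero hk) (inv_ne_zero hk)
  have hδ' : δ = η * algebraMap F K s * (k⁻¹ * k⁻¹) := by
    rw [← hs]; field_simp
  obtain ⟨t, ht, htP⟩ := h ((v / algebraMap F K s) / (k⁻¹ * k⁻¹)) (by
    rw [hδ', show η * algebraMap F K s * (k⁻¹ * k⁻¹) * (v / algebraMap F K s / (k⁻¹ * k⁻¹))
      = η * v by field_simp]
    exact hv)
  obtain ⟨c, hc, -, hce⟩ := hM.exists_scalar_sq fr (inv_ne_zero hk)
  refine ⟨c * t * c⁻¹, mul_mem (mul_mem hc ht) (inv_mem hc), fun l => ?_⟩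
  show c (t (c⁻¹ (l • fr.a))) = _
  have hci : c⁻¹ (l • fr.a) = (l / (k⁻¹ * k⁻¹)) • fr.a := by
    apply c.injective
    show c (c.symm _) = _
    rw [LinearEquiv.apply_symm_apply, hce, LinearMap.mulLeft_apply, mul_div_cancel₀ _ he0]
  rw [hci, htP, hce]
  congr 1
  simp only [LinearMap.mulLeft_apply, LinearMap.add_apply, Module.End.one_apply,
    LinearMap.smulRight_apply, LinearMap.comp_apply]
  rw [mul_add, mul_div_cancel₀ _ he0, mul_smul_comm, mul_div_cancel₀ _ he0, hδ',
    show η * algebraMap F K s * (k⁻¹ * k⁻¹) * (l / (k⁻¹ * k⁻¹)) = algebraMap F K s * (η * l) by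
      field_simp,
    trace_smul hM]
  have hs0 : s ≠ 0 := fun h => hsK (by rw [h, map_zero])
  rw [Algebra.smul_def, Algebra.smul_def, map_mul]
  field_simp

/-- With a non-zero map `P` all root elements of the line lie in `M`. -/
theorem roots_of_tor (fr : Frame B F) (hne : ∃ P ∈ hM.Tor fr.aa, P ≠ 0) (k l : K) :
    ∃ g ∈ M, ∀ x, g x = x + Algebra.trace F K (B x (k • fr.a)) • (l • fr.a)
      - Algebra.trace F K (B x (l • fr.a)) • (k • fr.a) := by
  obtain ⟨g, hg, hgx⟩ := hM.wedge_mem_of fr.ne_a fr.aa hne (fun t _ hP => hM.mem_smul fr t hP)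
    (fun {η v} hη hv => hM.trs_of_tor fr hne hη hv) k l
  refine ⟨g, hg, fun x => ?_⟩
  rw [hgx, Wg_apply, sub_smul, smul_assoc, smul_assoc, map_smul (B x), map_smul (B x), smul_eq_mul,
    smul_eq_mul, add_sub_assoc]

end OrThree

end Cfsg.Agent.FieldExtMax
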