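/-
The stabiliser of a singular vector maps its line to itself, so images of singular lines are
disjoint.

Main definitions: `pointFix`, `lineSub`.
Main results: `OrThree.mem_lineSub`, `OrThree.good`.
-/
import Cfsg.Agent.Lib.FieldExtMax.Three.Fix
import Mathlib.GroupTheory.Focal

set_option autoImplicit false
set_option linter.unusedSectionVars false

namespace Cfsg.Agent.FieldExtMax

open Module
open scoped Pointwise commutatorElement IsMulCommutative

variable {F K V : Type*} [Field F] [Finite F] [Field K] [Finite K] [Algebra F K]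
  [AddCommGroup V] [Module F V] [Module K V] [IsScalarTower F K V] [Finite V]
variable {B : V →ₗ[K] V →ₗ[K] K} {M : Subgroup (V ≃ₗ[F] V)}

/-- A self-normalising `p`-subgroup is a Sylow subgroup. -/
lemma exists_sylow_eq {G : Type*} [Group G] [Finite G] {p : ℕ} [Fact p.Prime] {H : Subgroup G}
    (hH : IsPGroup p H) (hn : Subgroup.normalizer (H : Set G) ≤ H) :
    ∃ P : Sylow p G, (P : Subgroup G) = H := by
  obtain ⟨P, hP⟩ := hH.exists_le_sylow
  refine ⟨P, le_antisymm ?_ hP⟩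
  by_contra hne
  haveI := (P.2).isNilpotent
  have hlt : H.subgroupOf P < ⊤ := lt_of_le_of_ne le_top fun h => hne fun y hy =>
    Subgroup.mem_subgroupOf.1 (h ▸ Subgroup.mem_top (⟨y, hy⟩ : (P : Subgroup G)))
  obtain ⟨y, hy, hyn⟩ := SetLike.exists_of_lt (Group.normalizerCondition_of_isNilpotent _ hlt)
  refine hyn (Subgroup.mem_subgroupOf.2 (hn (Subgroup.mem_normalizer_iff.2 fun x => ?_)))
  constructor
  · intro hx
    exact (Subgroup.mem_normalizer_iff.1 hy ⟨x, hP hx⟩).1 hx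
  · intro hx
    have hxP : x ∈ (P : Subgroup G) := by
      have := mul_mem (mul_mem (inv_mem y.2) (hP hx)) y.2
      simpa [mul_assoc] using this
    exact (Subgroup.mem_normalizer_iff.1 hy ⟨x, hxP⟩).2 hx

/-- The stabiliser of a vector in `M`. -/
def pointFix (M : Subgroup (V ≃ₗ[F] V)) (a : V) : Subgroup (V ≃ₗ[F] V) :=
  M ⊓ MulAction.stabilizer _ a

lemma mem_pointFix {g : V ≃ₗ[F] V} {a : V} : g ∈ pointFix M a ↔ g ∈ M ∧ g a = a := Iff.rfl

/-- The subgroup mapping the line to itself. -/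
def lineSub (M : Subgroup (V ≃ₗ[F] V)) (K : Type*) [Field K] [Finite K] [Algebra F K]
    [Module K V] [IsScalarTower F K V] (a : V) : Subgroup (pointFix M a) where
  carrier := {g | img K a g.1 = line F K a}
  one_mem' := by
    show (line F K a).map (LinearMap.id : V →ₗ[F] V) = line F K a
    exact Submodule.map_id _
  mul_mem' := fun {g h} hg hh => by
    show img K a (g.1 * h.1) = line F K a
    rw [img_mul, show img K a h.1 = line F K a from hh]
    exact hg
  inv_mem' := fun {g} hg => by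
    show img K a g.1⁻¹ = line F K a
    conv_lhs => rw [img, ← show img K a g.1 = line F K a from hg, img, ← Submodule.map_comp]
    have : ((g.1⁻¹ : V ≃ₗ[F] V) : V →ₗ[F] V) ∘ₗ (g.1 : V →ₗ[F] V) = LinearMap.id :=
      LinearMap.ext fun x => g.1.symm_apply_apply x
    rw [this, Submodule.map_id]

lemma mem_lineSub_iff {a : V} {g : pointFix M a} :
    g ∈ lineSub M K a ↔ img K a g.1 = line F K a := Iff.rfl

namespace Frame

variable (fr : Frame B F)

lemma form_mul (k k' : K) (τ τ' : K ≃ₐ[F] K) :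
    fr.u k * fr.auto τ * (fr.u k' * fr.auto τ') = fr.u (k + τ k') * fr.auto (τ * τ') := by
  rw [map_mul, ← fr.u_add, mul_assoc, ← mul_assoc (fr.auto τ), fr.auto_mul_u]
  simp only [mul_assoc]

lemma form_inj {k k' : K} {τ τ' : K ≃ₐ[F] K}
    (h : fr.u k * fr.auto τ = fr.u k' * fr.auto τ') : k = k' ∧ τ = τ' := by
  have hτ : τ = τ' := AlgEquiv.ext fun l => smul_inj fr.ne_a (by
    have := LinearEquiv.congr_fun h (l • fr.a)
    change fr.u k (fr.auto τ (l • fr.a)) = fr.u k' (fr.auto τ' (l • fr.a)) at this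
    rwa [fr.auto_smul, fr.auto_smul, fr.auto_a, fr.auto_a, fr.u_line k (mem_line.2 ⟨_, rfl⟩),
      fr.u_line k' (mem_line.2 ⟨_, rfl⟩)] at this)
  subst hτ
  refine ⟨?_, rfl⟩
  have := congrArg (fun f : V ≃ₗ[F] V => B (f fr.a') fr.z) h
  change B (fr.u k (fr.auto τ fr.a')) fr.z = B (fr.u k' (fr.auto τ fr.a')) fr.z at this
  rw [fr.auto_a', (fr.u_coord k _).2.2, (fr.u_coord k' _).2.2, fr.a'a, mul_one, mul_one] at this
  exact mul_right_cancel₀ fr.δK (add_left_cancel this)

end Frame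

namespace OrThree

variable (hM : OrThree B M)
include hM

section
variable (fr : Frame B F)

/-- A Siegel element in the point stabiliser. -/
noncomputable def uG (k : K) : pointFix M fr.a := ⟨fr.u k, hM.u_mem fr k, fr.u_a k⟩

/-- An automorphism in the point stabiliser. -/
noncomputable def autoG : (K ≃ₐ[F] K) →* pointFix M fr.a :=
  fr.auto.codRestrict _ fun σ => ⟨hM.auto_mem fr σ, fr.auto_a σ⟩

lemma autoG_inj : Function.Injective (hM.autoG fr) := fun σ σ' h =>
  (fr.form_inj (k := 0) (k' := 0) (by rw [fr.u_zero, one_mul, one_mul]; exact congrArg Subtype.val h)).2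

lemma form_mem_lineSub {g : pointFix M fr.a} {k : K} {τ : K ≃ₐ[F] K}
    (h : g.1 = fr.u k * fr.auto τ) : g ∈ lineSub M K fr.a := by
  rw [mem_lineSub_iff]
  refine Submodule.eq_of_le_of_finrank_eq ?_ (by rw [finrank_img fr.ne_a, finrank_line fr.ne_a])
  rintro _ ⟨y, hy, rfl⟩
  obtain ⟨l, rfl⟩ := mem_line.1 hy
  refine mem_line.2 ⟨τ l, ?_⟩
  show _ = g.1 (l • fr.a)
  rw [h]
  show _ = fr.u k (fr.auto τ (l • fr.a))
  rw [fr.auto_smul, fr.auto_a, fr.u_line k (mem_line.2 ⟨_, rfl⟩)]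

lemma exists_form (hT : TorZero B M) {g : pointFix M fr.a} (hg : g ∈ lineSub M K fr.a) :
    ∃ (k : K) (τ : K ≃ₐ[F] K), g.1 = fr.u k * fr.auto τ := by
  refine hM.stab_a hT fr g.2.1 (fun l => ?_) g.2.2
  have h : g.1 (l • fr.a) ∈ img K fr.a g.1 := ⟨_, mem_line.2 ⟨l, rfl⟩, rfl⟩
  rw [mem_lineSub_iff.1 hg] at h
  exact mem_line_iff_span.1 h

lemma mem_of_conj (hT : TorZero B M) {g : pointFix M fr.a} {k : K} (hk : k ≠ 0)
    (h : g * hM.uG fr k * g⁻¹ ∈ lineSub M K fr.a) : g ∈ lineSub M K fr.a := by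
  rw [mem_lineSub_iff]
  refine hM.img_eq_of_conj hT fr g.2.1 hk (fun l => ?_) (g * hM.uG fr k * g⁻¹).2.2
  have h' : (g * hM.uG fr k * g⁻¹).1 (l • fr.a) ∈ img K fr.a (g * hM.uG fr k * g⁻¹).1 :=
    ⟨_, mem_line.2 ⟨l, rfl⟩, rfl⟩
  rw [mem_lineSub_iff.1 h] at h'
  exact mem_line_iff_span.1 h'

/-- A normal subgroup meeting the line stabiliser in Siegel elements forces the conclusion. -/
theorem eq_line_of_normal (hT : TorZero B M) {p : ℕ} [Fact p.Prime] [CharP F p]
    (N : Subgroup (pointFix M fr.a)) [N.Normal]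
    (hN : ∀ g ∈ N, g ∈ lineSub M K fr.a → ∃ k, g = hM.uG fr k)
    (hk : ∀ (k : K) (σ : K ≃ₐ[F] K), hM.uG fr (σ k - k) ∈ N) (g : pointFix M fr.a) :
    g ∈ lineSub M K fr.a := by
  classical
  haveI : Finite (V ≃ₗ[F] V) := DFunLike.finite _
  haveI : Module.Finite F K := Module.Finite.of_finite
  haveI : CharP K p := charP_of_injective_algebraMap (algebraMap F K).injective p
  set L := lineSub M K fr.a with hL
  have hmul : ∀ k l, hM.uG fr k * hM.uG fr l = hM.uG fr (k + l) := fun k l =>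
    Subtype.ext (fr.u_add k l)
  have hzero : hM.uG fr 0 = 1 := Subtype.ext fr.u_zero
  have huL : ∀ k, hM.uG fr k ∈ L := fun k => hM.form_mem_lineSub fr (k := k) (τ := 1)
    (by rw [map_one, mul_one]; rfl)
  obtain ⟨σ, hσ⟩ := hM.exists_aut_ne_one
  obtain ⟨k₀, hk₀⟩ : ∃ k, σ k ≠ k := by
    by_contra h
    push Not at h
    exact hσ (AlgEquiv.ext h)
  set U₀ : Subgroup N := L.subgroupOf N with hU₀
  have hUmem : ∀ x : N, x ∈ U₀ → ∃ k, x.1 = hM.uG fr k := fun x hx =>
    hN x.1 x.2 (Subgroup.mem_subgroupOf.1 hx)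
  have hUp : IsPGroup p U₀ := fun x => ⟨1, by
    obtain ⟨k, hk'⟩ := hUmem x.1 x.2
    refine Subtype.ext (Subtype.ext ?_)
    show (x.1.1 : pointFix M fr.a) ^ p ^ 1 = 1
    rw [pow_one, hk']
    refine Subtype.ext ?_
    show fr.u k ^ p = 1
    rw [fr.u_pow, nsmul_eq_mul, CharP.cast_eq_zero, zero_mul, fr.u_zero]⟩
  have hUn : Subgroup.normalizer (U₀ : Set N) ≤ U₀ := fun y hy => by
    have h1 : (⟨_, hk k₀ σ⟩ : N) ∈ U₀ := Subgroup.mem_subgroupOf.2 (huL _)
    have h2 := Subgroup.mem_subgroupOf.1 ((Subgroup.mem_normalizer_iff.1 hy _).1 h1)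
    exact Subgroup.mem_subgroupOf.2 (hM.mem_of_conj fr hT (sub_ne_zero.2 hk₀) h2)
  obtain ⟨P, hP⟩ := exists_sylow_eq hUp hUn
  have hPC : Subgroup.normalizer ((P : Subgroup N) : Set N)
      ≤ Subgroup.centralizer ((P : Subgroup N) : Set N) := by
    intro y hy
    refine Subgroup.mem_centralizer_iff.2 fun x hx => Subtype.ext ?_
    rw [hP] at hy
    change x ∈ (P : Subgroup N) at hx
    rw [hP] at hx
    obtain ⟨k, hk'⟩ := hUmem x hx
    obtain ⟨l, hl⟩ := hUmem y (hUn hy)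
    show x.1 * y.1 = y.1 * x.1
    rw [hk', hl, hmul, hmul, add_comm]
  set N₂ := (MonoidHom.transferSylow P hPC).ker with hN₂
  have hc := MonoidHom.ker_transferSylow_isComplement' P hPC
  have hp₂ := MonoidHom.not_dvd_card_ker_transferSylow P hPC
  have hmem₂ : ∀ x : N, (orderOf x).Coprime p → x ∈ N₂ := fun x hx => by
    rw [MonoidHom.mem_ker]
    obtain ⟨n, hn⟩ := IsPGroup.iff_orderOf.1 P.2 (MonoidHom.transferSylow P hPC x)
    rw [← orderOf_eq_one_iff]
    exact Nat.eq_one_of_dvd_coprimes (hx.pow_right n) (orderOf_map_dvd _ x) (dvd_of_eq hn)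
  set K₂ : Subgroup (pointFix M fr.a) := N₂.map N.subtype with hK₂
  have hK₂n : K₂.Normal := ⟨fun x hx y => by
    obtain ⟨x', hx', rfl⟩ := hx
    refine ⟨⟨y * x'.1 * y⁻¹, Subgroup.Normal.conj_mem inferInstance _ x'.2 y⟩, hmem₂ _ ?_, rfl⟩
    have e : orderOf (⟨y * x'.1 * y⁻¹, Subgroup.Normal.conj_mem inferInstance _ x'.2 y⟩ : N)
        = orderOf x' := by
      rw [← Subgroup.orderOf_coe, ← Subgroup.orderOf_coe x']
      exact orderOf_injective (MulAut.conj y).toMonoidHom (MulAut.conj y).injective x'.1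
    rw [e]
    refine Nat.Coprime.coprime_dvd_left ?_ (((Fact.out : p.Prime).coprime_iff_not_dvd).2 hp₂).symm
    rw [← Subgroup.orderOf_mk x' hx']
    exact orderOf_dvd_natCard _⟩
  set A : Subgroup (pointFix M fr.a) := U₀.map N.subtype with hA
  have hAmem : ∀ x ∈ A, ∃ k, x = hM.uG fr k := by
    rintro _ ⟨x, hx, rfl⟩; exact hUmem x hx
  haveI : IsMulCommutative A := ⟨⟨fun x y => Subtype.ext (by
    obtain ⟨k, hk'⟩ := hAmem x.1 x.2
    obtain ⟨l, hl⟩ := hAmem y.1 y.2
    show x.1 * y.1 = y.1 * x.1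
    rw [hk', hl, hmul, hmul, add_comm])⟩⟩
  have hAc : ¬ IsCyclic A := fun hcyc => by
    obtain ⟨⟨a, ha⟩, hgen⟩ := hcyc.exists_zpow_surjective (G := A)
    obtain ⟨c, rfl⟩ := hAmem a ha
    let S : K →ₗ[F] K := σ.toLinearMap - LinearMap.id
    have hle : LinearMap.range S ≤ F ∙ c := by
      rintro _ ⟨k, rfl⟩
      obtain ⟨i, hi⟩ := hgen ⟨hM.uG fr (σ k - k), ⟨⟨_, hk k σ⟩,
        Subgroup.mem_subgroupOf.2 (huL _), rfl⟩⟩
      have h1 : fr.uHom (Multiplicative.ofAdd c) ^ i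
          = fr.uHom (Multiplicative.ofAdd (σ k - k)) :=
        congrArg (fun x : A => (x.1.1 : V ≃ₗ[F] V)) hi
      rw [← map_zpow] at h1
      have h2 : fr.u (i • c) = fr.u (σ k - k) := h1
      have h3 := (fr.form_inj (k := i • c) (k' := σ k - k) (τ := 1) (τ' := 1) (by rw [map_one, mul_one, mul_one]; exact h2)).1
      refine Submodule.mem_span_singleton.2 ⟨(i : F), ?_⟩
      show (i : F) • c = σ k - k
      rw [Int.cast_smul_eq_zsmul, h3]
    have h1 := LinearMap.finrank_range_add_finrank_ker S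
    have h2 := Submodule.finrank_mono hle
    have h3 : finrank F (LinearMap.ker S) ≤ 1 := by
      refine (Submodule.finrank_mono (t := F ∙ (1 : K)) fun x hx => ?_).trans
        (finrank_span_singleton (one_ne_zero (α := K))).le
      obtain ⟨d, hd⟩ := hM.fixed_iff hσ (x := x) (sub_eq_zero.1 hx)
      exact Submodule.mem_span_singleton.2 ⟨d, by rw [← Algebra.algebraMap_eq_smul_one, hd]⟩
    have h4 := finrank_span_le_card (R := F) ({c} : Set K)
    simp only [Set.toFinset_singleton, Finset.card_singleton] at h4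
    have := hM.three_le
    omega
  have hK₂bot : K₂ ≤ ⊥ := by
    refine Coprime.le_of_noncyclic hAc (by rw [Subgroup.normalizer_eq_top]; exact le_top) ?_ ?_
    · obtain ⟨n, hn⟩ := (hUp.map N.subtype).exists_card_eq
      rw [hn, Subgroup.card_map_of_injective N.subtype_injective]
      exact ((Fact.out : p.Prime).coprime_iff_not_dvd.2 hp₂).pow_left n
    · intro a ha ha1 x hx
      obtain ⟨⟨x', hx', hxx⟩, hxc⟩ := hx
      obtain ⟨c, rfl⟩ := hAmem a ha
      have hc0 : c ≠ 0 := fun h => ha1 (by rw [h, hzero])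
      have e : x * hM.uG fr c * x⁻¹ = hM.uG fr c := by
        rw [Subgroup.mem_centralizer_singleton_iff.1 hxc, mul_inv_cancel_right]
      have hxL : x ∈ L := hM.mem_of_conj fr hT hc0 (by rw [e]; exact huL c)
      have hxP : x' ∈ (P : Subgroup N) := by
        rw [hP]; exact Subgroup.mem_subgroupOf.2 (show x'.1 ∈ L by rw [show x'.1 = x from hxx]; exact hxL)
      have h1 : x' = 1 := Subgroup.mem_bot.1
        ((MonoidHom.ker_transferSylow_disjoint P hPC P P.2).le_bot ⟨hx', hxP⟩)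
      rw [Subgroup.mem_bot, ← hxx, h1, map_one]
  have hall : ∀ x ∈ N, x ∈ L := fun x hx => by
    obtain ⟨⟨a, b⟩, hab⟩ := hc.2 ⟨x, hx⟩
    have ha : a.1 = 1 := Subtype.ext (Subgroup.mem_bot.1 (hK₂bot ⟨a.1, a.2, rfl⟩))
    have hb : b.1 ∈ U₀ := by rw [← hP]; exact b.2
    have hxb : b.1 = ⟨x, hx⟩ := by rw [← hab]; show b.1 = a.1 * b.1; rw [ha, one_mul]
    rw [hxb] at hb
    exact Subgroup.mem_subgroupOf.1 hb
  exact hM.mem_of_conj fr hT (sub_ne_zero.2 hk₀)
    (hall _ (Subgroup.Normal.conj_mem inferInstance _ (hk k₀ σ) g))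

lemma mem_autoG_of_pow {p : ℕ} [Fact p.Prime] [CharP F p] (hT : TorZero B M)
    (hpr : p ≠ finrank F K) {g : pointFix M fr.a} (hc : ∀ σ, Commute g (hM.autoG fr σ)) {n : ℕ}
    (hg : g ^ (finrank F K) ^ n = 1) : g ∈ (hM.autoG fr).range := by
  have hn : g.1 ∈ Subgroup.normalizer (fr.auto.range : Set (V ≃ₗ[F] V)) := by
    refine Subgroup.centralizer_le_normalizer _ (Subgroup.mem_centralizer_iff.2 ?_)
    rintro _ ⟨σ, rfl⟩
    exact (congrArg Subtype.val (hc σ).eq).symm
  set m := (finrank F K) ^ n with hm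
  have hgm : g.1 ^ m = 1 := congrArg Subtype.val hg
  obtain ⟨-, ⟨c, σ, h⟩ | ⟨μ, h⟩⟩ := hM.comm_of_normalise hT hpr fr g.2.1 g.2.2 hn
  · have hpow : ∀ j : ℕ, g.1 ^ j = fr.u (algebraMap F K (j • c)) * fr.auto (σ ^ j) := by
      intro j
      induction j with
      | zero => rw [pow_zero, zero_smul, map_zero, fr.u_zero, pow_zero, map_one, mul_one]
      | succ j ih =>
        rw [pow_succ, ih, h, fr.form_mul, AlgEquiv.commutes, ← map_add, succ_nsmul, pow_succ]
    have h1 := hpow m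
    rw [hgm] at h1
    obtain ⟨h2, -⟩ := fr.form_inj (k := 0) (τ := 1) (k' := algebraMap F K (m • c)) (τ' := σ ^ m)
      (by rw [fr.u_zero, map_one, one_mul]; exact h1)
    have hc0 : c = 0 := by
      rw [eq_comm, map_eq_zero, nsmul_eq_mul, mul_eq_zero] at h2
      refine h2.resolve_left fun h3 => hpr ?_
      rw [hm, Nat.cast_pow] at h3
      exact (Nat.prime_dvd_prime_iff_eq Fact.out hM.deg).1
        ((CharP.cast_eq_zero_iff F p _).1 (pow_eq_zero_iff'.1 h3).1)
    rw [hc0, map_zero, fr.u_zero, one_mul] at h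
    exact ⟨σ, Subtype.ext h.symm⟩
  · exfalso
    have hpow : ∀ j : ℕ, ∃ ν : F,
        (g.1 ^ j) fr.z = algebraMap F K ν • fr.a + ((-1 : F) ^ j) • fr.z := by
      intro j
      induction j with
      | zero => exact ⟨0, by simp⟩
      | succ j ih =>
        obtain ⟨ν, hν⟩ := ih
        refine ⟨ν + (-1) ^ j * μ, ?_⟩
        rw [pow_succ']
        show g.1 ((g.1 ^ j) fr.z) = _
        rw [hν, map_add, algebraMap_smul, map_smul, map_smul, show g.1 fr.a = fr.a from g.2.2, h, algebraMap_smul,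
          algebraMap_smul, smul_sub, smul_smul, pow_succ, add_smul]
        module
    obtain ⟨ν, hν⟩ := hpow m
    rw [hgm, (hM.deg_odd.pow).neg_one_pow] at hν
    have := congrArg (fun y => B y fr.z) hν
    simp [fr.az, fr.zz] at this
    exact hM.two (mul_right_cancel₀ fr.δK (by linear_combination this : (2 : K) * _ = 0 * _))

/-- Away from the degree. -/
theorem point_coprime {p : ℕ} [Fact p.Prime] [CharP F p] (hT : TorZero B M)
    (hpr : p ≠ finrank F K) (g : pointFix M fr.a) : g ∈ lineSub M K fr.a := by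
  classical
  haveI : Finite (V ≃ₗ[F] V) := DFunLike.finite _
  haveI : Module.Finite F K := Module.Finite.of_finite
  haveI : CharP K p := charP_of_injective_algebraMap (algebraMap F K).injective p
  set r := finrank F K with hr
  haveI : Fact r.Prime := ⟨hM.deg⟩
  set H := (hM.autoG fr).range with hH
  have hcard : Nat.card H = r := by
    rw [Nat.card_congr (MonoidHom.ofInjective (hM.autoG_inj fr)).toEquiv.symm, natCard_aut]
  obtain ⟨P, hHP⟩ := (IsPGroup.of_card (n := 1) (G := H) (p := r)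
    (by rw [hcard, pow_one])).exists_le_sylow
  haveI : Nontrivial H := by
    rw [← Finite.one_lt_card_iff_nontrivial, hcard]; exact hM.deg.one_lt
  haveI : Nontrivial (P : Subgroup (pointFix M fr.a)) := by
    obtain ⟨x, y, hxy⟩ := exists_pair_ne H
    exact ⟨⟨x.1, hHP x.2⟩, ⟨y.1, hHP y.2⟩, fun h => hxy (Subtype.ext (congrArg (fun w : (P : Subgroup (pointFix M fr.a)) => w.1) h))⟩
  haveI := P.2.center_nontrivial
  obtain ⟨z, hz1⟩ := exists_ne (1 : Subgroup.center (P : Subgroup (pointFix M fr.a)))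
  have hzH : z.1.1 ∈ H := by
    obtain ⟨n, hn⟩ := P.2 z.1
    exact hM.mem_autoG_of_pow fr hT hpr (fun σ => congrArg Subtype.val
      (Subgroup.mem_center_iff.1 z.2 ⟨_, hHP ⟨σ, rfl⟩⟩).symm) (congrArg Subtype.val hn)
  have hzgen : Subgroup.zpowers z.1.1 = H := by
    refine Subgroup.eq_of_le_of_card_ge (Subgroup.zpowers_le.2 hzH) ?_
    rw [hcard]
    have h1 : Nat.card (Subgroup.zpowers z.1.1) ∣ r := by
      exact (Subgroup.card_dvd_of_le (Subgroup.zpowers_le.2 hzH)).trans (dvd_of_eq hcard)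
    rcases hM.deg.eq_one_or_self_of_dvd _ h1 with h | h
    · rw [Nat.card_zpowers, orderOf_eq_one_iff] at h
      exact absurd (Subtype.ext (Subtype.ext h)) hz1
    · exact h.ge
  have hPH : (P : Subgroup (pointFix M fr.a)) ≤ H := fun y hy => by
    obtain ⟨n, hn⟩ := P.2 ⟨y, hy⟩
    refine hM.mem_autoG_of_pow fr hT hpr (fun σ => ?_) (congrArg Subtype.val hn)
    obtain ⟨i, hi⟩ := (hzgen.symm ▸ ⟨σ, rfl⟩ : hM.autoG fr σ ∈ Subgroup.zpowers z.1.1)
    rw [← hi]
    exact Commute.zpow_right (congrArg Subtype.val (Subgroup.mem_center_iff.1 z.2 ⟨y, hy⟩)) i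
  have hPH' : (P : Subgroup (pointFix M fr.a)) = H := le_antisymm hPH hHP
  have hPC : Subgroup.normalizer ((P : Subgroup (pointFix M fr.a)) : Set (pointFix M fr.a))
      ≤ Subgroup.centralizer ((P : Subgroup (pointFix M fr.a)) : Set (pointFix M fr.a)) := by
    intro x hx
    rw [hPH'] at hx
    have hn : x.1 ∈ Subgroup.normalizer (fr.auto.range : Set (V ≃ₗ[F] V)) := by
      refine Subgroup.mem_normalizer_iff.2 fun y => ⟨?_, ?_⟩
      · rintro ⟨σ, rfl⟩
        obtain ⟨σ', hσ'⟩ := (Subgroup.mem_normalizer_iff.1 hx _).1 ⟨σ, rfl⟩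
        exact ⟨σ', congrArg Subtype.val hσ'⟩
      · rintro ⟨σ, hσ⟩
        obtain ⟨σ', hσ'⟩ := (Subgroup.mem_normalizer_iff''.1 hx _).1 ⟨σ, rfl⟩
        refine ⟨σ', ?_⟩
        have := congrArg Subtype.val hσ'
        change fr.auto σ' = x.1⁻¹ * fr.auto σ * x.1 at this
        rw [this, hσ]
        group
    refine Subgroup.mem_centralizer_iff.2 fun y hy => ?_
    obtain ⟨σ, rfl⟩ := hPH hy
    exact Subtype.ext ((hM.comm_of_normalise hT hpr fr x.2.1 x.2.2 hn).1 σ)
  haveI : Finite (Sylow r (pointFix M fr.a)) := inferInstance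
  refine hM.eq_line_of_normal fr hT (p := p) (MonoidHom.transferSylow P hPC).ker ?_ ?_ g
  · intro x hx hxL
    obtain ⟨k, τ, he⟩ := hM.exists_form fr hT hxL
    have hu : hM.uG fr k ∈ (MonoidHom.transferSylow P hPC).ker := by
      rw [MonoidHom.mem_ker]
      obtain ⟨n, hn⟩ := IsPGroup.iff_orderOf.1 P.2 (MonoidHom.transferSylow P hPC (hM.uG fr k))
      rw [← orderOf_eq_one_iff]
      refine Nat.eq_one_of_dvd_coprimes
        (((Nat.coprime_primes Fact.out hM.deg).2 hpr).pow_right n) ?_ (dvd_of_eq hn)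
      refine orderOf_dvd_of_pow_eq_one ?_
      rw [← map_pow, show hM.uG fr k ^ p = 1 from Subtype.ext (by
        show fr.u k ^ p = 1
        rw [fr.u_pow, nsmul_eq_mul, CharP.cast_eq_zero, zero_mul, fr.u_zero]), map_one]
    have hx' : x = hM.uG fr k * hM.autoG fr τ := Subtype.ext he
    have ha : hM.autoG fr τ ∈ (MonoidHom.transferSylow P hPC).ker := by
      have := mul_mem (inv_mem hu) hx
      rwa [hx', inv_mul_cancel_left] at this
    have h1 : hM.autoG fr τ = 1 := Subgroup.mem_bot.1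
      ((MonoidHom.ker_transferSylow_disjoint P hPC P P.2).le_bot ⟨ha, hHP ⟨τ, rfl⟩⟩)
    exact ⟨k, by rw [hx', h1, mul_one]⟩
  · intro k σ
    rw [MonoidHom.mem_ker]
    obtain ⟨n, hn⟩ := IsPGroup.iff_orderOf.1 P.2
      (MonoidHom.transferSylow P hPC (hM.uG fr (σ k - k)))
    rw [← orderOf_eq_one_iff]
    refine Nat.eq_one_of_dvd_coprimes
      (((Nat.coprime_primes Fact.out hM.deg).2 hpr).pow_right n) ?_ (dvd_of_eq hn)
    refine orderOf_dvd_of_pow_eq_one ?_
    rw [← map_pow, show hM.uG fr (σ k - k) ^ p = 1 from Subtype.ext (by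
      show fr.u _ ^ p = 1
      rw [fr.u_pow, nsmul_eq_mul, CharP.cast_eq_zero, zero_mul, fr.u_zero]), map_one]

/-- In the characteristic of the degree. -/
theorem point_char {p : ℕ} [Fact p.Prime] [CharP F p] (hT : TorZero B M)
    (hpr : p = finrank F K) (g : pointFix M fr.a) : g ∈ lineSub M K fr.a := by
  classical
  haveI : Finite (V ≃ₗ[F] V) := DFunLike.finite _
  haveI : Module.Finite F K := Module.Finite.of_finite
  haveI : CharP K p := charP_of_injective_algebraMap (algebraMap F K).injective p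
  set L := lineSub M K fr.a with hL
  have hτp : ∀ τ : K ≃ₐ[F] K, τ ^ p = 1 := fun τ => by
    rw [hpr, ← natCard_aut (F := F) (K := K)]; exact pow_card_eq_one'
  have hp' : IsPGroup p L := fun x => ⟨2, by
    obtain ⟨k, τ, he⟩ := hM.exists_form fr hT x.2
    have hpow : ∀ j : ℕ, ∃ k', (x.1.1 : V ≃ₗ[F] V) ^ j = fr.u k' * fr.auto (τ ^ j) := by
      intro j
      induction j with
      | zero => exact ⟨0, by rw [pow_zero, pow_zero, map_one, fr.u_zero, mul_one]⟩
      | succ j ih =>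
        obtain ⟨k', hk'⟩ := ih
        exact ⟨_, by rw [pow_succ, hk', he, fr.form_mul, pow_succ]⟩
    obtain ⟨k', hk'⟩ := hpow p
    refine Subtype.ext (Subtype.ext ?_)
    show (x.1.1 : V ≃ₗ[F] V) ^ p ^ 2 = 1
    rw [pow_two, pow_mul, hk', hτp, map_one, mul_one, fr.u_pow, nsmul_eq_mul, CharP.cast_eq_zero,
      zero_mul, fr.u_zero]⟩
  have huL : ∀ k, hM.uG fr k ∈ L := fun k => hM.form_mem_lineSub fr (k := k) (τ := 1)
    (by rw [map_one, mul_one]; rfl)
  obtain ⟨P, hP⟩ := exists_sylow_eq hp' fun y hy =>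
    hM.mem_of_conj fr hT one_ne_zero ((Subgroup.mem_normalizer_iff.1 hy _).1 (huL 1))
  -- fusion keeps the automorphism
  have hU : ∀ x y c : pointFix M fr.a, x ∈ L → y ∈ L → y = c * x * c⁻¹ →
      (∃ k, x = hM.uG fr k) → ∃ k, y = hM.uG fr k := by
    rintro x y c hx hy rfl ⟨k, rfl⟩
    by_cases hk : k = 0
    · exact ⟨0, Subtype.ext (by
        show c.1 * fr.u k * c.1⁻¹ = fr.u 0
        rw [hk, fr.u_zero, mul_one, mul_inv_cancel])⟩
    obtain ⟨l, σ, hc⟩ := hM.exists_form fr hT (hM.mem_of_conj fr hT hk hy)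
    refine ⟨σ k, Subtype.ext ?_⟩
    show c.1 * fr.u k * c.1⁻¹ = fr.u (σ k)
    rw [hc, mul_assoc (fr.u l), fr.auto_mul_u, ← mul_assoc, fr.u_add, add_comm, ← fr.u_add,
      mul_assoc (fr.u (σ k)), mul_inv_cancel_right]
  have hfus : ∀ x y c : pointFix M fr.a, x ∈ L → y ∈ L → y = c * x * c⁻¹ →
      ∀ k τ k' τ', x.1 = fr.u k * fr.auto τ → y.1 = fr.u k' * fr.auto τ' → τ = τ' := by
    intro x y c hx hy hyx k τ k' τ' he he'
    by_cases hτ : τ = 1
    · obtain ⟨l, hl⟩ := hU x y c hx hy hyx ⟨k, Subtype.ext (by rw [he, hτ, map_one, mul_one]; rfl)⟩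
      have := (fr.form_inj (k := k') (τ := τ') (k' := l) (τ' := 1)
        (by rw [← he', map_one, mul_one, hl]; rfl)).2
      rw [hτ, this]
    by_cases hτ' : τ' = 1
    · obtain ⟨l, hl⟩ := hU y x c⁻¹ hy hx (by rw [hyx]; group)
        ⟨k', Subtype.ext (by rw [he', hτ', map_one, mul_one]; rfl)⟩
      have := (fr.form_inj (k := k) (τ := τ) (k' := l) (τ' := 1)
        (by rw [← he, map_one, mul_one, hl]; rfl)).2
      rw [hτ', this]
    -- the centraliser of `y`
    have hu1 : ∀ {z : pointFix M fr.a} {l : K} {ρ : K ≃ₐ[F] K}, z.1 = fr.u l * fr.auto ρ →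
        Commute (hM.uG fr 1) z := fun {z l ρ} hz => Subtype.ext (by
      show fr.u 1 * z.1 = z.1 * fr.u 1
      rw [hz, ← mul_assoc, fr.u_add, add_comm, ← fr.u_add, mul_assoc, mul_assoc, fr.auto_mul_u,
        map_one])
    set C := Subgroup.centralizer ({y} : Set (pointFix M fr.a)) with hC
    have hu1C : hM.uG fr 1 ∈ C := Subgroup.mem_centralizer_singleton_iff.2 (hu1 he').eq
    have hCn : Subgroup.normalizer ((L.subgroupOf C) : Set C) ≤ L.subgroupOf C := fun d hd => by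
      have h1 : (⟨_, hu1C⟩ : C) ∈ L.subgroupOf C := Subgroup.mem_subgroupOf.2 (huL 1)
      have h2 := Subgroup.mem_subgroupOf.1 ((Subgroup.mem_normalizer_iff.1 hd _).1 h1)
      exact Subgroup.mem_subgroupOf.2 (hM.mem_of_conj fr hT one_ne_zero h2)
    obtain ⟨Q, hQ⟩ := exists_sylow_eq
      (hp'.comap_of_injective C.subtype C.subtype_injective) hCn
    set v : pointFix M fr.a := c * hM.uG fr 1 * c⁻¹ with hv
    have hvC : v ∈ C := by
      refine Subgroup.mem_centralizer_singleton_iff.2 ?_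
      rw [hyx, hv]
      have := (hu1 he).eq
      calc c * hM.uG fr 1 * c⁻¹ * (c * x * c⁻¹) = c * (hM.uG fr 1 * x) * c⁻¹ := by group
        _ = c * (x * hM.uG fr 1) * c⁻¹ := by rw [this]
        _ = c * x * c⁻¹ * (c * hM.uG fr 1 * c⁻¹) := by group
    have hvp : (⟨v, hvC⟩ : C) ^ p ^ 1 = 1 := Subtype.ext (by
      show v ^ p ^ 1 = 1
      rw [pow_one, hv, conj_pow, show hM.uG fr 1 ^ p = 1 from Subtype.ext (by
        show fr.u 1 ^ p = 1
        rw [fr.u_pow, nsmul_eq_mul, CharP.cast_eq_zero, zero_mul, fr.u_zero]), mul_one,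
        mul_inv_cancel])
    have hvP : IsPGroup p (Subgroup.zpowers (⟨v, hvC⟩ : C)) := by
      rintro ⟨w, i, rfl⟩
      refine ⟨1, Subtype.ext ?_⟩
      show ((⟨v, hvC⟩ : C) ^ i) ^ p ^ 1 = 1
      rw [← zpow_natCast, zpow_comm, zpow_natCast, hvp, one_zpow]
    obtain ⟨Q', hQ'⟩ := hvP.exists_le_sylow
    obtain ⟨d, hd⟩ := MulAction.exists_smul_eq C Q Q'
    have hmem := hQ' (Subgroup.mem_zpowers _)
    rw [← hd] at hmem
    change _ ∈ MulAut.conj d • (Q : Subgroup C) at hmem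
    rw [Subgroup.mem_pointwise_smul_iff_inv_smul_mem, hQ] at hmem
    change (d.1⁻¹ * (c * hM.uG fr 1 * c⁻¹) * (d.1⁻¹)⁻¹) ∈ L at hmem
    have hdc : d.1⁻¹ * c ∈ L := hM.mem_of_conj fr hT one_ne_zero (by
      convert hmem using 1; group)
    obtain ⟨l, σ, hcl⟩ := hM.exists_form fr hT hdc
    have hdy : d.1⁻¹ * c * x = y * (d.1⁻¹ * c) := by
      have h1 : d.1 * y = y * d.1 := Subgroup.mem_centralizer_singleton_iff.1 d.2
      have h2 : y * c = c * x := by rw [hyx]; group
      calc d.1⁻¹ * c * x = d.1⁻¹ * (y * c) := by rw [h2, mul_assoc]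
        _ = d.1⁻¹ * (y * d.1) * (d.1⁻¹ * c) := by group
        _ = d.1⁻¹ * (d.1 * y) * (d.1⁻¹ * c) := by rw [h1]
        _ = y * (d.1⁻¹ * c) := by group
    have e := congrArg Subtype.val hdy
    change (d.1⁻¹ * c : pointFix M fr.a).1 * x.1 = y.1 * (d.1⁻¹ * c : pointFix M fr.a).1 at e
    rw [hcl, he, he', fr.form_mul, fr.form_mul] at e
    exact mul_left_cancel ((fr.form_inj e).2.trans (hM.aut_comm τ' σ))
  set W : Subgroup (pointFix M fr.a) := fr.uHom.range.comap (pointFix M fr.a).subtype with hW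
  have hfocal : L.focalSubgroup ≤ W := by
    rw [Subgroup.focalSubgroup_def, Subgroup.closure_le]
    rintro _ ⟨hgL, x, hx, c, rfl⟩
    have hy : c * x * c⁻¹ ∈ L := by
      have := mul_mem (inv_mem hgL) hx
      simpa [commutatorElement_def, mul_assoc] using this
    obtain ⟨k, τ, he⟩ := hM.exists_form fr hT hx
    obtain ⟨k', τ', he'⟩ := hM.exists_form fr hT hy
    have hττ := hfus x _ c hx hy rfl k τ k' τ' he he'
    show (⁅x, c⁆).1 ∈ fr.uHom.range
    have e : (⁅x, c⁆ : pointFix M fr.a) = x * (c * x * c⁻¹)⁻¹ := by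
      rw [commutatorElement_def]; group
    refine fr.mem_uHom.2 ⟨k - k', ?_⟩
    rw [e]
    show x.1 * ((c * x * c⁻¹ : pointFix M fr.a).1)⁻¹ = _
    rw [he, he', hττ, mul_inv_rev, ← mul_assoc, mul_inv_cancel_right, mul_inv_eq_iff_eq_mul,
      fr.u_add, sub_add_cancel]
  refine hM.eq_line_of_normal fr hT (p := p) (P : Subgroup (pointFix M fr.a)).transferFocal.ker
    ?_ ?_ g
  · intro x hx hxL
    have h1 : x ∈ (P : Subgroup (pointFix M fr.a)).transferFocal.ker ⊓ P :=
      ⟨hx, by show x ∈ (P : Subgroup (pointFix M fr.a)); rw [hP]; exact hxL⟩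
    rw [Subgroup.ker_transferFocal_inf_eq_focalSubgroup] at h1
    obtain ⟨k, hk⟩ := fr.mem_uHom.1 (hfocal (hP ▸ h1))
    exact ⟨k, Subtype.ext hk⟩
  · intro k σ
    refine Abelianization.commutator_subset_ker _ ?_
    have e : hM.uG fr (σ k - k) = ⁅hM.autoG fr σ, hM.uG fr k⁆ := Subtype.ext (by
      show fr.u (σ k - k) = fr.auto σ * fr.u k * (fr.auto σ)⁻¹ * (fr.u k)⁻¹
      rw [fr.auto_mul_u, mul_inv_cancel_right, eq_mul_inv_iff_mul_eq, fr.u_add, sub_add_cancel])
    rw [e]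
    exact Subgroup.commutator_mem_commutator (Subgroup.mem_top _) (Subgroup.mem_top _)

end

/-- Images of singular lines are equal or disjoint. -/
theorem good (hT : TorZero B M) {a : V} (ha : a ≠ 0) (hs : B a a = 0) {g : V ≃ₗ[F] V} (hg : g ∈ M)
    (hne : img K a g ≠ line F K a) : img K a g ⊓ line F K a = ⊥ := by
  by_contra hmeet
  obtain ⟨x, hx, hx0⟩ := (Submodule.ne_bot_iff _).1 hmeet
  obtain ⟨hxg, hxl⟩ := hx
  obtain ⟨l, rfl⟩ := mem_line.1 hxl
  have hl : l ≠ 0 := fun h => hx0 (by rw [h, zero_smul])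
  obtain ⟨fr, hfr⟩ := hM.exists_frame (a := l • a) (smul_ne_zero hl ha) (by simp [hs])
  have hline : line F K (l • a) = line F K a := by
    ext y
    constructor
    · intro hy
      obtain ⟨k, rfl⟩ := mem_line.1 hy
      exact mem_line.2 ⟨k * l, mul_smul k l a⟩
    · intro hy
      obtain ⟨k, rfl⟩ := mem_line.1 hy
      exact mem_line.2 ⟨k * l⁻¹, by rw [smul_smul, inv_mul_cancel_right₀ hl]⟩
  have himg : img K (l • a) g = img K a g := by rw [img, img, hline]
  apply hne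
  rw [← himg, ← hline, ← hfr]
  rw [← himg, ← hfr] at hxg
  obtain ⟨w, hw, hwg⟩ := hxg
  have hfix : (g * fr.u 1 * g⁻¹) fr.a = fr.a := by
    show g (fr.u 1 (g.symm fr.a)) = fr.a
    rw [← hwg]
    show g (fr.u 1 (g.symm (g w))) = g w
    rw [g.symm_apply_apply, fr.u_line 1 hw]
  have hv : g * fr.u 1 * g⁻¹ ∈ M := mul_mem (mul_mem hg (hM.u_mem fr 1)) (inv_mem hg)
  obtain ⟨p, hp⟩ := CharP.exists F
  haveI : Fact p.Prime := ⟨CharP.char_is_prime F p⟩
  let v : pointFix M fr.a := ⟨_, hv, hfix⟩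
  have hvL : v ∈ lineSub M K fr.a := by
    by_cases hpr : p = finrank F K
    · exact hM.point_char fr hT hpr v
    · exact hM.point_coprime fr hT hpr v
  refine hM.img_eq_of_conj hT fr hg one_ne_zero (fun k => ?_) hfix
  have h' : v.1 (k • fr.a) ∈ img K fr.a v.1 := ⟨_, mem_line.2 ⟨k, rfl⟩, rfl⟩
  rw [mem_lineSub_iff.1 hvL] at h'
  exact mem_line_iff_span.1 h'

end OrThree

end Cfsg.Agent.FieldExtMax
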