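/-
With trivial maps `P` an overgroup normalises the field: singular lines go to singular lines.

Main results: `OrThree.exists_singular`, `OrThree.singular_img`, `OrThree.norms_of_torZero`.
-/
import Cfsg.Agent.Lib.FieldExtMax.Three.Point

set_option autoImplicit false
set_option linter.unusedSectionVars false

namespace Cfsg.Agent.FieldExtMax

open Module

variable {F K V : Type*} [Field F] [Finite F] [Field K] [Finite K] [Algebra F K]
  [AddCommGroup V] [Module F V] [Module K V] [IsScalarTower F K V] [Finite V]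
variable {B : V →ₗ[K] V →ₗ[K] K} {M : Subgroup (V ≃ₗ[F] V)}

namespace OrThree

variable (hM : OrThree B M)
include hM

theorem exists_singular : ∃ a : V, a ≠ 0 ∧ B a a = 0 := by
  haveI : Module.Finite K V := Module.Finite.of_finite
  obtain ⟨w, -, hw⟩ := hM.exists_norm (⊤ : Submodule K V) (by rw [finrank_top, hM.dim3]; omega)
    (fun x _ h => hM.nondeg x fun y => h y Submodule.mem_top) 1
  set P := LinearMap.ker (B w) with hP
  have hnd : ∀ z ∈ P, (∀ y ∈ P, B z y = 0) → z = 0 := fun z hz h => hM.nondeg z fun y => by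
    have h1 := h (y - B w y • w) (by
      show B w _ = 0
      rw [map_sub, map_smul, hw, smul_eq_mul, mul_one, sub_self])
    have h2 : B z w = 0 := by rw [hM.symm]; exact hz
    rwa [map_sub, map_smul, h2, smul_zero, sub_zero] at h1
  have hdim : 2 ≤ finrank K P := by
    have h1 := LinearMap.finrank_range_add_finrank_ker (B w)
    have h2 := Submodule.finrank_le (LinearMap.range (B w))
    rw [Module.finrank_self] at h2
    rw [hM.dim3, ← hP] at h1
    omega
  obtain ⟨z, hz, hzz⟩ := hM.exists_norm P hdim hnd (-1)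
  have hwz : B w z = 0 := hz
  have hzw : B z w = 0 := by rw [hM.symm]; exact hwz
  refine ⟨w + z, fun h => ?_, by simp [hw, hzz, hwz, hzw]⟩
  have := congrArg (B w) h
  rw [map_add, hw, hwz, add_zero, map_zero] at this
  exact one_ne_zero this

lemma img_eq_of_common (hT : TorZero B M) {a : V} (ha : a ≠ 0) (hs : B a a = 0)
    {g h : V ≃ₗ[F] V} (hg : g ∈ M) (hh : h ∈ M) {x : V} (hx0 : x ≠ 0) (hxg : x ∈ img K a g)
    (hxh : x ∈ img K a h) : img K a g = img K a h := by
  haveI : Module.Finite F V := Module.Finite.of_finite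
  by_contra hne
  have h1 : img K a (h⁻¹ * g) ≠ line F K a := fun he => hne (by
    have := congrArg (Submodule.map (h : V →ₗ[F] V)) he
    rw [← img_mul, mul_inv_cancel_left] at this
    exact this)
  have h2 := finrank_img_inf (F := F) (K := K) a g h
  rw [hM.good hT ha hs (mul_mem (inv_mem hh) hg) h1, finrank_bot] at h2
  have h3 : x ∈ img K a g ⊓ img K a h := ⟨hxg, hxh⟩
  rw [Submodule.finrank_eq_zero.1 h2] at h3
  exact hx0 h3

/-- Singular lines go to singular lines. -/
theorem singular_img (hT : TorZero B M) (fr : Frame B F) {g : V ≃ₗ[F] V} (hg : g ∈ M) :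
    ∃ c, c ≠ 0 ∧ B c c = 0 ∧ img K fr.a g = line F K c := by
  haveI : Module.Finite F V := Module.Finite.of_finite
  haveI : Module.Finite F K := Module.Finite.of_finite
  by_cases hsing : ∃ x ∈ img K fr.a g, x ≠ 0 ∧ B x x = 0
  · obtain ⟨x, hx, hx0, hxs⟩ := hsing
    obtain ⟨h, hh, hhl, -, e, he, hha⟩ := hM.exists_move fr hx0 hxs
    have hline : img K fr.a h = line F K x := by
      ext y
      constructor
      · rintro ⟨w, hw, rfl⟩
        obtain ⟨k, rfl⟩ := mem_line.1 hw
        exact mem_line.2 ⟨k * e, by show _ = h (k • fr.a); rw [hhl, hha, smul_smul]⟩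
      · intro hy
        obtain ⟨k, rfl⟩ := mem_line.1 hy
        exact ⟨(k / e) • fr.a, mem_line.2 ⟨_, rfl⟩, by
          show h ((k / e) • fr.a) = _
          rw [hhl, hha, smul_smul, div_mul_cancel₀ _ he]⟩
    refine ⟨x, hx0, hxs, ?_⟩
    rw [← hline]
    exact hM.img_eq_of_common hT fr.ne_a fr.aa hg hh hx0 hx
      (by rw [hline]; exact mem_line.2 ⟨1, one_smul _ _⟩)
  exfalso
  push Not at hsing
  have hx : g fr.a ∈ img K fr.a g := ⟨fr.a, mem_line.2 ⟨1, one_smul _ _⟩, rfl⟩
  have hx0 : g fr.a ≠ 0 := fun h => fr.ne_a ((LinearEquiv.map_eq_zero_iff _).1 h)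
  have hxx := hsing _ hx hx0
  obtain ⟨T, hTx⟩ := hM.exists_tri hxx
  obtain ⟨ℓ, t, s, μ, ht⟩ := hM.exists_torus T
  have htx : ∀ k : K, t (k • g fr.a) = k • g fr.a := fun k => by rw [← hTx]; exact ht.rot.apply_x k
  have heq : img K fr.a (t * g) = img K fr.a g := by
    refine hM.img_eq_of_common hT fr.ne_a fr.aa (mul_mem ht.mem hg) hg hx0 ?_ hx
    refine ⟨fr.a, mem_line.2 ⟨1, one_smul _ _⟩, ?_⟩
    show t (g fr.a) = _
    simpa using htx 1
  have hgi : ∀ y, g (g⁻¹ y) = y := fun y => g.apply_symm_apply y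
  have hig : ∀ y, g⁻¹ (g y) = y := fun y => g.symm_apply_apply y
  set v := g⁻¹ * t * g with hv
  have hvM : v ∈ M := mul_mem (mul_mem (inv_mem hg) ht.mem) hg
  have hva : v fr.a = fr.a := by
    show g⁻¹ (t (g fr.a)) = _
    rw [show t (g fr.a) = g fr.a by simpa using htx 1, hig]
  have hline : ∀ l : K, v (l • fr.a) ∈ K ∙ fr.a := fun l => by
    have h1 : t (g (l • fr.a)) ∈ img K fr.a (t * g) := ⟨_, mem_line.2 ⟨l, rfl⟩, rfl⟩
    rw [heq] at h1
    obtain ⟨w, hw, hwe⟩ := h1
    show g⁻¹ (t (g (l • fr.a))) ∈ K ∙ fr.a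
    rw [← hwe]
    show g⁻¹ (g w) ∈ K ∙ fr.a
    rw [hig]
    exact mem_line_iff_span.1 hw
  obtain ⟨k, τ, hform⟩ := hM.stab_a hT fr hvM hline hva
  set W : Submodule F V := (line F K (g fr.a)).map ((g⁻¹ : V ≃ₗ[F] V) : V →ₗ[F] V) with hW
  have hWfix : ∀ y ∈ W, v y = y := by
    rintro _ ⟨y, hy, rfl⟩
    obtain ⟨l, rfl⟩ := mem_line.1 hy
    show g⁻¹ (t (g (g⁻¹ (l • g fr.a)))) = g⁻¹ (l • g fr.a)
    rw [hgi, htx]
  have hτ : τ = 1 := by
    by_contra h
    have h1 := hM.finrank_fix_le fr k h W fun y hy => hform ▸ hWfix y hy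
    rw [hW, LinearEquiv.finrank_map_eq, finrank_line hx0] at h1
    have h3 := hM.three_le
    -- then the degree is three, and the torus element has another order
    have hpow : ∀ j : ℕ, ∃ e, (fr.u k * fr.auto τ) ^ j = fr.u e * fr.auto (τ ^ j) := by
      intro j
      induction j with
      | zero => exact ⟨0, by rw [pow_zero, pow_zero, map_one, fr.u_zero, mul_one]⟩
      | succ j ih =>
        obtain ⟨e, he⟩ := ih
        exact ⟨_, by rw [pow_succ, he, fr.form_mul, pow_succ]⟩
    obtain ⟨e, he⟩ := hpow ℓ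
    have hv1 : v ^ ℓ = 1 := by
      have := conj_pow (i := ℓ) (a := g⁻¹) (b := t)
      rw [inv_inv, ht.pow_eq, mul_one, inv_mul_cancel] at this
      exact this
    rw [← hform, hv1] at he
    have hτℓ : τ ^ ℓ = 1 := (fr.form_inj (k := 0) (τ := 1) (k' := e) (τ' := τ ^ ℓ)
      (by rw [fr.u_zero, map_one, one_mul]; exact he)).2.symm
    refine h (autPow_eq_one τ hτℓ ?_)
    rw [show finrank F K = 3 by omega]
    exact (Nat.coprime_primes ht.prime Nat.prime_three).2 (ht.not_fermat 1)
  rw [hτ, map_one, mul_one] at hform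
  have hk : k ≠ 0 := fun h => ht.ne_one (by
    rw [hv, h, fr.u_zero, mul_assoc, inv_mul_eq_one] at hform
    exact mul_eq_right.1 hform.symm)
  refine hxx (lam_ext hM.lam_ne fun l => ?_)
  have himg : ∀ l : K, l • g fr.a ∈ img K fr.a g := fun l =>
    ⟨g⁻¹ (l • g fr.a), hM.u_fix fr hk (hform ▸ hWfix _ ⟨_, mem_line.2 ⟨l, rfl⟩, rfl⟩), hgi _⟩
  have h := hM.toOrCore.lam_img fr.aa hg (himg l) (himg 1)
  rw [one_smul, map_smul, LinearMap.smul_apply, smul_eq_mul] at h
  rw [h, mul_zero, map_zero]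

/-- Trivial maps `P` leave the normaliser of the field. -/
theorem norms_of_torZero (hT : TorZero B M) {g : V ≃ₗ[F] V} (hg : g ∈ M) : Norms K g := by
  classical
  obtain ⟨a, ha, hs⟩ := hM.exists_singular
  obtain ⟨fr, rfl⟩ := hM.exists_frame ha hs
  have key : ∀ k : K, ∃ c : K, ∀ x, g (c • x) = k • g x := by
    intro k
    let J : V →ₗ[F] V := ((g⁻¹ : V ≃ₗ[F] V) : V →ₗ[F] V) ∘ₗ
      ((k • LinearMap.id : V →ₗ[K] V).restrictScalars F) ∘ₗ (g : V →ₗ[F] V)
    have hgJ : ∀ x, g (J x) = k • g x := fun x => g.apply_symm_apply _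
    have heig : ∀ v, B v v = 0 → ∃ c : K, J v = c • v := by
      intro v hvs
      by_cases hv : v = 0
      · exact ⟨0, by rw [hv, map_zero, smul_zero]⟩
      obtain ⟨fv, hfv⟩ := hM.exists_frame hv hvs
      obtain ⟨c, -, -, hc⟩ := hM.singular_img hT fv hg
      rw [hfv] at hc
      have h1 : g v ∈ img K v g := ⟨v, mem_line.2 ⟨1, one_smul _ _⟩, rfl⟩
      rw [hc] at h1
      obtain ⟨e, he⟩ := mem_line.1 h1
      have h2 : k • g v ∈ img K v g := by
        rw [hc, ← he, smul_smul]; exact mem_line.2 ⟨_, rfl⟩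
      obtain ⟨y, hy, hyg⟩ := h2
      obtain ⟨d, rfl⟩ := mem_line.1 hy
      refine ⟨d, g.injective ?_⟩
      rw [hgJ]
      exact hyg.symm
    have hδ := fr.δK
    have h2 := hM.two
    -- two singular vectors around a multiple of `z`
    have hpair : ∀ p q w : K, 2 * (p * q) + w * w * algebraMap F K fr.δ = 0 → w ≠ 0 →
        ∃ c : K, J (p • fr.a) + J (p • fr.a) + (J (q • fr.a') + J (q • fr.a'))
          = (c + c) • (p • fr.a + q • fr.a') ∧ J (w • fr.z) + J (w • fr.z) = (c + c) • (w • fr.z) := by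
      intro p q w hsing hw
      have hv : ∀ w' : K, w' * w' = w * w →
          B (p • fr.a + q • fr.a' + w' • fr.z) (p • fr.a + q • fr.a' + w' • fr.z) = 0 := fun w' e => by
        simp [fr.aa, fr.a'a', fr.aa', fr.a'a, fr.az, fr.za, fr.a'z, fr.za', fr.zz]
        linear_combination hsing + algebraMap F K fr.δ * e
      obtain ⟨c₁, h₁⟩ := heig _ (hv w rfl)
      obtain ⟨c₂, h₂⟩ := heig _ (hv (-w) (by ring))
      have hsum : J (p • fr.a) + J (p • fr.a) + (J (q • fr.a') + J (q • fr.a'))
          = c₁ • (p • fr.a + q • fr.a' + w • fr.z) + c₂ • (p • fr.a + q • fr.a' + (-w) • fr.z) := by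
        rw [← h₁, ← h₂, neg_smul]
        simp only [map_add, map_neg]
        abel
      have hdiff : J (w • fr.z) + J (w • fr.z)
          = c₁ • (p • fr.a + q • fr.a' + w • fr.z) - c₂ • (p • fr.a + q • fr.a' + (-w) • fr.z) := by
        rw [← h₁, ← h₂, neg_smul]
        simp only [map_add, map_neg]
        abel
      obtain ⟨α, hα⟩ := heig (p • fr.a) (by simp [fr.aa])
      obtain ⟨β, hβ⟩ := heig (q • fr.a') (by simp [fr.a'a'])
      have hc : c₁ = c₂ := by
        have e := congrArg (fun y => B y fr.z) hsum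
        simp [hα, hβ, fr.az, fr.a'z, fr.zz] at e
        exact mul_right_cancel₀ (mul_ne_zero hw hδ) (by linear_combination -e)
      subst hc
      refine ⟨c₁, ?_, ?_⟩
      · rw [hsum, neg_smul]; module
      · rw [hdiff, neg_smul]; module
    set h := (2 : K)⁻¹
    -- the constant
    obtain ⟨c, hc⟩ := heig fr.a fr.aa
    have hzc : J fr.z = c • fr.z ∧ ∀ l : K, J (l • fr.a) = c • l • fr.a ∧
        J (l • fr.a') = c • l • fr.a' ∧ J (l • fr.z) = c • l • fr.z := by
      have hmain : ∀ l : K, l ≠ 0 → ∃ d : K, J (l • fr.a) = d • l • fr.a ∧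
          J ((-(h * algebraMap F K fr.δ) / l) • fr.a')
            = d • (-(h * algebraMap F K fr.δ) / l) • fr.a' ∧ J fr.z = d • fr.z := by
        intro l hl
        obtain ⟨d, e1, e2⟩ := hpair l (-(h * algebraMap F K fr.δ) / l) 1
          (by simp only [h]; field_simp; ring) one_ne_zero
        obtain ⟨α, hα⟩ := heig (l • fr.a) (by simp [fr.aa])
        obtain ⟨β, hβ⟩ := heig ((-(h * algebraMap F K fr.δ) / l) • fr.a') (by simp [fr.a'a'])
        have hq : -(h * algebraMap F K fr.δ) / l ≠ 0 :=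
          div_ne_zero (neg_ne_zero.2 (mul_ne_zero (inv_ne_zero h2) hδ)) hl
        rw [hα, hβ] at e1
        have a1 := congrArg (fun y => B y fr.a') e1
        have a2 := congrArg (fun y => B y fr.a) e1
        simp only [map_add, map_smul, LinearMap.add_apply, LinearMap.smul_apply, smul_eq_mul,
          fr.aa', fr.a'a', fr.aa, fr.a'a, mul_one, mul_zero, add_zero, zero_add] at a1 a2
        have hα' : α = d := mul_right_cancel₀ (mul_ne_zero h2 hl) (by linear_combination a1)
        have hβ' : β = d := mul_right_cancel₀ (mul_ne_zero h2 hq) (by linear_combination a2)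
        refine ⟨d, hα.trans (by rw [hα']), hβ.trans (by rw [hβ']), ?_⟩
        rw [one_smul, ← two_smul K, ← two_smul K d, smul_eq_mul, mul_smul] at e2
        exact smul_right_injective V h2 e2
      have hz : J fr.z = c • fr.z := by
        obtain ⟨d, d1, -, d3⟩ := hmain 1 one_ne_zero
        rw [one_smul, hc] at d1
        rwa [← smul_inj fr.ne_a d1] at d3
      have hz0 : fr.z ≠ 0 := fun h0 => hδ (by rw [← fr.zz, h0, map_zero])
      have hall : ∀ l : K, J (l • fr.a) = c • l • fr.a ∧ J (l • fr.a') = c • l • fr.a' := by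
        intro l
        by_cases hl : l = 0
        · simp [hl]
        refine ⟨?_, ?_⟩
        · obtain ⟨d, d1, -, d3⟩ := hmain l hl
          rwa [smul_inj hz0 (d3.symm.trans hz)] at d1
        · have hq : -(h * algebraMap F K fr.δ) / l ≠ 0 :=
            div_ne_zero (neg_ne_zero.2 (mul_ne_zero (inv_ne_zero h2) hδ)) hl
          obtain ⟨d, -, d2, d3⟩ := hmain _ hq
          rw [smul_inj hz0 (d3.symm.trans hz)] at d2
          have hql : -(h * algebraMap F K fr.δ) / (-(h * algebraMap F K fr.δ) / l) = l := by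
            rw [div_div_cancel₀]
            exact neg_ne_zero.2 (mul_ne_zero (inv_ne_zero h2) hδ)
          rwa [hql] at d2
      refine ⟨hz, fun l => ⟨(hall l).1, (hall l).2, ?_⟩⟩
      by_cases hl : l = 0
      · simp [hl]
      obtain ⟨d, e1, e2⟩ := hpair 1 (-(h * (l * l) * algebraMap F K fr.δ)) l
        (by simp only [h]; field_simp; ring) hl
      rw [(hall 1).1, (hall _).2] at e1
      have a1 := congrArg (fun y => B y fr.a') e1
      simp only [map_add, map_smul, LinearMap.add_apply, LinearMap.smul_apply, smul_eq_mul,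
        fr.aa', fr.a'a', mul_one, mul_zero, add_zero] at a1
      have hcd : c = d := mul_right_cancel₀ h2 (by linear_combination a1)
      subst hcd
      rw [← two_smul K, ← two_smul K c, smul_eq_mul, mul_smul] at e2
      exact smul_right_injective V h2 e2
    refine ⟨c, fun x => ?_⟩
    rw [← hgJ]
    congr 1
    rw [fr.dec x, map_add, map_add, (hzc.2 _).1, (hzc.2 _).2.1, (hzc.2 _).2.2, smul_add, smul_add]
  choose f hf using key
  have hinj : Function.Injective f := fun k l hkl => by
    have h := (hf k fr.a).symm.trans ((congrArg (fun e => g (e • fr.a)) hkl).trans (hf l fr.a))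
    exact smul_inj (fun h0 => fr.ne_a ((LinearEquiv.map_eq_zero_iff g).1 h0)) h
  intro k
  obtain ⟨j, rfl⟩ := Finite.surjective_of_injective hinj k
  exact ⟨j, fun x => hf j x⟩

end OrThree

end Cfsg.Agent.FieldExtMax
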