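/-
The orthogonal normaliser of a self-adjoint field of prime degree `r` on a space of dimension `3 r`
is maximal.

Main results: `or_cases_three`.
-/
import Cfsg.Agent.Lib.FieldExtMax.OrMatrix
import Cfsg.Agent.Lib.FieldExtMax.Three.Semi
import Cfsg.Agent.Lib.FieldExtMax.Three.Meet
import Cfsg.Agent.Lib.Orth.Derange
import Mathlib.LinearAlgebra.Matrix.GeneralLinearGroup.Defs

set_option autoImplicit false
set_option linter.unusedSectionVars false

namespace Cfsg.Agent.FieldExtMax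

open Module Matrix Transvect Cfsg
open QuadraticMap (polar)
open Orth (IsoGrp ap eich)
open scoped commutatorElement

variable {ι : Type} [Fintype ι] [DecidableEq ι] {F : Type*} [Field F] [Fintype F]
variable {Q : QuadraticForm F (ι → F)}

attribute [-simp] app_apply

/-- Three-dimensional case: between the normaliser in `Ω` and `Ω` there is nothing. -/
theorem or_cases_three_aux {L : Type*} [Field L] [Finite L] [Algebra F L] {r : ℕ} (hr : r.Prime)
    (j : L →ₐ[F] Matrix ι ι F) (hdeg : finrank F L = r) (hG : Orth.Good Q) (h2 : (2 : F) ≠ 0)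
    (h3r : 3 ≤ r) (hn3 : Fintype.card ι = 3 * r)
    {K : Subalgebra F (Matrix ι ι F)} (hjK : ∀ x, x ∈ K ↔ ∃ l, j l = x)
    (hsa : Geo.IsSelfAdjointFor (polar ⇑Q) K) :
    (∀ M : Subgroup (GL ι F), Geo.subalgebraNormalizer K ⊓ Geo.omegaGL ⇑Q ≤ M →
      M ≤ Geo.omegaGL ⇑Q → M ≤ Geo.subalgebraNormalizer K ∨ Geo.omegaGL ⇑Q ≤ M) ∧
    (∃ g ∈ Geo.omegaGL ⇑Q, g ∉ Geo.subalgebraNormalizer K) := by
  classical
  haveI : Module.Finite F L := Module.Finite.of_finite
  have := hr.two_le
  haveI : Nonempty ι := Fintype.card_pos_iff.1 (by omega)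
  let ρ : L →+* ((ι → F) →ₗ[F] (ι → F)) :=
    (Matrix.toLinAlgEquiv' : Matrix ι ι F ≃ₐ[F] _).toAlgHom.toRingHom.comp j.toRingHom
  letI : Module L (ι → F) := Module.compHom _ ρ
  have hsmul : ∀ (k : L) (x : ι → F), k • x = j k *ᵥ x := fun k x => by
    show ρ k x = _
    simp [ρ]
  haveI : IsScalarTower F L (ι → F) := ⟨fun c k x => by
    rw [hsmul, hsmul, map_smul, Matrix.smul_mulVec]⟩
  have hNdim : r * finrank L (ι → F) = Fintype.card ι := by
    have h := Module.finrank_mul_finrank F L (ι → F)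
    rwa [Module.finrank_fintype_fun_eq_card, hdeg] at h
  set lam : Dual F L := Algebra.trace F L with hlamdef
  have hl : lam ≠ 0 := Algebra.trace_ne_zero F L
  obtain ⟨B, hB⟩ := exists_form (f := polar ⇑Q)
    ⟨fun x y v => Orth.pl_add_left Q x y v, fun c x v => Orth.pl_smul_left Q c x v,
      fun v x y => Orth.pl_add_right Q v x y, fun c v x => Orth.pl_smul_right Q c v x⟩
    (L := L) (fun k u v => by
      rw [hsmul, hsmul]; exact hsa _ ((hjK _).2 ⟨k, rfl⟩) u v) hl
  have hadj : ∀ (k : L) u v, polar ⇑Q (k • u) v = polar ⇑Q u (k • v) := fun k u v => by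
    rw [hsmul, hsmul]; exact hsa _ ((hjK _).2 ⟨k, rfl⟩) u v
  have hsymm : ∀ x y, B x y = B y x := fun x y => lam_ext hl fun k => by
    rw [← smul_eq_mul, ← smul_eq_mul, ← LinearMap.map_smul₂, hB, ← map_smul, hB, hadj,
      Orth.pl_comm, ← hadj, Orth.pl_comm]
  have hnd : ∀ x, (∀ y, B x y = 0) → x = 0 := fun x hx => hG.nd.1 x fun y => by
    show polar ⇑Q x y = 0
    rw [← hB, hx, map_zero]
  have h2L : (2 : L) ≠ 0 := fun h => h2 (by
    apply (algebraMap F L).injective
    rw [map_ofNat, h, map_zero])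
  have hdim : finrank L (ι → F) = 3 :=
    mul_left_cancel₀ hr.ne_zero (by rw [hNdim, hn3, mul_comm])
  have hn : 5 ≤ Fintype.card ι := by omega
  have hnorm : ∀ g : GL ι F, g ∈ Geo.subalgebraNormalizer K ↔ Norms L (app g) :=
    fun g => mem_normalizer_iff j hjK hsmul g
  have happ : ∀ e : (ι → F) ≃ₗ[F] (ι → F), ∃ g : GL ι F, app g = e := fun e => by
    refine ⟨⟨LinearMap.toMatrix' (e : (ι → F) →ₗ[F] ι → F),
      LinearMap.toMatrix' (e.symm : (ι → F) →ₗ[F] ι → F), ?_, ?_⟩, ?_⟩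
    · rw [← LinearMap.toMatrix'_comp]; simp
    · rw [← LinearMap.toMatrix'_comp]; simp
    · ext x : 1
      simp [app_apply, LinearMap.toMatrix'_mulVec]
  have hiso : ∀ g : GL ι F, (∀ x y, B (app g x) (app g y) = B x y) → g ∈ isometryGroup F ⇑Q := by
    intro g hg x _
    show Q (app g x) = Q x
    have h1 := hB (app g x) (app g x)
    rw [hg, hB, Orth.pl_self, Orth.pl_self] at h1
    exact (mul_left_cancel₀ h2 h1).symm
  have hthree : ∀ M : Subgroup (GL ι F),
      Geo.subalgebraNormalizer K ⊓ Geo.omegaGL ⇑Q ≤ M → M ≤ Geo.omegaGL ⇑Q →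
      OrThree B (M.map app) := fun M hM hMΩ =>
    { deg := by rw [hdeg]; exact hr
      symm := hsymm
      nondeg := hnd
      lam_ne := hl
      two := h2L
      dim3 := hdim
      three_le := by rw [hdeg]; exact h3r
      comm := fun g h hgl hgB hhl hhB => by
        obtain ⟨g', rfl⟩ := happ g
        obtain ⟨h', rfl⟩ := happ h
        refine ⟨g' * h' * g'⁻¹ * h'⁻¹, hM ⟨?_, ?_⟩, by simp⟩
        · have hg0 : g' ∈ Geo.subalgebraNormalizer K := (hnorm g').2 fun k => ⟨k, hgl k⟩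
          have hh0 : h' ∈ Geo.subalgebraNormalizer K := (hnorm h').2 fun k => ⟨k, hhl k⟩
          exact (Geo.subalgebraNormalizer K).mul_mem ((Geo.subalgebraNormalizer K).mul_mem
            ((Geo.subalgebraNormalizer K).mul_mem hg0 hh0)
            ((Geo.subalgebraNormalizer K).inv_mem hg0)) ((Geo.subalgebraNormalizer K).inv_mem hh0)
        · exact Orth.mem_omegaGL_iff.2 ⟨⁅(⟨g', hiso g' hgB⟩ : IsoGrp Q), ⟨h', hiso h' hhB⟩⁆,
            Subgroup.commutator_mem_commutator (Subgroup.mem_top _) (Subgroup.mem_top _), rfl⟩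
      pres := by
        rintro _ ⟨g, hg, rfl⟩ x y
        obtain ⟨h, -, rfl⟩ := Orth.mem_omegaGL_iff.1 (hMΩ hg)
        show lam _ = lam _
        rw [hB, hB, app_eq_ap, app_eq_ap, Orth.polar_ap]
      semi := by
        rintro g ⟨τ, hτ⟩ hgB ⟨m, hm, hgm⟩
        obtain ⟨g', rfl⟩ := happ g
        have hg' : g' ∈ isometryGroup F ⇑Q := by
          intro x _
          show Q (app g' x) = Q x
          have h1 := hgB x x
          change lam _ = lam _ at h1
          rw [hB, hB, Orth.pl_self, Orth.pl_self] at h1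
          exact mul_left_cancel₀ h2 h1
        refine ⟨g', hM ⟨(hnorm g').2 fun k => ⟨τ k, hτ k⟩, ?_⟩, rfl⟩
        refine Orth.mem_omegaGL_iff.2 ⟨⟨g', hg'⟩, Orth.mem_omega_of_odd_pow hG hm ?_, rfl⟩
        refine Subtype.ext (gl_ext fun x => ?_)
        show app (g' ^ m) x = app 1 x
        rw [map_pow, hgm, map_one]
      det_one := by
        rintro _ ⟨g, hg, rfl⟩
        obtain ⟨h, hh, rfl⟩ := Orth.mem_omegaGL_iff.1 (hMΩ hg)
        have h1 := Abelianization.commutator_subset_ker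
          (Matrix.GeneralLinearGroup.det.comp (isometryGroup F ⇑Q).subtype) hh
        rw [show (app (h : GL ι F) : (ι → F) →ₗ[F] ι → F)
            = Matrix.toLin' ((h : GL ι F) : Matrix ι ι F) from
          LinearMap.ext fun x => by simp [app_apply], LinearMap.det_toLin']
        exact congrArg Units.val (MonoidHom.mem_ker.1 h1) }
  refine ⟨fun M hM hMΩ => ?_, ?_⟩
  · have hO := hthree M hM hMΩ
    by_cases hT : TorZero B (M.map app)
    · exact Or.inl fun g hg => (hnorm g).2 (hO.norms_of_torZero hT ⟨g, hg, rfl⟩)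
    · simp only [TorZero] at hT
      push Not at hT
      obtain ⟨a₁, ha₁, hs₁, P, hP, hP0⟩ := hT
      obtain ⟨fr, rfl⟩ := hO.exists_frame ha₁ hs₁
      have hroot₁ : ∀ k l : L, (eich Q (k • fr.a) (l • fr.a) : GL ι F) ∈ M := fun k l =>
        eich_of_root hO.toOrCore hB hMΩ h2 fr.aa (hO.roots_of_tor fr ⟨P, hP, hP0⟩ k l)
      refine Or.inr (omega_le_of_roots_three hO.toOrCore hB hMΩ h2 hG hn (by rw [hdeg]; omega)
        fr.ne_a fr.aa fun c hc => roots_all hO.toOrCore hB hMΩ h2 fr.aa (fun c hc0 hc => ?_)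
          hroot₁ hc)
      obtain ⟨g, hg, hgl, -, e, he, hgc⟩ := hO.exists_move fr hc0 hc
      exact ⟨g, hg, hgl, e, he, hgc⟩
  · have hO := hthree (Geo.omegaGL ⇑Q) inf_le_right le_rfl
    obtain ⟨a, ha, hs⟩ := hO.exists_singular
    obtain ⟨a', haa', ha'a, -⟩ := hO.exists_partner ha hs
    obtain ⟨l, hl1⟩ : ∃ l : L, l ∉ F ∙ (1 : L) := by
      by_contra h
      push Not at h
      have h1 := Submodule.finrank_mono
        (show (⊤ : Submodule F L) ≤ F ∙ (1 : L) from fun x _ => h x)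
      rw [finrank_top, finrank_span_singleton one_ne_zero, hdeg] at h1
      omega
    obtain ⟨ω, hωl, hω⟩ := Submodule.exists_dual_map_eq_bot_of_notMem hl1 inferInstance
    have hω1 : ω 1 = 0 := by
      have := Submodule.mem_map_of_mem (f := ω) (Submodule.mem_span_singleton_self (R := F) (1 : L))
      rwa [hω, Submodule.mem_bot] at this
    obtain ⟨α, hα⟩ := lam_repr hl ((ω l)⁻¹ • ω)
    have e1 : lam α = 0 := by
      rw [← mul_one α, ← hα, LinearMap.smul_apply, hω1, smul_zero]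
    have e2 : lam (α * l) = 1 := by
      rw [← hα, LinearMap.smul_apply, smul_eq_mul, inv_mul_cancel₀ hωl]
    have hα0 : α ≠ 0 := fun h => by rw [h, zero_mul, map_zero] at e2; exact zero_ne_one e2
    refine ⟨(eich Q a (l • a) : GL ι F), Orth.eich_mem_omegaGL hG hn _ _, fun hN => ?_⟩
    obtain ⟨k', hk'⟩ := (hnorm _).1 hN l
    have hpl : polar ⇑Q a (l • a) = 0 := by
      have := polar_line hB h2 hs (1 : L) l
      rwa [one_smul] at this
    have h1 := hk' (α • a')
    rw [app_eq_ap, app_eq_ap, Orth.eich_ap (Q_eq_zero hB h2 hs) hpl,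
      Orth.eich_ap (Q_eq_zero hB h2 hs) hpl, Q_eq_zero hB h2 (x := l • a) (by simp [hs]),
      ← hB, ← hB, ← hB, ← hB] at h1
    simp only [map_smul, LinearMap.smul_apply, haa', smul_eq_mul, mul_one, zero_mul, add_zero, e1,
      zero_smul, one_smul, mul_comm l α, e2] at h1
    have h4 := congrArg (B a) h1
    simp only [map_add, map_sub, map_smul, LinearMap.map_smul_of_tower, smul_eq_mul, hs, haa',
      mul_one, mul_zero, smul_zero, add_zero, sub_zero] at h4
    have hk : k' = l := mul_right_cancel₀ hα0 h4.symm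
    have h5 := congrArg (B a') h1
    simp only [hk, map_add, map_sub, map_smul, LinearMap.map_smul_of_tower, smul_eq_mul, ha'a,
      mul_one] at h5
    rw [← Algebra.algebraMap_eq_smul_one] at h5
    set t := lam (l * (α * l))
    refine hl1 (Submodule.mem_span_singleton.2 ⟨2⁻¹ * t, ?_⟩)
    rw [← Algebra.algebraMap_eq_smul_one, map_mul, map_inv₀, map_ofNat,
      inv_mul_eq_iff_eq_mul₀ h2L]
    linear_combination -h5

/-- The same for a field subalgebra. -/
theorem or_cases_three {r : ℕ} (hr : r.Prime) (hG : Orth.Good Q) (h2 : (2 : F) ≠ 0)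
    (h3r : 3 ≤ r) (hn3 : Fintype.card ι = 3 * r)
    {K : Subalgebra F (Matrix ι ι F)} (hK : Geo.IsFieldSubalgebra r K)
    (hsa : Geo.IsSelfAdjointFor (polar ⇑Q) K) :
    (∀ M : Subgroup (GL ι F), Geo.subalgebraNormalizer K ⊓ Geo.omegaGL ⇑Q ≤ M →
      M ≤ Geo.omegaGL ⇑Q → M ≤ Geo.subalgebraNormalizer K ∨ Geo.omegaGL ⇑Q ≤ M) ∧
    (∃ g ∈ Geo.omegaGL ⇑Q, g ∉ Geo.subalgebraNormalizer K) := by
  haveI : Finite (Matrix ι ι F) := inferInstanceAs (Finite (ι → ι → F))
  haveI : Nonempty ι := Fintype.card_pos_iff.1 (by omega)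
  have hA : IsField K := ⟨exists_pair_ne _, fun x y => Subtype.ext (hK.comm _ x.2 _ y.2),
    fun {x} hx => by
      obtain ⟨y, hy, h⟩ := hK.inv _ x.2 (fun h => hx (Subtype.ext h))
      exact ⟨⟨y, hy⟩, Subtype.ext h⟩⟩
  letI : Field K := hA.toField
  exact or_cases_three_aux (L := K) hr K.val hK.finrank_eq hG h2 h3r hn3
    (fun x => ⟨fun h => ⟨⟨x, h⟩, rfl⟩, fun ⟨l, hl⟩ => hl ▸ l.2⟩) hsa

end Cfsg.Agent.FieldExtMax
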